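import Groth.Agent.H30.NilFlat2
import Mathlib.RingTheory.Filtration
import Mathlib.RingTheory.Flat.Tensor
import Mathlib.RingTheory.TensorProduct.Finite
import Mathlib.RingTheory.Noetherian.Basic
import Mathlib.RingTheory.Jacobson.Ideal

/-! Local criterion of flatness (Matsumura 22.3), without `Tor` (helper57).
Builds on helper30's `Good` (a surrogate for the vanishing of `Tor₁`). -/

set_option autoImplicit false

universe u

open TensorProduct LinearMap

namespace Groth.Agent.H57

section general

variable {R : Type u} [CommRing R]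

/-- linear maps send `I • ⊤` into `I • ⊤`. -/
theorem map_mem_smul_top {T T' : Type*} [AddCommGroup T] [Module R T] [AddCommGroup T']
    [Module R T'] (I : Ideal R) (φ : T →ₗ[R] T') {x : T}
    (hx : x ∈ I • (⊤ : Submodule R T)) : φ x ∈ I • (⊤ : Submodule R T') := by
  refine Submodule.smul_induction_on hx (fun r hr t _ => ?_) (fun a b ha hb => ?_)
  · rw [map_smul]; exact Submodule.smul_mem_smul hr Submodule.mem_top
  · rw [map_add]; exact add_mem ha hb

/-- Restricting scalars: `I • ⊤` over `R` lies in `(IS) • ⊤` over `S`. -/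
theorem mem_map_smul_top_of_mem_smul_top {S T : Type*} [CommRing S] [Algebra R S]
    [AddCommGroup T] [Module R T] [Module S T] [IsScalarTower R S T] (I : Ideal R) (n : ℕ)
    {x : T} (hx : x ∈ (I ^ n • ⊤ : Submodule R T)) :
    x ∈ ((I.map (algebraMap R S)) ^ n • ⊤ : Submodule S T) := by
  refine Submodule.smul_induction_on hx (fun r hr t _ => ?_) (fun a b ha hb => add_mem ha hb)
  rw [← algebraMap_smul S r t]
  refine Submodule.smul_mem_smul ?_ Submodule.mem_top
  rw [← Ideal.map_pow]
  exact Ideal.mem_map_of_mem _ hr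

end general

/-- Core of the local criterion: if `M` is a finite module over a Noetherian `R`-algebra `S`,
`I S` lies in the Jacobson radical of `S`, and tensoring with `M` keeps every submodule of every
`R ⧸ I ^ k` injective, then `M` is flat over `R`. -/
theorem flat_of_forall_rTensor_injective {R S M : Type u} [CommRing R] [CommRing S]
    [IsNoetherianRing R] [IsNoetherianRing S] [Algebra R S] [AddCommGroup M] [Module R M]
    [Module S M] [IsScalarTower R S M] [Module.Finite S M] (I : Ideal R)
    (hI : I.map (algebraMap R S) ≤ Ideal.jacobson ⊥)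
    (H : ∀ (k : ℕ) (P : Submodule R (R ⧸ I ^ k)), Function.Injective (rTensor M P.subtype)) :
    Module.Flat R M := by
  rw [Module.Flat.iff_rTensor_injective']
  intro 𝔞
  rw [injective_iff_map_eq_zero]
  intro x hx
  -- step 1: `x ∈ I ^ n • ⊤` for all `n`
  have key : ∀ n : ℕ, x ∈ (I ^ n • ⊤ : Submodule R (𝔞 ⊗[R] M)) := by
    intro n
    obtain ⟨k₀, hk₀⟩ := Ideal.exists_pow_inf_eq_pow_smul I (𝔞 : Submodule R R)
    have hAR : (I ^ (n + k₀) : Ideal R) ⊓ 𝔞 ≤ I ^ n • 𝔞 := by
      have h1 := hk₀ (n + k₀) (Nat.le_add_left _ _)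
      rw [Nat.add_sub_cancel] at h1
      have h2 : (I ^ (n + k₀) • ⊤ : Submodule R R) = I ^ (n + k₀) := by
        rw [smul_eq_mul, Ideal.mul_top]
      rw [h2] at h1
      rw [h1]
      exact Submodule.smul_mono le_rfl inf_le_right
    obtain ⟨k, hk⟩ : ∃ k, k = n + k₀ := ⟨_, rfl⟩
    rw [← hk] at hAR
    let q : 𝔞 →ₗ[R] R ⧸ I ^ k := (Submodule.mkQ (I ^ k)) ∘ₗ 𝔞.subtype
    let P : Submodule R (R ⧸ I ^ k) := LinearMap.range q
    let q' : 𝔞 →ₗ[R] P := q.rangeRestrict
    have hq' : Function.Surjective q' := q.surjective_rangeRestrict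
    have hcomp : P.subtype ∘ₗ q' = q := LinearMap.ext fun _ => rfl
    have h1 : rTensor M q' x = 0 := by
      apply H k P
      rw [map_zero, ← LinearMap.comp_apply, ← rTensor_comp, hcomp]
      change rTensor M ((Submodule.mkQ (I ^ k)) ∘ₗ 𝔞.subtype) x = 0
      rw [rTensor_comp, LinearMap.comp_apply, hx, map_zero]
    have hex : Function.Exact (rTensor M (LinearMap.ker q').subtype) (rTensor M q') :=
      rTensor_exact M (LinearMap.exact_subtype_ker_map q') hq'
    have hmap : (I ^ n • (⊤ : Submodule R 𝔞)).map 𝔞.subtype = I ^ n • 𝔞 := by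
      rw [Submodule.map_smul'', Submodule.map_top, Submodule.range_subtype]
    have himg : ∀ y : (LinearMap.ker q') ⊗[R] M,
        rTensor M (LinearMap.ker q').subtype y ∈ (I ^ n • ⊤ : Submodule R (𝔞 ⊗[R] M)) := by
      intro y
      induction y using TensorProduct.induction_on with
      | zero => rw [map_zero]; exact zero_mem _
      | add y y' hy hy' => rw [map_add]; exact add_mem hy hy'
      | tmul c m =>
        have hc : q' c.1 = 0 := c.2
        have hc1 : q c.1 = 0 := by
          rw [← hcomp, LinearMap.comp_apply, hc, map_zero]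
        have hc2 : (c.1 : R) ∈ I ^ k := by
          have : Submodule.mkQ (I ^ k) (c.1 : R) = 0 := hc1
          rwa [Submodule.mkQ_apply, Submodule.Quotient.mk_eq_zero] at this
        have hc3 : (c.1 : R) ∈ I ^ n • 𝔞 := hAR ⟨hc2, c.1.2⟩
        rw [← hmap] at hc3
        obtain ⟨c', hc', hcc'⟩ := hc3
        have hc4 : c' = c.1 := Subtype.ext hcc'
        rw [hc4] at hc'
        rw [rTensor_tmul]
        exact map_mem_smul_top (I ^ n) ((TensorProduct.mk R 𝔞 M).flip m) hc'
    obtain ⟨y, rfl⟩ := (hex x).mp h1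
    exact himg y
  -- step 2: Krull's intersection theorem over `S`
  haveI : Module.Finite S (M ⊗[R] 𝔞) :=
    Module.Finite.equiv (AlgebraTensorModule.cancelBaseChange R S S M 𝔞)
  have hx' : ∀ n : ℕ, TensorProduct.comm R 𝔞 M x ∈
      ((I.map (algebraMap R S)) ^ n • ⊤ : Submodule S (M ⊗[R] 𝔞)) := by
    intro n
    apply mem_map_smul_top_of_mem_smul_top
    exact map_mem_smul_top (I ^ n) (TensorProduct.comm R 𝔞 M).toLinearMap (key n)
  have hzero : TensorProduct.comm R 𝔞 M x = 0 := by
    have h2 := Ideal.iInf_pow_smul_eq_bot_of_le_jacobson (M := M ⊗[R] 𝔞)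
      (I.map (algebraMap R S)) hI
    have h3 : TensorProduct.comm R 𝔞 M x ∈
        (⨅ i : ℕ, (I.map (algebraMap R S)) ^ i • ⊤ : Submodule S (M ⊗[R] 𝔞)) := by
      rw [Submodule.mem_iInf]; exact hx'
    rw [h2] at h3
    exact (Submodule.mem_bot S).mp h3
  exact (TensorProduct.comm R 𝔞 M).injective (by rw [hzero, map_zero])

section derive

open Groth.Agent.H30.NilFlat

variable {R : Type u} [CommRing R] {M : Type u} [AddCommGroup M] [Module R M]

/-- from flatness of `M / J M` over `R / J`. -/
theorem rTensor_subtype_injective_of_flat (J : Ideal R)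
    [Module.Flat (R ⧸ J) ((R ⧸ J) ⊗[R] M)] (P : Submodule R (R ⧸ J)) :
    Function.Injective (rTensor M P.subtype) := by
  let 𝔟 : Submodule (R ⧸ J) (R ⧸ J) :=
    { carrier := P
      add_mem' := fun ha hb => P.add_mem ha hb
      zero_mem' := P.zero_mem
      smul_mem' := fun b x hx => by
        obtain ⟨r, rfl⟩ := Ideal.Quotient.mk_surjective b
        have : (Ideal.Quotient.mk J r) • x = r • x := by
          rw [Algebra.smul_def]; rfl
        rw [this]
        exact P.smul_mem r hx }
  let e : P ≃ₗ[R] 𝔟 :=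
    { toFun := fun x => ⟨x.1, x.2⟩
      invFun := fun y => ⟨y.1, y.2⟩
      map_add' := fun _ _ => rfl
      map_smul' := fun _ _ => rfl
      left_inv := fun _ => rfl
      right_inv := fun _ => rfl }
  have h1 : Function.Injective (rTensor M (𝔟.subtype.restrictScalars R)) :=
    rTensor_restrictScalars_injective (A := R) (M := M) (R ⧸ J) 𝔟.subtype
      (Submodule.injective_subtype _)
  have h2 : P.subtype = (𝔟.subtype.restrictScalars R) ∘ₗ e.toLinearMap := rfl
  rw [h2, rTensor_comp]
  exact h1.comp (LinearEquiv.rTensor M e).injective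

/-- from the hypotheses of the local criterion, via helper30's `Good`. -/
theorem rTensor_subtype_injective_of_good (I : Ideal R)
    [Module.Flat (R ⧸ I) ((R ⧸ I) ⊗[R] M)]
    (hinj : Function.Injective (rTensor M I.subtype)) (k : ℕ) (P : Submodule R (R ⧸ I ^ k)) :
    Function.Injective (rTensor M P.subtype) := by
  have hG : Good R M ((R ⧸ I ^ k) ⧸ P) :=
    good_of_pow_smul_eq_zero I hinj k _ (fun a ha x => by
      obtain ⟨b, rfl⟩ := Submodule.mkQ_surjective P x
      obtain ⟨r, rfl⟩ := Ideal.Quotient.mk_surjective b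
      rw [← map_smul]
      have : a • (Ideal.Quotient.mk (I ^ k) r) = 0 := by
        rw [Algebra.smul_def]
        change Ideal.Quotient.mk (I ^ k) a * _ = 0
        rw [Ideal.Quotient.eq_zero_iff_mem.mpr ha, zero_mul]
      rw [this, map_zero])
  have key : ∀ (P' : Submodule R (R ⧸ I ^ k)), P' = P →
      Function.Injective (rTensor M P'.subtype) → Function.Injective (rTensor M P.subtype) := by
    rintro _ rfl h
    exact h
  exact key _ (Submodule.ker_mkQ P) (hG (R ⧸ I ^ k) P.mkQ (Submodule.mkQ_surjective P))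

end derive

/-- Local criterion of flatness, `Tor`-free form (Matsumura 22.3 (3) ⇒ (1)). -/
theorem flat_of_localCriterion {R S M : Type u} [CommRing R] [CommRing S]
    [IsNoetherianRing R] [IsNoetherianRing S] [Algebra R S] [AddCommGroup M] [Module R M]
    [Module S M] [IsScalarTower R S M] [Module.Finite S M] (I : Ideal R)
    (hI : I.map (algebraMap R S) ≤ Ideal.jacobson ⊥)
    (h1 : Function.Injective (rTensor M I.subtype))
    (h2 : Module.Flat (R ⧸ I) ((R ⧸ I) ⊗[R] M)) : Module.Flat R M :=
  flat_of_forall_rTensor_injective I hI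
    (fun k P => rTensor_subtype_injective_of_good I h1 k P)

/-- Local criterion of flatness, (5) ⇒ (1): flat modulo all powers of `I`. -/
theorem flat_of_flat_mod_pow {R S M : Type u} [CommRing R] [CommRing S]
    [IsNoetherianRing R] [IsNoetherianRing S] [Algebra R S] [AddCommGroup M] [Module R M]
    [Module S M] [IsScalarTower R S M] [Module.Finite S M] (I : Ideal R)
    (hI : I.map (algebraMap R S) ≤ Ideal.jacobson ⊥)
    (h : ∀ k : ℕ, Module.Flat (R ⧸ I ^ k) ((R ⧸ I ^ k) ⊗[R] M)) : Module.Flat R M :=
  flat_of_forall_rTensor_injective I hI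
    (fun k P => by
      haveI := h k
      exact rTensor_subtype_injective_of_flat (I ^ k) P)

end Groth.Agent.H57
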