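import Groth.Agent.H57.FlatPt4
import Groth.Agent.H48.FlatLimitMod

/-! Openness of the flat locus of a finitely presented module over a finitely presented algebra
(helper57), via the trivial square-zero extension of a polynomial ring. -/

set_option autoImplicit false

universe u

open TensorProduct

namespace Groth.Agent.H57.FlatPt

attribute [local instance] Groth.Agent.H48.FlatLimit.opModule

/-- Flatness of the local ring at a prime, module form. -/
theorem flat_atPrime_iff_localizedModule {A D : Type u} [CommRing A] [CommRing D] [Algebra A D]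
    (𝔮 : Ideal D) [𝔮.IsPrime] :
    Module.Flat A (Localization.AtPrime 𝔮) ↔ Module.Flat A (LocalizedModule 𝔮.primeCompl D) := by
  let e : LocalizedModule 𝔮.primeCompl D ≃ₗ[D] Localization.AtPrime 𝔮 :=
    IsLocalizedModule.iso 𝔮.primeCompl (Algebra.linearMap D (Localization.AtPrime 𝔮))
  exact ⟨fun h => Module.Flat.of_linearEquiv (e.restrictScalars A),
    fun h => Module.Flat.of_linearEquiv (e.restrictScalars A).symm⟩

theorem lTensor_rTensor_comm {R N₁ N₂ X Y : Type u} [CommRing R] [AddCommGroup N₁]
    [AddCommGroup N₂] [AddCommGroup X] [AddCommGroup Y] [Module R N₁] [Module R N₂] [Module R X]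
    [Module R Y] (g : N₁ →ₗ[R] N₂) (v : X →ₗ[R] Y) (z : N₁ ⊗[R] X) :
    v.lTensor N₂ (g.rTensor X z) = g.rTensor Y (v.lTensor N₁ z) := by
  induction z using TensorProduct.induction_on with
  | zero => simp
  | tmul n x => simp
  | add a b ha hb => simp only [map_add, ha, hb]

section Tsze

variable {R P S M : Type u} [CommRing R] [CommRing P] [CommRing S] [Algebra R P] [Algebra R S]
  [Algebra P S] [IsScalarTower R P S] [AddCommGroup M] [Module R M] [Module P M] [Module S M]
  [IsScalarTower R P M] [IsScalarTower R S M] [IsScalarTower P S M]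

variable (R P S M) in
/-- The ring map `P ⊕ M → P → S`. -/
noncomputable def rho : TrivSqZeroExt P M →+* S :=
  (algebraMap P S).comp (TrivSqZeroExt.fstHom R P M).toRingHom

omit [Algebra R S] [IsScalarTower R P S] [Module S M] [IsScalarTower R S M] [IsScalarTower P S M] in
theorem rho_apply (c : TrivSqZeroExt P M) : rho R P S M c = algebraMap P S c.fst := rfl

variable (R P M) in
/-- `M → P ⊕ M`, `R`-linear. -/
noncomputable def iM : M →ₗ[R] TrivSqZeroExt P M :=
  (TrivSqZeroExt.inrHom P M).restrictScalars R

variable (R P M) in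
/-- `P ⊕ M → M`, `R`-linear. -/
noncomputable def sM : TrivSqZeroExt P M →ₗ[R] M :=
  (TrivSqZeroExt.sndHom P M).restrictScalars R

variable (R P M) in
/-- `P ⊕ M → P`, `R`-linear. -/
noncomputable def fP : TrivSqZeroExt P M →ₗ[R] P :=
  (TrivSqZeroExt.fstHom R P M).toLinearMap

variable (R P M) in
/-- `P → P ⊕ M`, `R`-linear. -/
noncomputable def iP : P →ₗ[R] TrivSqZeroExt P M :=
  (TrivSqZeroExt.inlAlgHom R P M).toLinearMap

omit [Algebra R S] [Algebra P S] [IsScalarTower R P S] [Module S M] [IsScalarTower R S M]
  [IsScalarTower P S M] in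
theorem sM_comp_iM : (sM R P M).comp (iM R P M) = LinearMap.id := by
  ext m
  rfl

omit [Algebra R S] [Algebra P S] [IsScalarTower R P S] [Module S M] [IsScalarTower R S M]
  [IsScalarTower P S M] in
theorem decomp_id : (iP R P M).comp (fP R P M) + (iM R P M).comp (sM R P M) = LinearMap.id := by
  exact LinearMap.ext fun c => TrivSqZeroExt.inl_fst_add_inr_snd_eq c

variable (X : Type u) [AddCommGroup X] [Module R X]

omit [Algebra R S] [Algebra P S] [IsScalarTower R P S] [Module S M] [IsScalarTower R S M]
  [IsScalarTower P S M] in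
theorem sn_I (y : M ⊗[R] X) : (sM R P M).rTensor X ((iM R P M).rTensor X y) = y := by
  rw [← LinearMap.comp_apply, ← LinearMap.rTensor_comp, sM_comp_iM, LinearMap.rTensor_id,
    LinearMap.id_apply]

omit [Algebra R S] [Algebra P S] [IsScalarTower R P S] [Module S M] [IsScalarTower R S M]
  [IsScalarTower P S M] in
theorem decomp (z : TrivSqZeroExt P M ⊗[R] X) :
    z = (iP R P M).rTensor X ((fP R P M).rTensor X z) +
      (iM R P M).rTensor X ((sM R P M).rTensor X z) := by
  rw [← LinearMap.comp_apply, ← LinearMap.comp_apply, ← LinearMap.rTensor_comp,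
    ← LinearMap.rTensor_comp, ← LinearMap.add_apply, ← LinearMap.rTensor_add, decomp_id,
    LinearMap.rTensor_id, LinearMap.id_apply]

omit [Algebra R S] [Algebra P S] [IsScalarTower R P S] [Module S M] [IsScalarTower R S M]
  [IsScalarTower P S M] in
theorem mul_inr' (c : TrivSqZeroExt P M) (m : M) :
    c * TrivSqZeroExt.inr m = TrivSqZeroExt.inr (c.fst • m) := by
  ext <;> simp

omit [Algebra R S] [Algebra P S] [IsScalarTower R P S] [Module S M] [IsScalarTower R S M]
  [IsScalarTower P S M] in
theorem smul_I (c : TrivSqZeroExt P M) (y : M ⊗[R] X) :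
    c • (iM R P M).rTensor X y = (iM R P M).rTensor X (c.fst • y) := by
  induction y using TensorProduct.induction_on with
  | zero => simp
  | tmul m x =>
    rw [LinearMap.rTensor_tmul, TensorProduct.smul_tmul', TensorProduct.smul_tmul',
      LinearMap.rTensor_tmul]
    congr 1
    show c * TrivSqZeroExt.inr m = TrivSqZeroExt.inr (c.fst • m)
    exact mul_inr' c m
  | add a b ha hb => simp only [smul_add, map_add, ha, hb]

omit [IsScalarTower R P S] in
theorem smul_eq_algebraMap_smul (p : P) (y : M ⊗[R] X) :
    p • y = algebraMap P S p • y := by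
  induction y using TensorProduct.induction_on with
  | zero => simp
  | tmul m x =>
    rw [TensorProduct.smul_tmul', TensorProduct.smul_tmul', algebraMap_smul]
  | add a b ha hb => simp only [smul_add, ha, hb]

omit [IsScalarTower R P S] in
theorem flat_tsze_iff [Module.Flat R P] (hsurj : Function.Surjective (algebraMap P S))
    (q : Ideal S) [q.IsPrime] :
    Module.Flat R (LocalizedModule q.primeCompl M) ↔
      Module.Flat R (LocalizedModule (q.comap (rho R P S M)).primeCompl
        (TrivSqZeroExt P M)) := by
  constructor
  · intro hfl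
    refine Groth.Agent.H57.flat_localizedModule_of_forall _ _ (fun X Y _ _ _ _ v hv z hz => ?_)
    have hF : (fP R P M).rTensor X z = 0 := by
      apply Module.Flat.lTensor_preserves_injective_linearMap (M := P) v hv
      rw [map_zero, lTensor_rTensor_comm, hz, map_zero]
    have hS : v.lTensor M ((sM R P M).rTensor X z) = 0 := by
      rw [lTensor_rTensor_comm, hz, map_zero]
    obtain ⟨t, ht⟩ := Groth.Agent.H57.exists_smul_eq_zero_of_lTensor_injective q.primeCompl M v
      (Module.Flat.lTensor_preserves_injective_linearMap v hv) _ hS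
    obtain ⟨p, hp⟩ := hsurj t.1
    have hz' : z = (iM R P M).rTensor X ((sM R P M).rTensor X z) := by
      conv_lhs => rw [decomp X z, hF, map_zero, zero_add]
    refine ⟨⟨TrivSqZeroExt.inl p, ?_⟩, ?_⟩
    · show TrivSqZeroExt.inl p ∉ q.comap (rho R P S M)
      rw [Ideal.mem_comap, rho_apply, TrivSqZeroExt.fst_inl, hp]
      exact t.2
    · rw [Submonoid.mk_smul, hz', smul_I, TrivSqZeroExt.fst_inl,
        smul_eq_algebraMap_smul (S := S), hp]
      rw [Submonoid.smul_def] at ht
      rw [ht, map_zero]
  · intro hfl
    refine Groth.Agent.H57.flat_localizedModule_of_forall _ _ (fun X Y _ _ _ _ v hv y hy => ?_)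
    have hz : v.lTensor (TrivSqZeroExt P M) ((iM R P M).rTensor X y) = 0 := by
      rw [lTensor_rTensor_comm, hy, map_zero]
    obtain ⟨t, ht⟩ := Groth.Agent.H57.exists_smul_eq_zero_of_lTensor_injective
      (q.comap (rho R P S M)).primeCompl (TrivSqZeroExt P M) v
      (Module.Flat.lTensor_preserves_injective_linearMap v hv) _ hz
    refine ⟨⟨algebraMap P S t.1.fst, t.2⟩, ?_⟩
    show algebraMap P S t.1.fst • y = 0
    rw [← smul_eq_algebraMap_smul]
    rw [Submonoid.smul_def, smul_I] at ht
    have h2 := congrArg ((sM R P M).rTensor X) ht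
    rwa [sn_I, map_zero] at h2

omit [IsScalarTower R P S] in
theorem isOpen_flat_module_locus_of_surjective [Module.Flat R P] [Algebra.FinitePresentation R P]
    [Module.FinitePresentation P M] (hsurj : Function.Surjective (algebraMap P S)) :
    IsOpen {q : PrimeSpectrum S | Module.Flat R (LocalizedModule q.asIdeal.primeCompl M)} := by
  haveI : Module.FinitePresentation P (TrivSqZeroExt P M) :=
    inferInstanceAs (Module.FinitePresentation P (P × M))
  haveI : Algebra.FinitePresentation P (TrivSqZeroExt P M) := inferInstance
  haveI : Algebra.FinitePresentation R (TrivSqZeroExt P M) :=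
    Algebra.FinitePresentation.trans R P (TrivSqZeroExt P M)
  have hopen := isOpen_flatLocus R (TrivSqZeroExt P M)
  have heq : {q : PrimeSpectrum S | Module.Flat R (LocalizedModule q.asIdeal.primeCompl M)} =
      PrimeSpectrum.comap (rho R P S M) ⁻¹' flatLocus R (TrivSqZeroExt P M) := by
    ext q
    exact (flat_tsze_iff hsurj q.asIdeal).trans (flat_atPrime_iff_localizedModule _).symm
  rw [heq]
  exact hopen.preimage (PrimeSpectrum.continuous_comap _)

end Tsze

/-- **Openness of the flat locus of a finitely presented module** over a finitely presented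
algebra. -/
theorem isOpen_flat_module_locus {R S M : Type u} [CommRing R] [CommRing S] [Algebra R S]
    [Algebra.FinitePresentation R S] [AddCommGroup M] [Module S M] [Module R M]
    [IsScalarTower R S M] [Module.FinitePresentation S M] :
    IsOpen {q : PrimeSpectrum S | Module.Flat R (LocalizedModule q.asIdeal.primeCompl M)} := by
  obtain ⟨n, f, hf, hker⟩ := Algebra.FinitePresentation.out (R := R) (A := S)
  letI : Algebra (MvPolynomial (Fin n) R) S := f.toRingHom.toAlgebra
  haveI : IsScalarTower R (MvPolynomial (Fin n) R) S :=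
    IsScalarTower.of_algebraMap_eq (fun r => (f.commutes r).symm)
  letI : Module (MvPolynomial (Fin n) R) M :=
    Module.compHom M (algebraMap (MvPolynomial (Fin n) R) S)
  haveI : IsScalarTower (MvPolynomial (Fin n) R) S M := ⟨fun p s m => by
    show (p • s) • m = (algebraMap (MvPolynomial (Fin n) R) S p) • (s • m)
    rw [Algebra.smul_def, mul_smul]⟩
  haveI : IsScalarTower R (MvPolynomial (Fin n) R) M := ⟨fun r p m => by
    show algebraMap (MvPolynomial (Fin n) R) S (r • p) • m =
      r • (algebraMap (MvPolynomial (Fin n) R) S p • m)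
    rw [Algebra.smul_def, map_mul, ← IsScalarTower.algebraMap_apply, mul_smul, algebraMap_smul]⟩
  haveI : Module.FinitePresentation (MvPolynomial (Fin n) R) S := by
    refine Module.finitePresentation_of_surjective
      (Algebra.linearMap (MvPolynomial (Fin n) R) S) hf ?_
    have h1 : LinearMap.ker (Algebra.linearMap (MvPolynomial (Fin n) R) S) =
        RingHom.ker f.toRingHom := by
      ext x
      rfl
    rw [h1]
    exact hker
  haveI : Module.FinitePresentation (MvPolynomial (Fin n) R) M :=
    Module.FinitePresentation.trans (MvPolynomial (Fin n) R) M S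
  exact isOpen_flat_module_locus_of_surjective (P := MvPolynomial (Fin n) R) hf

end Groth.Agent.H57.FlatPt
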