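import Groth.Agent.H30.NilFlat2
import Mathlib.LinearAlgebra.TensorProduct.Pi
import Mathlib.RingTheory.Flat.Tensor
import Mathlib.Algebra.Module.Torsion.Basic

/-! Descent of flatness modulo a nilpotent ideal along a finite jointly injective family of
algebras (EGA IV 11.4-type lemma), `Tor`-free (helper57). -/

set_option autoImplicit false

universe u

open TensorProduct LinearMap

namespace Groth.Agent.H57

open Groth.Agent.H30.NilFlat

section

variable {A : Type u} [CommRing A] {M : Type u} [AddCommGroup M] [Module A M]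

theorem rTensor_injective_of_subsingleton {P Q : Type*} [AddCommGroup P] [Module A P]
    [AddCommGroup Q] [Module A Q] [Subsingleton P] (f : P →ₗ[A] Q) :
    Function.Injective (rTensor M f) := by
  have h0 : ∀ z : P ⊗[A] M, z = 0 := by
    intro z
    induction z using TensorProduct.induction_on with
    | zero => rfl
    | tmul p m => rw [Subsingleton.elim p 0, TensorProduct.zero_tmul]
    | add a b ha hb => rw [ha, hb, add_zero]
  intro a b _
  rw [h0 a, h0 b]

/-- ideals of a `B` with `B ⊗ M` flat over `B` stay injective after `⊗_A M`. -/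
theorem rTensor_restrictScalars_subtype_injective (B : Type u) [CommRing B] [Algebra A B]
    [Module.Flat B (B ⊗[A] M)] (𝔮 : Ideal B) :
    Function.Injective (rTensor M (𝔮.restrictScalars A).subtype) := by
  let e : (𝔮.restrictScalars A) ≃ₗ[A] 𝔮 :=
    { toFun := fun x => ⟨x.1, x.2⟩
      invFun := fun y => ⟨y.1, y.2⟩
      map_add' := fun _ _ => rfl
      map_smul' := fun _ _ => rfl
      left_inv := fun _ => rfl
      right_inv := fun _ => rfl }
  have h1 : Function.Injective (rTensor M (𝔮.subtype.restrictScalars A)) :=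
    rTensor_restrictScalars_injective (A := A) (M := M) B 𝔮.subtype
      (Submodule.injective_subtype _)
  have h2 : (𝔮.restrictScalars A).subtype = (𝔮.subtype.restrictScalars A) ∘ₗ e.toLinearMap := rfl
  rw [h2, rTensor_comp]
  exact h1.comp (LinearEquiv.rTensor M e).injective

/-- an element of `(∏ Wᵢ) ⊗ M` (finite product) all of whose components vanish is zero. -/
theorem eq_zero_of_rTensor_proj_eq_zero {ι : Type u} [Finite ι] (W : ι → Type u)
    [∀ i, AddCommGroup (W i)] [∀ i, Module A (W i)] (z : (∀ i, W i) ⊗[A] M)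
    (hz : ∀ i, rTensor M (LinearMap.proj i : (∀ i, W i) →ₗ[A] W i) z = 0) : z = 0 := by
  classical
  haveI : Fintype ι := Fintype.ofFinite ι
  have hpi : ∀ z : (∀ i, W i) ⊗[A] M, ∀ i,
      TensorProduct.piLeft A M W z i = rTensor M (LinearMap.proj i) z := by
    intro z i
    induction z using TensorProduct.induction_on with
    | zero => simp
    | tmul w m => simp
    | add a b ha hb => rw [map_add, map_add, Pi.add_apply, ha, hb]
  apply (TensorProduct.piLeft A M W).injective
  rw [map_zero]
  funext i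
  rw [hpi, hz, Pi.zero_apply]

variable (J : Ideal A) [Module.Flat (A ⧸ J) ((A ⧸ J) ⊗[A] M)]

theorem rTensor_injective_of_quot_module {V W : Type u} [AddCommGroup V] [Module A V]
    [Module (A ⧸ J) V] [IsScalarTower A (A ⧸ J) V] [AddCommGroup W] [Module A W]
    [Module (A ⧸ J) W] [IsScalarTower A (A ⧸ J) W] (f : V →ₗ[A] W)
    (hf : Function.Injective f) : Function.Injective (rTensor M f) := by
  let f' : V →ₗ[A ⧸ J] W :=
    { toFun := f
      map_add' := f.map_add
      map_smul' := fun c v => by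
        obtain ⟨a, rfl⟩ := Ideal.Quotient.mk_surjective c
        have e1 : (Ideal.Quotient.mk J a) • v = a • v := algebraMap_smul (A ⧸ J) a v
        have e2 : (Ideal.Quotient.mk J a) • f v = a • f v := algebraMap_smul (A ⧸ J) a (f v)
        rw [RingHom.id_apply, e1, e2, map_smul] }
  have hfA : f'.restrictScalars A = f := LinearMap.ext fun _ => rfl
  rw [← hfA]
  exact rTensor_restrictScalars_injective (A := A) (M := M) (A ⧸ J) f' hf

theorem rTensor_injective_of_torsion {V W : Type u} [AddCommGroup V] [Module A V]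
    [AddCommGroup W] [Module A W] (hV : Module.IsTorsionBySet A V (J : Set A))
    (hW : Module.IsTorsionBySet A W (J : Set A)) (f : V →ₗ[A] W)
    (hf : Function.Injective f) : Function.Injective (rTensor M f) := by
  letI := hV.module
  haveI := hV.isScalarTower (S := A)
  letI := hW.module
  haveI := hW.isScalarTower (S := A)
  exact rTensor_injective_of_quot_module (M := M) J f hf

/-- joint injectivity of a finite family of maps between `J`-torsion modules persists after
`⊗ M`. -/
theorem eq_zero_of_rTensor_family_eq_zero {ι : Type u} [Finite ι] {V : Type u} [AddCommGroup V]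
    [Module A V] (W : ι → Type u) [∀ i, AddCommGroup (W i)] [∀ i, Module A (W i)]
    (hV : Module.IsTorsionBySet A V (J : Set A))
    (hW : ∀ i, Module.IsTorsionBySet A (W i) (J : Set A))
    (f : ∀ i, V →ₗ[A] W i) (hf : ∀ v, (∀ i, f i v = 0) → v = 0)
    (z : V ⊗[A] M) (hz : ∀ i, rTensor M (f i) z = 0) : z = 0 := by
  have hWpi : Module.IsTorsionBySet A (∀ i, W i) (J : Set A) := by
    intro w j
    funext i
    exact @hW i (w i) j
  have hinj : Function.Injective (LinearMap.pi f) := by
    rw [injective_iff_map_eq_zero]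
    intro v hv
    exact hf v (fun i => congrFun hv i)
  have h1 := rTensor_injective_of_torsion (M := M) J hV hWpi (LinearMap.pi f) hinj
  apply h1
  rw [map_zero]
  apply eq_zero_of_rTensor_proj_eq_zero W
  intro i
  rw [← LinearMap.comp_apply, ← rTensor_comp, LinearMap.proj_pi]
  exact hz i

/-- the abstract induction step. -/
theorem step_ideals {ι : Type u} [Finite ι] (E' E : Ideal A) (hle : E' ≤ E)
    (W : ι → Type u) [∀ i, AddCommGroup (W i)] [∀ i, Module A (W i)]
    (hW : ∀ i, Module.IsTorsionBySet A (W i) (J : Set A))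
    (γ : ∀ i, E →ₗ[A] W i)
    (h1 : ∀ i (a : E), a.1 ∈ E' → γ i a = 0)
    (h2 : ∀ a : E, (∀ i, γ i a = 0) → a.1 ∈ E')
    (h3 : ∀ j ∈ J, ∀ a ∈ E, j * a ∈ E')
    (h5 : ∀ x : E ⊗[A] M, rTensor M E.subtype x = 0 → ∀ i, rTensor M (γ i) x = 0)
    (h6 : Function.Injective (rTensor M E'.subtype)) :
    Function.Injective (rTensor M E.subtype) := by
  rw [injective_iff_map_eq_zero]
  intro x hx
  obtain ⟨s, hs⟩ : ∃ s : E' →ₗ[A] E, s = Submodule.inclusion hle := ⟨_, rfl⟩
  have hsmem : ∀ a : E, a ∈ LinearMap.range s ↔ a.1 ∈ E' := by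
    intro a
    rw [hs]
    constructor
    · rintro ⟨b, rfl⟩
      exact b.2
    · intro ha
      exact ⟨⟨a.1, ha⟩, rfl⟩
  have hV : Module.IsTorsionBySet A (E ⧸ LinearMap.range s) (J : Set A) := by
    intro v j
    obtain ⟨a, rfl⟩ := Submodule.mkQ_surjective _ v
    rw [← map_smul, Submodule.mkQ_apply, Submodule.Quotient.mk_eq_zero, hsmem]
    exact h3 j.1 j.2 a.1 a.2
  have hle' : ∀ i, LinearMap.range s ≤ LinearMap.ker (γ i) := by
    intro i a ha
    rw [LinearMap.mem_ker]
    exact h1 i a ((hsmem a).mp ha)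
  have hf : ∀ v : E ⧸ LinearMap.range s,
      (∀ i, (LinearMap.range s).liftQ (γ i) (hle' i) v = 0) → v = 0 := by
    intro v hv
    obtain ⟨a, rfl⟩ := Submodule.mkQ_surjective _ v
    rw [Submodule.mkQ_apply, Submodule.Quotient.mk_eq_zero, hsmem]
    apply h2
    intro i
    have := hv i
    rwa [Submodule.mkQ_apply, Submodule.liftQ_apply] at this
  have hq : rTensor M (LinearMap.range s).mkQ x = 0 := by
    apply eq_zero_of_rTensor_family_eq_zero (M := M) J W hV hW
      (fun i => (LinearMap.range s).liftQ (γ i) (hle' i)) hf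
    intro i
    rw [← LinearMap.comp_apply, ← rTensor_comp, Submodule.liftQ_mkQ]
    exact h5 x hx i
  have hex : Function.Exact (rTensor M s) (rTensor M (LinearMap.range s).mkQ) :=
    rTensor_exact M (LinearMap.exact_map_mkQ_range s) (Submodule.mkQ_surjective _)
  obtain ⟨y, rfl⟩ := (hex x).mp hq
  have hy : y = 0 := by
    apply h6
    rw [map_zero]
    have e : E'.subtype = E.subtype ∘ₗ s := by rw [hs]; rfl
    rw [e, rTensor_comp, LinearMap.comp_apply]
    exact hx
  rw [hy, map_zero]

end

section concrete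

variable {A : Type u} [CommRing A] {M : Type u} [AddCommGroup M] [Module A M]
variable (B : Type u) [CommRing B] [Algebra A B] (J : Ideal A)

/-- `(J B)^k` as `A`-submodule of `B`. -/
def Pk (k : ℕ) : Submodule A B := ((J.map (algebraMap A B)) ^ k).restrictScalars A

/-- `(J B)^(k+1)` inside `(J B)^k`. -/
def Dk (k : ℕ) : Submodule A (Pk B J k) :=
  Submodule.comap (Pk B J k).subtype (Pk B J (k + 1))

theorem mem_Dk {k : ℕ} {p : Pk B J k} :
    p ∈ Dk B J k ↔ p.1 ∈ (J.map (algebraMap A B)) ^ (k + 1) := Iff.rfl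

theorem grB_torsion (k : ℕ) : Module.IsTorsionBySet A (Pk B J k ⧸ Dk B J k) (J : Set A) := by
  intro w j
  obtain ⟨p, rfl⟩ := Submodule.mkQ_surjective (Dk B J k) w
  rw [← map_smul, Submodule.mkQ_apply, Submodule.Quotient.mk_eq_zero, mem_Dk]
  have h1 : ((j : A) • p : Pk B J k).1 = algebraMap A B j * p.1 := by
    change (j : A) • p.1 = _
    rw [Algebra.smul_def]
  rw [h1, pow_succ']
  exact Ideal.mul_mem_mul (Ideal.mem_map_of_mem _ j.2) p.2

/-- the map `E → (J B)^k` induced by `A → B`. -/
def gk (k : ℕ) (E : Ideal A)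
    (hE : ∀ a ∈ E, algebraMap A B a ∈ (J.map (algebraMap A B)) ^ k) : E →ₗ[A] Pk B J k :=
  LinearMap.codRestrict (Pk B J k) ((Algebra.linearMap A B) ∘ₗ E.subtype) (fun a => hE a.1 a.2)

theorem gk_apply_coe (k : ℕ) (E : Ideal A)
    (hE : ∀ a ∈ E, algebraMap A B a ∈ (J.map (algebraMap A B)) ^ k) (a : E) :
    (gk B J k E hE a).1 = algebraMap A B a.1 := rfl

theorem rTensor_Pk_subtype_injective [Module.Flat B (B ⊗[A] M)] (k : ℕ) :
    Function.Injective (rTensor M (Pk B J k).subtype) :=
  rTensor_restrictScalars_subtype_injective (M := M) B ((J.map (algebraMap A B)) ^ k)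

theorem rTensor_gk_eq_zero [Module.Flat B (B ⊗[A] M)] (k : ℕ) (E : Ideal A)
    (hE : ∀ a ∈ E, algebraMap A B a ∈ (J.map (algebraMap A B)) ^ k) (x : E ⊗[A] M)
    (hx : rTensor M E.subtype x = 0) : rTensor M (gk B J k E hE) x = 0 := by
  apply rTensor_Pk_subtype_injective (M := M) B J k
  rw [map_zero, ← LinearMap.comp_apply, ← rTensor_comp]
  have e : (Pk B J k).subtype ∘ₗ gk B J k E hE = (Algebra.linearMap A B) ∘ₗ E.subtype :=
    LinearMap.ext fun _ => rfl
  rw [e, rTensor_comp, LinearMap.comp_apply, hx, map_zero]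

end concrete

section family

variable {A : Type u} [CommRing A] {M : Type u} [AddCommGroup M] [Module A M]
variable {ι : Type u} (B : ι → Type u) [∀ i, CommRing (B i)] [∀ i, Algebra A (B i)] (J : Ideal A)

/-- the filtration `J ∩ ⋂ᵢ (Jᵏ Bᵢ ∩ A)`. -/
def filt (k : ℕ) : Ideal A :=
  J ⊓ ⨅ i, Ideal.comap (algebraMap A (B i)) ((J.map (algebraMap A (B i))) ^ k)

theorem mem_filt {k : ℕ} {a : A} :
    a ∈ filt B J k ↔ a ∈ J ∧ ∀ i, algebraMap A (B i) a ∈ (J.map (algebraMap A (B i))) ^ k := by
  simp [filt]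

theorem filt_one : filt B J 1 = J := by
  apply le_antisymm inf_le_left
  intro a ha
  exact (mem_filt B J).mpr ⟨ha, fun i => by rw [pow_one]; exact Ideal.mem_map_of_mem _ ha⟩

theorem filt_succ_le (k : ℕ) : filt B J (k + 1) ≤ filt B J k := by
  intro a ha
  rw [mem_filt] at ha ⊢
  exact ⟨ha.1, fun i => Ideal.pow_le_pow_right (Nat.le_succ k) (ha.2 i)⟩

theorem mul_mem_filt_succ {k : ℕ} {j a : A} (hj : j ∈ J) (ha : a ∈ filt B J k) :
    j * a ∈ filt B J (k + 1) := by
  rw [mem_filt] at ha ⊢
  refine ⟨J.mul_mem_right _ hj, fun i => ?_⟩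
  rw [map_mul, pow_succ']
  exact Ideal.mul_mem_mul (Ideal.mem_map_of_mem _ hj) (ha.2 i)

theorem eq_zero_of_mem_filt (hker : ∀ a : A, (∀ i, algebraMap A (B i) a = 0) → a = 0)
    {n : ℕ} (hn : J ^ n = ⊥) {a : A} (ha : a ∈ filt B J n) : a = 0 := by
  rw [mem_filt] at ha
  apply hker
  intro i
  have h1 := ha.2 i
  rwa [← Ideal.map_pow, hn, Ideal.map_bot, Ideal.mem_bot] at h1

variable [Finite ι] [Module.Flat (A ⧸ J) ((A ⧸ J) ⊗[A] M)]
  [∀ i, Module.Flat (B i) (B i ⊗[A] M)]

/-- one step of the descending induction. -/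
theorem filt_step (k : ℕ)
    (hE : Function.Injective (rTensor M (filt B J (k + 1)).subtype)) :
    Function.Injective (rTensor M (filt B J k).subtype) := by
  have hmem : ∀ i, ∀ a ∈ filt B J k,
      algebraMap A (B i) a ∈ (J.map (algebraMap A (B i))) ^ k :=
    fun i a ha => ((mem_filt B J).mp ha).2 i
  refine step_ideals (M := M) J (filt B J (k + 1)) (filt B J k) (filt_succ_le B J k)
    (fun i => Pk (B i) J k ⧸ Dk (B i) J k) (fun i => grB_torsion (B i) J k)
    (fun i => (Dk (B i) J k).mkQ ∘ₗ gk (B i) J k (filt B J k) (hmem i)) ?_ ?_ ?_ ?_ hE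
  · intro i a ha
    rw [LinearMap.comp_apply, Submodule.mkQ_apply, Submodule.Quotient.mk_eq_zero, mem_Dk]
    exact ((mem_filt B J).mp ha).2 i
  · intro a ha
    refine (mem_filt B J).mpr ⟨((mem_filt B J).mp a.2).1, fun i => ?_⟩
    have h := ha i
    rw [LinearMap.comp_apply, Submodule.mkQ_apply, Submodule.Quotient.mk_eq_zero, mem_Dk] at h
    exact h
  · intro j hj a ha
    exact mul_mem_filt_succ B J hj ha
  · intro x hx i
    rw [rTensor_comp, LinearMap.comp_apply, rTensor_gk_eq_zero (B i) J k _ (hmem i) x hx,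
      map_zero]

/-- Descent of flatness: `J` nilpotent, `M / J M` flat over `A / J`, and `Bᵢ ⊗ M` flat over `Bᵢ` for
a finite family of `A`-algebras with `⋂ ker (A → Bᵢ) = 0`. Then `M` is flat over `A`. -/
theorem flat_of_nilpotent_of_baseChange
    (hker : ∀ a : A, (∀ i, algebraMap A (B i) a = 0) → a = 0) (hJ : IsNilpotent J) :
    Module.Flat A M := by
  obtain ⟨n, hn⟩ := hJ
  have hn1 : J ^ (n + 1) = ⊥ := by
    rw [pow_succ, hn]
    exact Ideal.bot_mul _
  have hall : ∀ d k : ℕ, k + d = n + 1 →
      Function.Injective (rTensor M (filt B J k).subtype) := by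
    intro d
    induction d with
    | zero =>
      intro k hk
      rw [add_zero] at hk
      subst hk
      haveI : Subsingleton (filt B J (n + 1)) :=
        ⟨fun a b => Subtype.ext (by
          rw [eq_zero_of_mem_filt B J hker hn1 a.2, eq_zero_of_mem_filt B J hker hn1 b.2])⟩
      exact rTensor_injective_of_subsingleton _
    | succ d ih =>
      intro k hk
      exact filt_step B J k (ih (k + 1) (by omega))
  have h1 : Function.Injective (rTensor M (filt B J 1).subtype) := hall n 1 (by omega)
  have key : ∀ (J' : Ideal A), J' = J → Function.Injective (rTensor M J'.subtype) →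
      Function.Injective (rTensor M J.subtype) := by
    rintro _ rfl h
    exact h
  exact flat_of_nilpotent J ⟨n, hn⟩ inferInstance (key _ (filt_one B J) h1)

end family

end Groth.Agent.H57
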