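import Groth.Agent.H57.LocalCrit
import Groth.Agent.H57.NilDescent
import Mathlib.RingTheory.AdicCompletion.Basic
import Mathlib.RingTheory.Ideal.Over
import Mathlib.RingTheory.Ideal.AssociatedPrime.Finiteness
import Mathlib.RingTheory.Flat.TorsionFree
import Mathlib.RingTheory.Localization.Ideal
import Mathlib.LinearAlgebra.TensorProduct.Quotient

/-! Local criterion of flatness for ideally separated modules, and flatness modulo an ideal
via finite families of algebras (helper57). -/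

set_option autoImplicit false

universe u

open TensorProduct LinearMap

namespace Groth.Agent.H57

open Groth.Agent.H30.NilFlat

/-- Step 1 of the local criterion (Artin–Rees): an element of the kernel of `𝔞 ⊗ M → M` lies in
`Iⁿ (𝔞 ⊗ M)` for all `n`. -/
theorem mem_pow_smul_top_of_rTensor_eq_zero {R M : Type u} [CommRing R] [IsNoetherianRing R]
    [AddCommGroup M] [Module R M] (I : Ideal R)
    (H : ∀ (k : ℕ) (P : Submodule R (R ⧸ I ^ k)), Function.Injective (rTensor M P.subtype))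
    (𝔞 : Ideal R) (x : 𝔞 ⊗[R] M) (hx : rTensor M 𝔞.subtype x = 0) (n : ℕ) :
    x ∈ (I ^ n • ⊤ : Submodule R (𝔞 ⊗[R] M)) := by
  obtain ⟨k₀, hk₀⟩ := Ideal.exists_pow_inf_eq_pow_smul I (𝔞 : Submodule R R)
  have hAR : (I ^ (n + k₀) : Ideal R) ⊓ 𝔞 ≤ I ^ n • 𝔞 := by
    have h1 := hk₀ (n + k₀) (Nat.le_add_left _ _)
    rw [Nat.add_sub_cancel] at h1
    have h2 : (I ^ (n + k₀) • ⊤ : Submodule R R) = I ^ (n + k₀) := by
      rw [smul_eq_mul, Ideal.mul_top]
    rw [h2] at h1
    rw [h1]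
    exact Submodule.smul_mono le_rfl inf_le_right
  obtain ⟨k, hk⟩ : ∃ k, k = n + k₀ := ⟨_, rfl⟩
  rw [← hk] at hAR
  let q : 𝔞 →ₗ[R] R ⧸ I ^ k := (Submodule.mkQ (I ^ k)) ∘ₗ 𝔞.subtype
  let P : Submodule R (R ⧸ I ^ k) := LinearMap.range q
  let q' : 𝔞 →ₗ[R] P := q.rangeRestrict
  have hq' : Function.Surjective q' := q.surjective_rangeRestrict
  have hcomp : P.subtype ∘ₗ q' = q := LinearMap.ext fun _ => rfl
  have h1 : rTensor M q' x = 0 := by
    apply H k P
    rw [map_zero, ← LinearMap.comp_apply, ← rTensor_comp, hcomp]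
    change rTensor M ((Submodule.mkQ (I ^ k)) ∘ₗ 𝔞.subtype) x = 0
    rw [rTensor_comp, LinearMap.comp_apply, hx, map_zero]
  have hex : Function.Exact (rTensor M (LinearMap.ker q').subtype) (rTensor M q') :=
    rTensor_exact M (LinearMap.exact_subtype_ker_map q') hq'
  have hmap : (I ^ n • (⊤ : Submodule R 𝔞)).map 𝔞.subtype = I ^ n • 𝔞 := by
    rw [Submodule.map_smul'', Submodule.map_top, Submodule.range_subtype]
  have himg : ∀ y : (LinearMap.ker q') ⊗[R] M,
      rTensor M (LinearMap.ker q').subtype y ∈ (I ^ n • ⊤ : Submodule R (𝔞 ⊗[R] M)) := by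
    intro y
    induction y using TensorProduct.induction_on with
    | zero => rw [map_zero]; exact zero_mem _
    | add y y' hy hy' => rw [map_add]; exact add_mem hy hy'
    | tmul c m =>
      have hc : q' c.1 = 0 := c.2
      have hc1 : q c.1 = 0 := by
        rw [← hcomp, LinearMap.comp_apply, hc, map_zero]
      have hc2 : (c.1 : R) ∈ I ^ k := by
        have : Submodule.mkQ (I ^ k) (c.1 : R) = 0 := hc1
        rwa [Submodule.mkQ_apply, Submodule.Quotient.mk_eq_zero] at this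
      have hc3 : (c.1 : R) ∈ I ^ n • 𝔞 := hAR ⟨hc2, c.1.2⟩
      rw [← hmap] at hc3
      obtain ⟨c', hc', hcc'⟩ := hc3
      have hc4 : c' = c.1 := Subtype.ext hcc'
      rw [hc4] at hc'
      rw [rTensor_tmul]
      exact map_mem_smul_top (I ^ n) ((TensorProduct.mk R 𝔞 M).flip m) hc'
  obtain ⟨y, rfl⟩ := (hex x).mp h1
  exact himg y

/-- Core of the local criterion for ideally separated modules. -/
theorem flat_of_forall_rTensor_injective_of_hausdorff {R M : Type u} [CommRing R]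
    [IsNoetherianRing R] [AddCommGroup M] [Module R M] (I : Ideal R)
    (hsep : ∀ 𝔞 : Ideal R, IsHausdorff I (𝔞 ⊗[R] M))
    (H : ∀ (k : ℕ) (P : Submodule R (R ⧸ I ^ k)), Function.Injective (rTensor M P.subtype)) :
    Module.Flat R M := by
  rw [Module.Flat.iff_rTensor_injective']
  intro 𝔞
  rw [injective_iff_map_eq_zero]
  intro x hx
  apply IsHausdorff.haus (hsep 𝔞) x
  intro n
  rw [SModEq.zero]
  exact mem_pow_smul_top_of_rTensor_eq_zero I H 𝔞 x hx n

/-- Local criterion of flatness (Bourbaki III §5.2), ideally separated version. -/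
theorem flat_of_localCriterion_of_hausdorff {R M : Type u} [CommRing R] [IsNoetherianRing R]
    [AddCommGroup M] [Module R M] (I : Ideal R)
    (hsep : ∀ 𝔞 : Ideal R, IsHausdorff I (𝔞 ⊗[R] M))
    (h1 : Function.Injective (rTensor M I.subtype))
    (h2 : Module.Flat (R ⧸ I) ((R ⧸ I) ⊗[R] M)) : Module.Flat R M :=
  flat_of_forall_rTensor_injective_of_hausdorff I hsep
    (fun k P => rTensor_subtype_injective_of_good I h1 k P)

/-- flatness modulo all powers of `I` implies flatness, for ideally separated modules. -/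
theorem flat_of_flat_mod_pow_of_hausdorff {R M : Type u} [CommRing R] [IsNoetherianRing R]
    [AddCommGroup M] [Module R M] (I : Ideal R)
    (hsep : ∀ 𝔞 : Ideal R, IsHausdorff I (𝔞 ⊗[R] M))
    (h : ∀ k : ℕ, Module.Flat (R ⧸ I ^ k) ((R ⧸ I ^ k) ⊗[R] M)) : Module.Flat R M :=
  flat_of_forall_rTensor_injective_of_hausdorff I hsep
    (fun k P => by
      haveI := h k
      exact rTensor_subtype_injective_of_flat (I ^ k) P)

/-- base change in two steps or in one step. -/
theorem flat_tensor_of_tower (A A' C M : Type*) [CommRing A] [CommRing A'] [CommRing C]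
    [Algebra A A'] [Algebra A' C] [Algebra A C] [IsScalarTower A A' C] [AddCommGroup M]
    [Module A M] :
    Module.Flat C (C ⊗[A'] (A' ⊗[A] M)) ↔ Module.Flat C (C ⊗[A] M) :=
  ⟨fun _ => Module.Flat.of_linearEquiv
      (AlgebraTensorModule.cancelBaseChange A A' C C M).symm,
    fun _ => Module.Flat.of_linearEquiv (AlgebraTensorModule.cancelBaseChange A A' C C M)⟩

/-- Flatness of a base change `A' ⊗ M` over `A'` where `J A'` is nilpotent, from flatness modulo `J`
and flatness after base change to a finite jointly injective family of `A'`-algebras. -/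
theorem flat_baseChange_of_nilpotent_of_family {A : Type u} [CommRing A] {M : Type u}
    [AddCommGroup M] [Module A M] (J : Ideal A) [Module.Flat (A ⧸ J) ((A ⧸ J) ⊗[A] M)]
    (A' : Type u) [CommRing A'] [Algebra A A'] (hJ' : IsNilpotent (J.map (algebraMap A A')))
    {ι : Type u} [Finite ι] (B : ι → Type u) [∀ i, CommRing (B i)] [∀ i, Algebra A (B i)]
    [∀ i, Algebra A' (B i)] [∀ i, IsScalarTower A A' (B i)]
    [∀ i, Module.Flat (B i) (B i ⊗[A] M)]
    (hker : ∀ a' : A', (∀ i, algebraMap A' (B i) a' = 0) → a' = 0) :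
    Module.Flat A' (A' ⊗[A] M) := by
  haveI : Module.Flat (A' ⧸ J.map (algebraMap A A'))
      ((A' ⧸ J.map (algebraMap A A')) ⊗[A'] (A' ⊗[A] M)) := by
    rw [flat_tensor_of_tower A A' _ M]
    have h0 : Module.Flat (A' ⧸ J.map (algebraMap A A'))
        ((A' ⧸ J.map (algebraMap A A')) ⊗[A ⧸ J] ((A ⧸ J) ⊗[A] M)) := inferInstance
    exact (flat_tensor_of_tower A (A ⧸ J) (A' ⧸ J.map (algebraMap A A')) M).mp h0
  haveI : ∀ i, Module.Flat (B i) (B i ⊗[A'] (A' ⊗[A] M)) := fun i =>
    (flat_tensor_of_tower A A' (B i) M).mpr inferInstance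
  exact flat_of_nilpotent_of_baseChange B (J.map (algebraMap A A')) hker hJ'

/-- Flatness of `M / K M` over `A / K` where `J^N ≤ K`, from flatness modulo `J` and a finite
family of `A`-algebras `Cᵢ` with ideals `𝔠ᵢ` such that `K = ⋂ᵢ (𝔠ᵢ ∩ A)` and `Cᵢ ⊗ M` flat. -/
theorem flat_quotient_of_family {A : Type u} [CommRing A] (J : Ideal A) (M : Type u)
    [AddCommGroup M] [Module A M] [Module.Flat (A ⧸ J) ((A ⧸ J) ⊗[A] M)] (K : Ideal A) (N : ℕ)
    (hN : J ^ N ≤ K) {ι : Type u} [Finite ι] (C : ι → Type u) [∀ i, CommRing (C i)]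
    [∀ i, Algebra A (C i)] [∀ i, Module.Flat (C i) (C i ⊗[A] M)] (𝔠 : ∀ i, Ideal (C i))
    (hK1 : ∀ i, K ≤ Ideal.comap (algebraMap A (C i)) (𝔠 i))
    (hK2 : ∀ a : A, (∀ i, algebraMap A (C i) a ∈ 𝔠 i) → a ∈ K) :
    Module.Flat (A ⧸ K) ((A ⧸ K) ⊗[A] M) := by
  letI : ∀ i, Algebra (A ⧸ K) (C i ⧸ 𝔠 i) :=
    fun i => Ideal.Quotient.algebraQuotientOfLEComap (hK1 i)
  haveI : ∀ i, IsScalarTower A (A ⧸ K) (C i ⧸ 𝔠 i) :=
    fun i => IsScalarTower.of_algebraMap_eq (fun x => rfl)
  haveI : ∀ i, Module.Flat (C i ⧸ 𝔠 i) ((C i ⧸ 𝔠 i) ⊗[A] M) := fun i =>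
    (flat_tensor_of_tower A (C i) (C i ⧸ 𝔠 i) M).mp inferInstance
  refine flat_baseChange_of_nilpotent_of_family J (A ⧸ K) ?_ (fun i => C i ⧸ 𝔠 i) ?_
  · refine ⟨N, ?_⟩
    rw [← Ideal.map_pow, Ideal.zero_eq_bot, Ideal.map_eq_bot_iff_le_ker]
    intro a ha
    rw [RingHom.mem_ker]
    exact Ideal.Quotient.eq_zero_iff_mem.mpr (hN ha)
  · intro a' h
    obtain ⟨a, rfl⟩ := Ideal.Quotient.mk_surjective a'
    rw [Ideal.Quotient.eq_zero_iff_mem]
    apply hK2
    intro i
    have h2 : Ideal.Quotient.mk (𝔠 i) (algebraMap A (C i) a) = 0 := h i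
    exact Ideal.Quotient.eq_zero_iff_mem.mp h2

/-- the same with a bigger ideal `K'`. -/
theorem flat_quotient_of_family_of_le {A : Type u} [CommRing A] (J : Ideal A) (M : Type u)
    [AddCommGroup M] [Module A M] [Module.Flat (A ⧸ J) ((A ⧸ J) ⊗[A] M)] (K K' : Ideal A)
    (hKK' : K ≤ K') (N : ℕ)
    (hN : J ^ N ≤ K) {ι : Type u} [Finite ι] (C : ι → Type u) [∀ i, CommRing (C i)]
    [∀ i, Algebra A (C i)] [∀ i, Module.Flat (C i) (C i ⊗[A] M)] (𝔠 : ∀ i, Ideal (C i))
    (hK1 : ∀ i, K ≤ Ideal.comap (algebraMap A (C i)) (𝔠 i))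
    (hK2 : ∀ a : A, (∀ i, algebraMap A (C i) a ∈ 𝔠 i) → a ∈ K) :
    Module.Flat (A ⧸ K') ((A ⧸ K') ⊗[A] M) := by
  haveI := flat_quotient_of_family J M K N hN C 𝔠 hK1 hK2
  letI : Algebra (A ⧸ K) (A ⧸ K') :=
    Ideal.Quotient.algebraQuotientOfLEComap (R := A) (A := A) (p := K) (P := K')
      (fun x hx => hKK' hx)
  haveI : IsScalarTower A (A ⧸ K) (A ⧸ K') := IsScalarTower.of_algebraMap_eq (fun x => rfl)
  exact (flat_tensor_of_tower A (A ⧸ K) (A ⧸ K') M).mp inferInstance

/-- If the associated graded of `J` is flat over `A ⧸ J`, membership in `J ^ n` can be tested at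
the associated primes of `A ⧸ J`. -/
theorem mem_pow_of_forall_assoc {A : Type u} [CommRing A] [IsNoetherianRing A] (J : Ideal A)
    (hgr : ∀ k : ℕ, Module.Flat (A ⧸ J) ((A ⧸ J) ⊗[A] ↥(J ^ k))) (n : ℕ) (a : A)
    (h : ∀ q ∈ associatedPrimes A (A ⧸ J), ∃ s : A, s ∉ q ∧ s * a ∈ J ^ n) : a ∈ J ^ n := by
  classical
  have hall : ∀ k ≤ n, a ∈ J ^ k := by
    intro k
    induction k with
    | zero => intro _; simp
    | succ k ih =>
      intro hk
      have ha : a ∈ J ^ k := ih (by omega)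
      haveI := hgr k
      have h2 : (J • (⊤ : Submodule A ↥(J ^ k))).map (J ^ k).subtype = J ^ (k + 1) := by
        rw [Submodule.map_smul'', Submodule.map_top, Submodule.range_subtype, smul_eq_mul,
          pow_succ']
      have hkill : ∀ y : ↥(J ^ k), y.1 ∈ J ^ (k + 1) →
          ((1 : A ⧸ J) ⊗ₜ[A] y : (A ⧸ J) ⊗[A] ↥(J ^ k)) = 0 := by
        intro y hy
        have hy' : y ∈ J • (⊤ : Submodule A ↥(J ^ k)) := by
          rw [← h2] at hy
          obtain ⟨y', hy', hyy'⟩ := hy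
          have : y' = y := Subtype.ext hyy'
          rwa [this] at hy'
        apply (TensorProduct.quotTensorEquivQuotSMul ↥(J ^ k) J).injective
        rw [TensorProduct.quotTensorEquivQuotSMul_mk_one_tmul, map_zero,
          Submodule.Quotient.mk_eq_zero]
        exact hy'
      obtain ⟨x, hx⟩ : ∃ x : ↥(J ^ k), x = ⟨a, ha⟩ := ⟨_, rfl⟩
      have hzero : ((1 : A ⧸ J) ⊗ₜ[A] x : (A ⧸ J) ⊗[A] ↥(J ^ k)) = 0 := by
        obtain ⟨ν, hν⟩ : ∃ ν : (A ⧸ J) ⊗[A] ↥(J ^ k), ν = (1 : A ⧸ J) ⊗ₜ[A] x := ⟨_, rfl⟩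
        rw [← hν]
        have hnot : ¬ ((Ideal.torsionOf A _ ν : Set A) ⊆
            ⋃ q ∈ ((associatedPrimes.finite A (A ⧸ J)).toFinset : Set (Ideal A)), (q : Set A)) := by
          intro hsub
          obtain ⟨q, hq, hle⟩ := (Ideal.subset_union_prime
            (s := (associatedPrimes.finite A (A ⧸ J)).toFinset) (f := fun q : Ideal A => q) ⊥ ⊥
            (fun q hq _ _ => IsAssociatedPrime.isPrime
              ((Set.Finite.mem_toFinset _).mp hq))).mp hsub
          rw [Set.Finite.mem_toFinset] at hq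
          obtain ⟨s, hs, hsa⟩ := h q hq
          have hmem : s ∈ Ideal.torsionOf A _ ν := by
            rw [Ideal.mem_torsionOf_iff, hν, ← TensorProduct.tmul_smul]
            apply hkill
            have : (s • x : ↥(J ^ k)).1 = s * a := by rw [hx]; rfl
            rw [this]
            exact Ideal.pow_le_pow_right hk hsa
          exact hs (hle hmem)
        rw [Set.not_subset] at hnot
        obtain ⟨t, ht, htnot⟩ := hnot
        rw [Set.Finite.coe_toFinset, biUnion_associatedPrimes_eq_zero_divisors] at htnot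
        have htreg : Ideal.Quotient.mk J t ∈ nonZeroDivisors (A ⧸ J) := by
          rw [mem_nonZeroDivisors_iff_right]
          intro z hz
          by_contra hne
          apply htnot
          refine ⟨z, hne, ?_⟩
          rw [Algebra.smul_def, mul_comm]
          exact hz
        have hreg : IsSMulRegular ((A ⧸ J) ⊗[A] ↥(J ^ k)) (Ideal.Quotient.mk J t) :=
          Module.Flat.isSMulRegular_of_nonZeroDivisors (M := (A ⧸ J) ⊗[A] ↥(J ^ k)) htreg
        have e1 : (Ideal.Quotient.mk J t) • ν = t • ν := algebraMap_smul (A ⧸ J) t ν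
        apply hreg
        change (Ideal.Quotient.mk J t) • ν = (Ideal.Quotient.mk J t) • (0 : (A ⧸ J) ⊗[A] ↥(J ^ k))
        rw [smul_zero, e1]
        exact (Ideal.mem_torsionOf_iff ν t).mp ht
      have h1 := congrArg (TensorProduct.quotTensorEquivQuotSMul ↥(J ^ k) J) hzero
      rw [TensorProduct.quotTensorEquivQuotSMul_mk_one_tmul, map_zero,
        Submodule.Quotient.mk_eq_zero] at h1
      rw [← h2]
      exact ⟨x, h1, by rw [hx]; rfl⟩
  exact hall n le_rfl

end Groth.Agent.H57
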