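import Groth.Agent.S1265
import Groth.Agent.H57.SepCrit
import Mathlib.RingTheory.Localization.BaseChange
import Mathlib.RingTheory.IsTensorProduct
import Mathlib.RingTheory.Flat.Basic
import Mathlib.RingTheory.Flat.Stability

/-! Flatness of a module over an algebra at a prime of the algebra, elementwise criterion and base
change (helper57). -/

set_option autoImplicit false

universe u

open TensorProduct

namespace Groth.Agent.H57

section EC

variable {A B : Type u} [CommRing A] [CommRing B] [Algebra A B] (T : Submonoid B)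
  (N : Type u) [AddCommGroup N] [Module A N] [Module B N] [IsScalarTower A B N]

/-- the `B`-action on the left factor commutes with `u.lTensor`. -/
theorem lTensor_smul_left {P Q : Type u} [AddCommGroup P] [Module A P]
    [AddCommGroup Q] [Module A Q] (u : P →ₗ[A] Q) (b : B) (z : N ⊗[A] P) :
    u.lTensor N (b • z) = b • u.lTensor N z := by
  induction z using TensorProduct.induction_on with
  | zero => simp
  | tmul n p => simp [TensorProduct.smul_tmul']
  | add a c ha hc => simp only [smul_add, map_add, ha, hc]

theorem locTensor_naturality {P Q : Type u} [AddCommGroup P] [Module A P]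
    [AddCommGroup Q] [Module A Q] (u : P →ₗ[A] Q) (x : N ⊗[A] P) :
    u.lTensor (LocalizedModule T N)
      (AlgebraTensorModule.rTensor A P (LocalizedModule.mkLinearMap T N) x) =
    AlgebraTensorModule.rTensor A Q (LocalizedModule.mkLinearMap T N) (u.lTensor N x) := by
  induction x using TensorProduct.induction_on with
  | zero => simp
  | tmul n p => simp
  | add a b ha hb => simp only [map_add, ha, hb]

/-- If `u ⊗ N_T` is injective, every element of `N ⊗ P` killed by `u` is killed by some `t ∈ T`. -/
theorem exists_smul_eq_zero_of_lTensor_injective {P Q : Type u} [AddCommGroup P] [Module A P]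
    [AddCommGroup Q] [Module A Q] (u : P →ₗ[A] Q)
    (hu : Function.Injective (u.lTensor (LocalizedModule T N)))
    (x : N ⊗[A] P) (hx : u.lTensor N x = 0) : ∃ t : T, t • x = 0 := by
  have hnat := locTensor_naturality T N u x
  rw [hx, map_zero] at hnat
  have h0 := hu (hnat.trans (map_zero _).symm)
  exact (IsLocalizedModule.eq_zero_iff T
    (AlgebraTensorModule.rTensor A P (LocalizedModule.mkLinearMap T N))).mp h0

/-- Conversely. -/
theorem lTensor_localizedModule_injective_of_forall {P Q : Type u} [AddCommGroup P] [Module A P]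
    [AddCommGroup Q] [Module A Q] (u : P →ₗ[A] Q)
    (h : ∀ x : N ⊗[A] P, u.lTensor N x = 0 → ∃ t : T, t • x = 0) :
    Function.Injective (u.lTensor (LocalizedModule T N)) := by
  rw [injective_iff_map_eq_zero]
  intro z hz
  obtain ⟨⟨x, t⟩, hxt⟩ := IsLocalizedModule.surj T
    (AlgebraTensorModule.rTensor A P (LocalizedModule.mkLinearMap T N)) z
  have h1 : AlgebraTensorModule.rTensor A Q (LocalizedModule.mkLinearMap T N)
      (u.lTensor N x) = 0 := by
    rw [← locTensor_naturality, ← hxt, Submonoid.smul_def, lTensor_smul_left, hz, smul_zero]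
  obtain ⟨c, hc⟩ := (IsLocalizedModule.eq_zero_iff T
    (AlgebraTensorModule.rTensor A Q (LocalizedModule.mkLinearMap T N))).mp h1
  have h2 : u.lTensor N (c • x) = 0 := by
    rw [Submonoid.smul_def, lTensor_smul_left, ← Submonoid.smul_def, hc]
  obtain ⟨t', ht'⟩ := h (c • x) h2
  have h3 : AlgebraTensorModule.rTensor A P (LocalizedModule.mkLinearMap T N) x = 0 :=
    (IsLocalizedModule.eq_zero_iff T
      (AlgebraTensorModule.rTensor A P (LocalizedModule.mkLinearMap T N))).mpr
      ⟨t' * c, by rw [mul_smul]; exact ht'⟩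
  rw [h3] at hxt
  exact IsLocalizedModule.smul_injective
    (AlgebraTensorModule.rTensor A P (LocalizedModule.mkLinearMap T N)) t
    (hxt.trans (smul_zero t).symm)

/-- Elementwise criterion for flatness of a localized module over the base. -/
theorem flat_localizedModule_of_forall
    (h : ∀ (P Q : Type u) [AddCommGroup P] [AddCommGroup Q] [Module A P] [Module A Q]
      (u : P →ₗ[A] Q), Function.Injective u →
      ∀ x : N ⊗[A] P, u.lTensor N x = 0 → ∃ t : T, t • x = 0) :
    Module.Flat A (LocalizedModule T N) := by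
  rw [Module.Flat.iff_lTensor_preserves_injective_linearMap]
  intro P Q _ _ _ _ u hu
  exact lTensor_localizedModule_injective_of_forall T N u (h P Q u hu)

end EC

section FC

variable {R A : Type u} [CommRing R] [CommRing A] [Algebra R A] (X : Type u) [AddCommGroup X]
  [Module R X]

theorem rTensor_baseChange_injective_iff {P Q : Type u} [AddCommGroup P] [AddCommGroup Q]
    [Module A P] [Module A Q] [Module R P] [Module R Q] [IsScalarTower R A P]
    [IsScalarTower R A Q] (u : P →ₗ[A] Q) :
    Function.Injective (u.rTensor (A ⊗[R] X)) ↔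
      Function.Injective ((u.restrictScalars R).rTensor X) := by
  have key : ∀ z : P ⊗[A] (A ⊗[R] X),
      AlgebraTensorModule.cancelBaseChange R A A Q X (u.rTensor (A ⊗[R] X) z) =
        (u.restrictScalars R).rTensor X (AlgebraTensorModule.cancelBaseChange R A A P X z) := by
    intro z
    induction z using TensorProduct.induction_on with
    | zero => simp
    | tmul p y =>
      induction y using TensorProduct.induction_on with
      | zero => simp
      | tmul a x => simp
      | add y1 y2 h1 h2 => simp only [tmul_add, map_add, h1, h2]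
    | add z1 z2 h1 h2 => simp only [map_add, h1, h2]
  have hcomp : (AlgebraTensorModule.cancelBaseChange R A A Q X) ∘ (u.rTensor (A ⊗[R] X)) =
      ((u.restrictScalars R).rTensor X) ∘ (AlgebraTensorModule.cancelBaseChange R A A P X) :=
    funext key
  rw [← EquivLike.comp_injective _ (AlgebraTensorModule.cancelBaseChange R A A Q X), hcomp,
    EquivLike.injective_comp]

/-- Flatness of a base change `A ⊗[R] X` over `A`, tested on `A`-modules tensored over `R`. -/
theorem flat_baseChange_iff_forall :
    Module.Flat A (A ⊗[R] X) ↔ ∀ (P Q : Type u) [AddCommGroup P] [AddCommGroup Q] [Module A P]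
      [Module A Q] [Module R P] [Module R Q] [IsScalarTower R A P] [IsScalarTower R A Q]
      (u : P →ₗ[A] Q), Function.Injective u →
        Function.Injective ((u.restrictScalars R).lTensor X) := by
  constructor
  · intro hflat P Q _ _ _ _ _ _ _ _ u hu
    rw [LinearMap.lTensor_inj_iff_rTensor_inj, ← rTensor_baseChange_injective_iff]
    exact Module.Flat.rTensor_preserves_injective_linearMap u hu
  · intro h
    rw [Module.Flat.iff_rTensor_preserves_injective_linearMap]
    intro P Q _ _ _ _ u hu
    letI : Module R P := Module.compHom P (algebraMap R A)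
    letI : Module R Q := Module.compHom Q (algebraMap R A)
    haveI : IsScalarTower R A P := IsScalarTower.of_algebraMap_smul (fun r p => rfl)
    haveI : IsScalarTower R A Q := IsScalarTower.of_algebraMap_smul (fun r p => rfl)
    rw [rTensor_baseChange_injective_iff, ← LinearMap.lTensor_inj_iff_rTensor_inj]
    exact h P Q u hu

end FC

section PHI

variable {R R' : Type u} [CommRing R] [CommRing R'] [Algebra R R']
  {M M' : Type u} [AddCommGroup M] [Module R M] [AddCommGroup M'] [Module R M'] [Module R' M']
  [IsScalarTower R R' M'] {g : M →ₗ[R] M'} (hg : IsBaseChange R' g)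
  (P : Type u) [AddCommGroup P] [Module R P] [Module R' P] [IsScalarTower R R' P]

/-- `M' ⊗[R'] P ≃ M ⊗[R] P` for a base change `M'` of `M`. -/
noncomputable def phi : M' ⊗[R'] P ≃+ M ⊗[R] P :=
  (TensorProduct.comm R' M' P).toAddEquiv.trans
    ((hg.tensorEquiv P).toAddEquiv.trans (TensorProduct.comm R P M).toAddEquiv)

theorem phi_tmul (m : M) (p : P) : phi hg P (g m ⊗ₜ p) = m ⊗ₜ p := by
  simp [phi, IsBaseChange.tensorEquiv]

theorem phi_symm_tmul (m : M) (p : P) : (phi hg P).symm (m ⊗ₜ p) = g m ⊗ₜ p := by
  rw [AddEquiv.symm_apply_eq, phi_tmul]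

variable {P} in
theorem phi_symm_lTensor {Q : Type u} [AddCommGroup Q] [Module R Q] [Module R' Q]
    [IsScalarTower R R' Q] (u : P →ₗ[R'] Q) (x : M ⊗[R] P) :
    (phi hg Q).symm ((u.restrictScalars R).lTensor M x) = u.lTensor M' ((phi hg P).symm x) := by
  induction x using TensorProduct.induction_on with
  | zero => simp
  | tmul m p => simp [phi_symm_tmul]
  | add a b ha hb => simp only [map_add, ha, hb]

end PHI

section BC

variable {R S R' S' : Type u} [CommRing R] [CommRing S] [CommRing R'] [CommRing S']
  [Algebra R S] [Algebra R R'] [Algebra S S'] [Algebra R' S'] [Algebra R S'] [IsScalarTower R S S']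
  [IsScalarTower R R' S'] [Algebra.IsPushout R S R' S']
  {M M' : Type u} [AddCommGroup M] [Module S M] [Module R M] [IsScalarTower R S M]
  [AddCommGroup M'] [Module S' M'] [Module R' M'] [IsScalarTower R' S' M'] [Module S M']
  [IsScalarTower S S' M'] [Module R M'] [IsScalarTower R R' M'] [IsScalarTower R S M']
  (f : M →ₗ[S] M') (hf : IsBaseChange S' f)

include hf in
theorem isBaseChange_restrictScalars : IsBaseChange R' (f.restrictScalars R) := by
  haveI : Algebra.IsPushout R R' S S' := Algebra.IsPushout.symm inferInstance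
  refine IsBaseChange.of_equiv
    ((Algebra.IsPushout.cancelBaseChange R R' S S' M).symm ≪≫ₗ hf.equiv.restrictScalars R')
    (fun x => ?_)
  simp [hf.equiv_tmul]

omit [Algebra R S'] [IsScalarTower R S S'] [IsScalarTower R R' S'] [Algebra.IsPushout R S R' S'] in
theorem phi_symm_smul (hg : IsBaseChange R' (f.restrictScalars R))
    (P : Type u) [AddCommGroup P] [Module R P] [Module R' P] [IsScalarTower R R' P]
    (s : S) (x : M ⊗[R] P) :
    (phi hg P).symm (s • x) = (algebraMap S S' s) • (phi hg P).symm x := by
  induction x using TensorProduct.induction_on with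
  | zero => simp
  | tmul m p =>
    rw [TensorProduct.smul_tmul', phi_symm_tmul, phi_symm_tmul, TensorProduct.smul_tmul']
    congr 1
    rw [LinearMap.restrictScalars_apply, LinearMap.restrictScalars_apply, map_smul,
      algebraMap_smul]
  | add a b ha hb => simp only [smul_add, map_add, ha, hb]

include hf in
/-- going up: an element of `M' ⊗[R'] P` killed by `u` is killed by an element outside `q'`,
provided `u ⊗ M_q` is injective, `q = q' ∩ S`. -/
theorem exists_smul_eq_zero_baseChange (q' : Ideal S') [q'.IsPrime]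
    {P Q : Type u} [AddCommGroup P] [AddCommGroup Q] [Module R' P] [Module R' Q] [Module R P]
    [Module R Q] [IsScalarTower R R' P] [IsScalarTower R R' Q] (u : P →ₗ[R'] Q)
    (hu : Function.Injective ((u.restrictScalars R).lTensor
      (LocalizedModule (q'.comap (algebraMap S S')).primeCompl M)))
    (y : M' ⊗[R'] P) (hy : u.lTensor M' y = 0) : ∃ t : q'.primeCompl, t • y = 0 := by
  have hg : IsBaseChange R' (f.restrictScalars R) := isBaseChange_restrictScalars f hf
  have hyx : y = (phi hg P).symm (phi hg P y) := ((phi hg P).symm_apply_apply y).symm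
  have h1 : (u.restrictScalars R).lTensor M (phi hg P y) = 0 := by
    apply (phi hg Q).symm.injective
    rw [phi_symm_lTensor, ← hyx, hy, map_zero]
  obtain ⟨t, ht⟩ := exists_smul_eq_zero_of_lTensor_injective
    (q'.comap (algebraMap S S')).primeCompl M (u.restrictScalars R) hu (phi hg P y) h1
  refine ⟨⟨algebraMap S S' t, t.2⟩, ?_⟩
  rw [hyx]
  show algebraMap S S' (t : S) • (phi hg P).symm (phi hg P y) = 0
  rw [← phi_symm_smul f hg, ← Submonoid.smul_def, ht, map_zero]

include hf in
/-- going down. -/
theorem lTensor_localizedModule_injective_of_baseChange (q : Ideal S) [q.IsPrime]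
    {P Q : Type u} [AddCommGroup P] [AddCommGroup Q] [Module R' P] [Module R' Q] [Module R P]
    [Module R Q] [IsScalarTower R R' P] [IsScalarTower R R' Q] (u : P →ₗ[R'] Q)
    (h : ∀ y : M' ⊗[R'] P, u.lTensor M' y = 0 →
      ∃ s : S, s ∉ q ∧ algebraMap S S' s • y = 0) :
    Function.Injective ((u.restrictScalars R).lTensor (LocalizedModule q.primeCompl M)) := by
  have hg : IsBaseChange R' (f.restrictScalars R) := isBaseChange_restrictScalars f hf
  apply lTensor_localizedModule_injective_of_forall
  intro x hx
  have h1 : u.lTensor M' ((phi hg P).symm x) = 0 := by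
    rw [← phi_symm_lTensor, hx, map_zero]
  obtain ⟨s, hs, hs0⟩ := h _ h1
  refine ⟨⟨s, hs⟩, ?_⟩
  apply (phi hg P).symm.injective
  rw [Submonoid.smul_def, phi_symm_smul (S' := S') f hg, map_zero]
  exact hs0

include hf in
/-- Flatness at a prime is stable under base change. -/
theorem flat_localizedModule_baseChange (q' : Ideal S') [q'.IsPrime]
    [Module.Flat R (LocalizedModule (q'.comap (algebraMap S S')).primeCompl M)] :
    Module.Flat R' (LocalizedModule q'.primeCompl M') := by
  apply flat_localizedModule_of_forall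
  intro P Q _ _ _ _ u hu y hy
  letI : Module R P := Module.compHom P (algebraMap R R')
  letI : Module R Q := Module.compHom Q (algebraMap R R')
  haveI : IsScalarTower R R' P := IsScalarTower.of_algebraMap_smul (fun r p => rfl)
  haveI : IsScalarTower R R' Q := IsScalarTower.of_algebraMap_smul (fun r p => rfl)
  refine exists_smul_eq_zero_baseChange (R := R) f hf q' u ?_ y hy
  exact Module.Flat.lTensor_preserves_injective_linearMap (u.restrictScalars R) hu

end BC

/-- Descent of flatness modulo an ideal along an injective map of Artinian quotients. -/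
theorem flat_quot_comap_of_flat_quot {R R' : Type u} [CommRing R] [CommRing R'] [Algebra R R']
    (𝔞 : Ideal R) [IsArtinianRing (R ⧸ 𝔞)] (K' : Ideal R')
    (h𝔞 : 𝔞.map (algebraMap R R') ≤ K')
    (X : Type u) [AddCommGroup X] [Module R X]
    [Module.Flat (R' ⧸ K') ((R' ⧸ K') ⊗[R] X)] :
    Module.Flat (R ⧸ K'.comap (algebraMap R R')) ((R ⧸ K'.comap (algebraMap R R')) ⊗[R] X) := by
  have h𝔞J : 𝔞 ≤ K'.comap (algebraMap R R') := Ideal.map_le_iff_le_comap.mp h𝔞
  obtain ⟨I₀, hI₀⟩ := Groth.Agent.S1265.exists_ideal (A := R ⧸ 𝔞) ((R ⧸ 𝔞) ⊗[R] X)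
  letI alg1 : Algebra (R ⧸ 𝔞) (R ⧸ K'.comap (algebraMap R R')) :=
    (Ideal.Quotient.factor h𝔞J).toAlgebra
  haveI tw1 : IsScalarTower R (R ⧸ 𝔞) (R ⧸ K'.comap (algebraMap R R')) :=
    IsScalarTower.of_algebraMap_eq (fun x => rfl)
  letI alg2 : Algebra (R ⧸ 𝔞) (R' ⧸ K') :=
    (Ideal.quotientMap K' (algebraMap R R') h𝔞J).toAlgebra
  haveI tw2 : IsScalarTower R (R ⧸ 𝔞) (R' ⧸ K') := IsScalarTower.of_algebraMap_eq (fun x => rfl)
  have h2 : I₀.map (algebraMap (R ⧸ 𝔞) (R' ⧸ K')) = ⊥ :=
    (hI₀ (R' ⧸ K')).mp ((flat_tensor_of_tower R (R ⧸ 𝔞) (R' ⧸ K') X).mpr inferInstance)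
  have h1 : I₀.map (algebraMap (R ⧸ 𝔞) (R ⧸ K'.comap (algebraMap R R'))) = ⊥ := by
    rw [eq_bot_iff, Ideal.map_le_iff_le_comap]
    intro a ha
    rw [Ideal.mem_comap, Ideal.mem_bot]
    have hinj : Function.Injective (Ideal.quotientMap K' (algebraMap R R') le_rfl) :=
      Ideal.quotientMap_injective
    apply hinj
    rw [map_zero]
    have h3 : algebraMap (R ⧸ 𝔞) (R' ⧸ K') a = 0 := by
      have := Ideal.mem_map_of_mem (algebraMap (R ⧸ 𝔞) (R' ⧸ K')) ha
      rwa [h2, Ideal.mem_bot] at this
    obtain ⟨r, rfl⟩ := Ideal.Quotient.mk_surjective a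
    have e1 : algebraMap (R ⧸ 𝔞) (R ⧸ K'.comap (algebraMap R R')) (Ideal.Quotient.mk 𝔞 r) =
        Ideal.Quotient.mk _ r := rfl
    have e2 : algebraMap (R ⧸ 𝔞) (R' ⧸ K') (Ideal.Quotient.mk 𝔞 r) =
        Ideal.Quotient.mk K' (algebraMap R R' r) := rfl
    rw [e1, Ideal.quotientMap_mk]
    rw [e2] at h3
    exact h3
  exact (flat_tensor_of_tower R (R ⧸ 𝔞) (R ⧸ K'.comap (algebraMap R R')) X).mp
    ((hI₀ _).mpr h1)

end Groth.Agent.H57
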