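import Mathlib
import Groth.Agent.H48.FlatLimitMod2
import Groth.Agent.S0389
import Groth.Agent.S4853
import Groth.Agent.H57.FlatAtBC

/-!
# Generic flattening ideal (EGA IV 11.4-type), algebra core (helper57)

`A` a ring with prime nilradical, `B` a finitely presented `A`-algebra, `M` a finitely presented
`B`-module.  There is a non-nilpotent `h₁ ∈ A` such that for every multiple `h` of `h₁` there is a
finitely generated nil ideal `J` of `A_h` with: for every `A_h`-algebra `A'`, `A' ⊗_A M` is flat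
over `A'` iff `J A' = 0`.
-/

set_option autoImplicit false
set_option linter.style.haveILetI false

universe u

open TensorProduct

namespace Groth.Agent.H57.GenFlatten

section E1

variable {C A A' : Type u} [CommRing C] [CommRing A] [CommRing A'] [Algebra C A] [Algebra A A']
  [Algebra C A'] [IsScalarTower C A A']
  {M₀ M : Type u} [AddCommGroup M₀] [Module C M₀] [AddCommGroup M] [Module A M] [Module C M]
  [IsScalarTower C A M]

/-- If `M = A ⊗_C M₀` then `A' ⊗_A M = A' ⊗_C M₀`. -/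
noncomputable def tensorEquivOfIsBaseChange (ψ : M₀ →ₗ[C] M) (hψ : IsBaseChange A ψ) :
    A' ⊗[A] M ≃ₗ[A'] A' ⊗[C] M₀ :=
  (TensorProduct.AlgebraTensorModule.congr (LinearEquiv.refl A' A') hψ.equiv.symm) ≪≫ₗ
    TensorProduct.AlgebraTensorModule.cancelBaseChange C A A' A' M₀

end E1

section LemmaA

/-- Freeness of `Q ⊗_C M₀` from generic freeness over `C ⧸ p₀`. -/
theorem free_of_generic {C : Type u} [CommRing C] (p₀ : Ideal C) [p₀.IsPrime]
    {M₀ M_D : Type u} [AddCommGroup M₀] [Module C M₀] [AddCommGroup M_D] [Module (C ⧸ p₀) M_D]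
    [Module C M_D] [IsScalarTower C (C ⧸ p₀) M_D]
    (ψ : M₀ →ₗ[C] M_D) (hψ : IsBaseChange (C ⧸ p₀) ψ) (h₀ : C)
    (hfree : Module.Free (Localization.Away (Ideal.Quotient.mk p₀ h₀))
      (Localization.Away (Ideal.Quotient.mk p₀ h₀) ⊗[C ⧸ p₀] M_D))
    (Q : Type u) [CommRing Q] [Algebra C Q] (hp : ∀ c ∈ p₀, algebraMap C Q c = 0)
    (hu : IsUnit (algebraMap C Q h₀)) :
    Module.Free Q (Q ⊗[C] M₀) := by
  letI aDQ : Algebra (C ⧸ p₀) Q := (Ideal.Quotient.lift p₀ (algebraMap C Q) hp).toAlgebra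
  haveI tCDQ : IsScalarTower C (C ⧸ p₀) Q := .of_algebraMap_eq' (by ext c; rfl)
  have hu' : IsUnit (algebraMap (C ⧸ p₀) Q (Ideal.Quotient.mk p₀ h₀)) := hu
  letI aDfQ : Algebra (Localization.Away (Ideal.Quotient.mk p₀ h₀)) Q :=
    (IsLocalization.Away.lift (Ideal.Quotient.mk p₀ h₀) hu').toAlgebra
  haveI tDDfQ : IsScalarTower (C ⧸ p₀) (Localization.Away (Ideal.Quotient.mk p₀ h₀)) Q :=
    .of_algebraMap_eq' (IsLocalization.Away.lift_comp (Ideal.Quotient.mk p₀ h₀) hu').symm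
  let e1 : Q ⊗[Localization.Away (Ideal.Quotient.mk p₀ h₀)]
      (Localization.Away (Ideal.Quotient.mk p₀ h₀) ⊗[C ⧸ p₀] M_D) ≃ₗ[Q] Q ⊗[C ⧸ p₀] M_D :=
    TensorProduct.AlgebraTensorModule.cancelBaseChange (C ⧸ p₀)
      (Localization.Away (Ideal.Quotient.mk p₀ h₀)) Q Q M_D
  let e2 : Q ⊗[C ⧸ p₀] M_D ≃ₗ[Q] Q ⊗[C] M₀ := tensorEquivOfIsBaseChange ψ hψ
  exact Module.Free.of_equiv (e1 ≪≫ₗ e2)

end LemmaA

section Generic

open Groth.Agent.H57 in
set_option maxHeartbeats 1600000 in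
/-- Generic freeness for a model, with an abstract pushout `S'` of `S₀` and `C ⧸ p₀`. -/
theorem exists_generic_free_aux {C S₀ M₀ S' : Type u} [CommRing C] [CommRing S₀] [Algebra C S₀]
    [AddCommGroup M₀] [Module S₀ M₀] [Module C M₀] [IsScalarTower C S₀ M₀] [Module.Finite S₀ M₀]
    (p₀ : Ideal C) [p₀.IsPrime] [CommRing S'] [Algebra (C ⧸ p₀) S'] [Algebra S₀ S'] [Algebra C S']
    [IsScalarTower C (C ⧸ p₀) S'] [IsScalarTower C S₀ S'] [Algebra.IsPushout C S₀ (C ⧸ p₀) S']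
    [Algebra.FiniteType (C ⧸ p₀) S'] :
    ∃ h₀ : C, h₀ ∉ p₀ ∧ ∀ (Q : Type u) [CommRing Q] [Algebra C Q],
      (∀ c ∈ p₀, algebraMap C Q c = 0) → IsUnit (algebraMap C Q h₀) →
        Module.Free Q (Q ⊗[C] M₀) := by
  letI : SMulCommClass S₀ (C ⧸ p₀) S' := ⟨fun a b x => by
    simp only [Algebra.smul_def]; ring⟩
  obtain ⟨f, hf0, hfree, -, -, -⟩ := Groth.Agent.S0389.result (R := C ⧸ p₀)
    (S := S') (M := S' ⊗[S₀] M₀)
  obtain ⟨h₀, rfl⟩ := Ideal.Quotient.mk_surjective f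
  refine ⟨h₀, fun hmem => hf0 (Ideal.Quotient.eq_zero_iff_mem.mpr hmem), fun Q _ _ hp hu => ?_⟩
  let ψ₀ : M₀ →ₗ[S₀] S' ⊗[S₀] M₀ := TensorProduct.mk S₀ S' M₀ 1
  have hψ₀ : IsBaseChange S' ψ₀ := TensorProduct.isBaseChange S₀ M₀ S'
  have hψ : IsBaseChange (C ⧸ p₀) (ψ₀.restrictScalars C) :=
    isBaseChange_restrictScalars (R := C) (S := S₀) (R' := C ⧸ p₀) (S' := S') ψ₀ hψ₀
  exact free_of_generic p₀ (ψ₀.restrictScalars C) hψ h₀ hfree Q hp hu

/-- Generic freeness for a model: `S₀` of finite type over `C`, `M₀` finite over `S₀`, `p₀` a prime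
of `C`: after killing `p₀` and inverting some `h₀ ∉ p₀`, the module `M₀` becomes free. -/
theorem exists_generic_free {C S₀ M₀ : Type u} [CommRing C] [CommRing S₀] [Algebra C S₀]
    [Algebra.FiniteType C S₀] [AddCommGroup M₀] [Module S₀ M₀] [Module C M₀]
    [IsScalarTower C S₀ M₀] [Module.Finite S₀ M₀] (p₀ : Ideal C) [p₀.IsPrime] :
    ∃ h₀ : C, h₀ ∉ p₀ ∧ ∀ (Q : Type u) [CommRing Q] [Algebra C Q],
      (∀ c ∈ p₀, algebraMap C Q c = 0) → IsUnit (algebraMap C Q h₀) →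
        Module.Free Q (Q ⊗[C] M₀) := by
  letI := Algebra.TensorProduct.rightAlgebra (R := C) (A := C ⧸ p₀) (B := S₀)
  exact exists_generic_free_aux (C := C) (S₀ := S₀) (M₀ := M₀) (S' := (C ⧸ p₀) ⊗[C] S₀) p₀

end Generic

section Chart

open Groth.Agent.H57 in
set_option maxHeartbeats 3200000 in
/-- The generic flattening ideal for one chart. -/
theorem chart_core (A B M : Type u) [CommRing A] [CommRing B] [Algebra A B]
    [Algebra.FinitePresentation A B] [AddCommGroup M] [Module B M] [Module A M]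
    [IsScalarTower A B M] [Module.FinitePresentation B M] (hA : (nilradical A).IsPrime) :
    ∃ h₁ : A, ¬ IsNilpotent h₁ ∧ ∀ h : A, h₁ ∣ h →
      ∀ (Ah : Type u) [CommRing Ah] [Algebra A Ah] [IsLocalization.Away h Ah],
      ∃ J : Ideal Ah, J.FG ∧ J ≤ nilradical Ah ∧
        ∀ (A' : Type u) [CommRing A'] [Algebra Ah A'] [Algebra A A'] [IsScalarTower A Ah A'],
          Module.Flat A' (A' ⊗[A] M) ↔ J.map (algebraMap Ah A') = ⊥ := by
  classical
  obtain ⟨C, _, _, hCft, S₀, _, _, _, _, _, _, hS₀ft, hpo, M₀, _, _, _, _, _, _, hM₀fin, hmap,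
    hbc⟩ := Groth.Agent.H48.FlatLimit.exists_model_data A B M
  haveI := hCft
  haveI := hS₀ft
  haveI := hM₀fin
  haveI := hpo
  haveI hCnoeth : IsNoetherianRing C := Algebra.FiniteType.isNoetherianRing ℤ C
  letI mCM : Module C M := Module.compHom M (algebraMap C A)
  haveI tCAM : IsScalarTower C A M := IsScalarTower.of_algebraMap_smul fun _ _ => rfl
  haveI tCS₀M : IsScalarTower C S₀ M := IsScalarTower.of_algebraMap_smul fun c m => by
    rw [← algebraMap_smul B (algebraMap C S₀ c) m, ← IsScalarTower.algebraMap_apply C S₀ B,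
      IsScalarTower.algebraMap_apply C A B, algebraMap_smul]
    rfl
  haveI po' : Algebra.IsPushout C S₀ A B := Algebra.IsPushout.symm inferInstance
  have hbcA : IsBaseChange A (hmap.restrictScalars C) :=
    isBaseChange_restrictScalars (R := C) (S := S₀) (R' := A) (S' := B) hmap hbc
  let p₀ : Ideal C := (nilradical A).comap (algebraMap C A)
  haveI hp₀ : p₀.IsPrime := Ideal.comap_isPrime _ _
  obtain ⟨h₀, hh₀, hfreeQ⟩ := exists_generic_free (C := C) (S₀ := S₀) (M₀ := M₀) p₀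
  refine ⟨algebraMap C A h₀, fun hn => hh₀ (mem_nilradical.mpr hn), fun h hdvd Ah _ _ _ => ?_⟩
  -- the nilpotency exponent
  have hfg : (p₀.map (algebraMap C A)).FG := Ideal.FG.map (IsNoetherian.noetherian p₀) _
  have hle : p₀.map (algebraMap C A) ≤ nilradical A := Ideal.map_comap_le
  obtain ⟨K, hK⟩ := hfg.isNilpotent_iff_le_nilradical.mpr hle
  -- the Noetherian ring `R̄`
  let C' := Localization.Away h₀
  let 𝔮 : Ideal C' := p₀.map (algebraMap C C')
  let Rb := C' ⧸ 𝔮 ^ K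
  let 𝔫 : Ideal Rb := 𝔮.map (Ideal.Quotient.mk (𝔮 ^ K))
  have h𝔫K : 𝔫 ^ K = ⊥ := by
    change (𝔮.map (Ideal.Quotient.mk (𝔮 ^ K))) ^ K = ⊥
    rw [← Ideal.map_pow (Ideal.Quotient.mk (𝔮 ^ K)) 𝔮 K, Ideal.map_quotient_self]
  have hnil : IsNilpotent 𝔫 := ⟨K, h𝔫K⟩
  haveI : IsNoetherianRing C' :=
    IsLocalization.isNoetherianRing (Submonoid.powers h₀) C' inferInstance
  haveI : IsNoetherianRing Rb := inferInstance
  have hfreeQ' : Module.Free (Rb ⧸ 𝔫) ((Rb ⧸ 𝔫) ⊗[C] M₀) := by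
    refine hfreeQ (Rb ⧸ 𝔫) (fun c hc => ?_) ?_
    · change Ideal.Quotient.mk 𝔫 (Ideal.Quotient.mk (𝔮 ^ K) (algebraMap C C' c)) = 0
      exact Ideal.Quotient.eq_zero_iff_mem.mpr
        (Ideal.mem_map_of_mem _ (Ideal.mem_map_of_mem _ hc))
    · change IsUnit (((Ideal.Quotient.mk 𝔫).comp (Ideal.Quotient.mk (𝔮 ^ K)))
        (algebraMap C C' h₀))
      exact (IsLocalization.Away.algebraMap_isUnit h₀).map _
  have hfree' : Module.Free (Rb ⧸ 𝔫) ((Rb ⧸ 𝔫) ⊗[Rb] (Rb ⊗[C] M₀)) :=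
    Module.Free.of_equiv
      (TensorProduct.AlgebraTensorModule.cancelBaseChange C Rb (Rb ⧸ 𝔫) (Rb ⧸ 𝔫) M₀).symm
  obtain ⟨R₀, hleast1, -, huniv⟩ := Groth.Agent.S4853.result (A := Rb) (Rb ⊗[C] M₀) 𝔫 hnil hfree'
  have hR₀𝔫 : R₀ ≤ 𝔫 := hleast1.2 hfree'
  -- the map `R̄ → A_h`
  have hunit : IsUnit (((algebraMap A Ah).comp (algebraMap C A)) h₀) :=
    isUnit_of_dvd_unit (map_dvd (algebraMap A Ah) hdvd)
      (IsLocalization.Away.algebraMap_isUnit (S := Ah) h)
  let ρ₀ : C' →+* Ah := IsLocalization.Away.lift h₀ hunit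
  have hρ₀ : ∀ c : C, ρ₀ (algebraMap C C' c) =
      algebraMap A Ah (algebraMap C A c) := fun c =>
    IsLocalization.Away.lift_eq h₀ hunit c
  have hker : ∀ a ∈ 𝔮 ^ K, ρ₀ a = 0 := by
    have hle' : 𝔮 ^ K ≤ RingHom.ker ρ₀ := by
      change (p₀.map (algebraMap C C')) ^ K ≤ _
      rw [← Ideal.map_pow, Ideal.map_le_iff_le_comap]
      intro c hc
      rw [Ideal.mem_comap, RingHom.mem_ker, hρ₀]
      have h1 : algebraMap C A c ∈ (p₀.map (algebraMap C A)) ^ K := by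
        rw [← Ideal.map_pow]
        exact Ideal.mem_map_of_mem _ hc
      rw [hK] at h1
      have h2 : algebraMap C A c = 0 := by simpa using h1
      rw [h2, map_zero]
    exact fun a ha => hle' ha
  let ρ : Rb →+* Ah := Ideal.Quotient.lift (𝔮 ^ K) ρ₀ hker
  have hρ : ∀ c : C, ρ (algebraMap C Rb c) =
      algebraMap A Ah (algebraMap C A c) := fun c => hρ₀ c
  refine ⟨R₀.map ρ, Ideal.FG.map (IsNoetherian.noetherian R₀) ρ, ?_, ?_⟩
  · rw [Ideal.map_le_iff_le_comap]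
    intro x hx
    rw [Ideal.mem_comap, mem_nilradical]
    refine ⟨K, ?_⟩
    have h1 : x ^ K ∈ 𝔫 ^ K := Ideal.pow_mem_pow (hR₀𝔫 hx) K
    rw [h𝔫K] at h1
    have h2 : x ^ K = 0 := by simpa using h1
    rw [← map_pow, h2, map_zero]
  · intro A' _ _ _ _
    letI aCA' : Algebra C A' := ((algebraMap A A').comp (algebraMap C A)).toAlgebra
    haveI tCAA' : IsScalarTower C A A' := .of_algebraMap_eq' rfl
    letI aRA' : Algebra Rb A' := ((algebraMap Ah A').comp ρ).toAlgebra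
    have hcomp : algebraMap C A' = (algebraMap Rb A').comp (algebraMap C Rb) := by
      ext c
      change algebraMap A A' (algebraMap C A c) =
        algebraMap Ah A' (ρ (algebraMap C Rb c))
      rw [hρ, ← IsScalarTower.algebraMap_apply A Ah A']
    haveI tCRA' : IsScalarTower C Rb A' := .of_algebraMap_eq' hcomp
    let e1 : A' ⊗[A] M ≃ₗ[A'] A' ⊗[C] M₀ :=
      tensorEquivOfIsBaseChange (hmap.restrictScalars C) hbcA
    let e2 : A' ⊗[Rb] (Rb ⊗[C] M₀) ≃ₗ[A'] A' ⊗[C] M₀ :=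
      TensorProduct.AlgebraTensorModule.cancelBaseChange C Rb A' A' M₀
    have h3 := (huniv A').2
    have h4 : (R₀.map ρ).map (algebraMap Ah A') =
        R₀.map (algebraMap Rb A') := Ideal.map_map _ _
    rw [h4, ← h3]
    exact ⟨fun hfl => Module.Flat.of_linearEquiv (e2 ≪≫ₗ e1.symm),
      fun hfl => Module.Flat.of_linearEquiv (e1 ≪≫ₗ e2.symm)⟩

open Groth.Agent.H57 in
/-- Localizing (at a submonoid of the algebra) a module flat over the base keeps it flat. -/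
theorem flat_localizedModule_of_flat {A B : Type u} [CommRing A] [CommRing B] [Algebra A B]
    (T : Submonoid B) (N : Type u) [AddCommGroup N] [Module A N] [Module B N]
    [IsScalarTower A B N] [Module.Flat A N] : Module.Flat A (LocalizedModule T N) := by
  refine flat_localizedModule_of_forall T N (fun P Q _ _ _ _ v hv x hx => ⟨1, ?_⟩)
  have hinj := Module.Flat.lTensor_preserves_injective_linearMap (M := N) v hv
  rw [one_smul]
  exact hinj (hx.trans (map_zero _).symm)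

/-- The generic flattening ideal for finitely many charts. -/
theorem multi_core (A : Type u) [CommRing A] {ι : Type*} [Finite ι] (B M : ι → Type u)
    [∀ i, CommRing (B i)] [∀ i, Algebra A (B i)] [∀ i, Algebra.FinitePresentation A (B i)]
    [∀ i, AddCommGroup (M i)] [∀ i, Module (B i) (M i)] [∀ i, Module A (M i)]
    [∀ i, IsScalarTower A (B i) (M i)] [∀ i, Module.FinitePresentation (B i) (M i)]
    (hA : (nilradical A).IsPrime) :
    ∃ h : A, ¬ IsNilpotent h ∧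
      ∀ (Ah : Type u) [CommRing Ah] [Algebra A Ah] [IsLocalization.Away h Ah],
      ∃ J : Ideal Ah, J.FG ∧ J ≤ nilradical Ah ∧
        ∀ (A' : Type u) [CommRing A'] [Algebra Ah A'] [Algebra A A'] [IsScalarTower A Ah A'],
          (∀ i, Module.Flat A' (A' ⊗[A] M i)) ↔ J.map (algebraMap Ah A') = ⊥ := by
  classical
  haveI := Fintype.ofFinite ι
  choose h₁ hh₁ hcore using fun i => chart_core A (B i) (M i) hA
  refine ⟨∏ i, h₁ i, ?_, fun Ah _ _ _ => ?_⟩
  · intro hn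
    have hmem : ∏ i, h₁ i ∈ nilradical A := mem_nilradical.mpr hn
    obtain ⟨i, -, hi⟩ := (hA.prod_mem_iff).mp hmem
    exact hh₁ i (mem_nilradical.mp hi)
  · choose J hJfg hJnil hJ using fun i => hcore i (∏ i, h₁ i)
      (Finset.dvd_prod_of_mem h₁ (Finset.mem_univ i)) Ah
    refine ⟨⨆ i, J i, Submodule.fg_iSup _ hJfg, iSup_le hJnil, fun A' _ _ _ _ => ?_⟩
    rw [Ideal.map_iSup, iSup_eq_bot]
    exact forall_congr' fun i => hJ i A'

end Chart

end Groth.Agent.H57.GenFlatten
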