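import Groth.Agent.H57.FlatInj
import Mathlib.RingTheory.Regular.RegularSequence
import Mathlib.RingTheory.Nakayama
import Mathlib.RingTheory.TensorProduct.Finite
import Mathlib.LinearAlgebra.TensorProduct.RightExactness
import Mathlib.RingTheory.Noetherian.OfPrime
import Mathlib.RingTheory.Henselian

/-! Regular sequences and flatness (EGA 0_IV 15.1.14--16, Matsumura 22.5--22.6), helper57.

* `flat_of_isSMulRegular_of_flat_quot`: `r ∈ rad B` regular on the finite `B`-module `M`, `M/rM` flat
  over `A` implies `M` flat over `A`.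
* `isSMulRegular_and_flat_quot`: `M` flat over `A`, `r` regular on `M/𝔪M` implies `r` regular on `M` and
  `M/rM` flat over `A`.
* `isSMulRegular_quot_of_flat_quot`: `r` regular on `M`, `M/rM` flat over `A` implies `r` regular on
  `M/IM`.
* list versions.
-/

set_option autoImplicit false

universe u v w

open TensorProduct LinearMap
open scoped Pointwise

namespace Groth.Agent.H57

section mulMapR

variable {A : Type u} [CommRing A]

/-- multiplication map `X ⊗ 𝔞 → X`. -/
noncomputable def mulMapR (𝔞 : Ideal A) (X : Type*) [AddCommGroup X] [Module A X] :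
    X ⊗[A] 𝔞 →ₗ[A] X :=
  (TensorProduct.rid A X).toLinearMap ∘ₗ lTensor X 𝔞.subtype

theorem mulMapR_tmul (𝔞 : Ideal A) (X : Type*) [AddCommGroup X] [Module A X] (x : X) (a : 𝔞) :
    mulMapR 𝔞 X (x ⊗ₜ a) = (a : A) • x := by
  simp [mulMapR]

theorem mem_smul_top_iff_mulMapR (𝔞 : Ideal A) {X : Type*} [AddCommGroup X] [Module A X] (x : X) :
    x ∈ 𝔞 • (⊤ : Submodule A X) ↔ ∃ ξ, mulMapR 𝔞 X ξ = x := by
  constructor
  · intro hx
    refine Submodule.smul_induction_on hx
      (fun r hr n _ => ⟨n ⊗ₜ ⟨r, hr⟩, mulMapR_tmul _ _ _ _⟩) ?_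
    rintro a b ⟨ξ, hξ⟩ ⟨η, hη⟩
    exact ⟨ξ + η, by rw [map_add, hξ, hη]⟩
  · rintro ⟨ξ, rfl⟩
    induction ξ using TensorProduct.induction_on with
    | zero => rw [map_zero]; exact zero_mem _
    | tmul n b => rw [mulMapR_tmul]; exact Submodule.smul_mem_smul b.2 Submodule.mem_top
    | add a b ha hb => rw [map_add]; exact add_mem ha hb

theorem mulMapR_injective_of_flat (𝔞 : Ideal A) (X : Type*) [AddCommGroup X] [Module A X]
    [Module.Flat A X] : Function.Injective (mulMapR 𝔞 X) :=
  (TensorProduct.rid A X).injective.comp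
    (Module.Flat.lTensor_preserves_injective_linearMap (M := X) 𝔞.subtype Subtype.val_injective)

theorem mulMapR_rTensor (𝔞 : Ideal A) {X Y : Type*} [AddCommGroup X] [Module A X] [AddCommGroup Y]
    [Module A Y] (g : X →ₗ[A] Y) (ξ : X ⊗[A] 𝔞) :
    mulMapR 𝔞 Y (rTensor 𝔞 g ξ) = g (mulMapR 𝔞 X ξ) := by
  induction ξ using TensorProduct.induction_on with
  | zero => simp
  | tmul x a => simp [mulMapR_tmul]
  | add a b ha hb => simp only [map_add, ha, hb]

/-- If `X ⧸ N` is flat and `ξ ∈ X ⊗ 𝔞` is mapped into `N` then `ξ` comes from `N ⊗ 𝔞`. -/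
theorem mem_range_rTensor_of_mulMapR_mem (𝔞 : Ideal A) {X : Type*} [AddCommGroup X] [Module A X]
    (N : Submodule A X) [Module.Flat A (X ⧸ N)] (ξ : X ⊗[A] 𝔞) (h : mulMapR 𝔞 X ξ ∈ N) :
    ∃ ζ : N ⊗[A] 𝔞, rTensor 𝔞 N.subtype ζ = ξ := by
  have h1 : rTensor 𝔞 N.mkQ ξ = 0 := by
    apply mulMapR_injective_of_flat 𝔞 (X ⧸ N)
    rw [mulMapR_rTensor, map_zero]
    exact (Submodule.Quotient.mk_eq_zero N).mpr h
  exact (rTensor_exact 𝔞 (LinearMap.exact_subtype_mkQ N) N.mkQ_surjective ξ).mp h1

end mulMapR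

section reg

variable {A : Type u} {B : Type v} [CommRing A] [CommRing B] [Algebra A B]
variable (M : Type w) [AddCommGroup M] [Module B M] [Module A M] [IsScalarTower A B M]

variable (B) in
/-- the `B`-linear multiplication map. -/
noncomputable def mulMapB (𝔞 : Ideal A) : M ⊗[A] 𝔞 →ₗ[B] M :=
  (AlgebraTensorModule.rid A B M).toLinearMap ∘ₗ AlgebraTensorModule.lTensor B M 𝔞.subtype

variable (B) in
theorem mulMapB_apply (𝔞 : Ideal A) (ξ : M ⊗[A] 𝔞) : mulMapB B M 𝔞 ξ = mulMapR 𝔞 M ξ := rfl

theorem mulMapR_smul (𝔞 : Ideal A) (b : B) (ξ : M ⊗[A] 𝔞) :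
    mulMapR 𝔞 M (b • ξ) = b • mulMapR 𝔞 M ξ := by
  rw [← mulMapB_apply B, ← mulMapB_apply B, map_smul]

theorem map_smul_top_restrictScalars (I : Ideal A) :
    (I.map (algebraMap A B) • (⊤ : Submodule B M)).restrictScalars A = I • (⊤ : Submodule A M) := by
  apply le_antisymm
  · intro x hx
    rw [Submodule.restrictScalars_mem] at hx
    have key : ∀ b ∈ I.map (algebraMap A B), ∀ m : M, b • m ∈ (I • ⊤ : Submodule A M) := by
      intro b hb
      refine Submodule.span_induction ?_ ?_ ?_ ?_ hb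
      · rintro _ ⟨a, ha, rfl⟩ m
        rw [algebraMap_smul]
        exact Submodule.smul_mem_smul ha Submodule.mem_top
      · intro m
        rw [zero_smul]
        exact zero_mem _
      · intro x y _ _ hx hy m
        rw [add_smul]
        exact add_mem (hx m) (hy m)
      · intro c x _ hx m
        rw [smul_eq_mul, mul_comm, mul_smul]
        exact hx (c • m)
    refine Submodule.smul_induction_on hx (fun b hb m _ => key b hb m) ?_
    intro x y hx hy
    exact add_mem hx hy
  · intro x hx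
    rw [Submodule.restrictScalars_mem]
    refine Submodule.smul_induction_on hx ?_ ?_
    · intro a ha m _
      rw [← algebraMap_smul B a m]
      exact Submodule.smul_mem_smul (Ideal.mem_map_of_mem _ ha) Submodule.mem_top
    · intro x y hx hy
      exact add_mem hx hy

theorem mem_map_smul_top_iff (I : Ideal A) (x : M) :
    x ∈ (I.map (algebraMap A B) • ⊤ : Submodule B M) ↔ x ∈ (I • ⊤ : Submodule A M) := by
  rw [← map_smul_top_restrictScalars (B := B) M I, Submodule.restrictScalars_mem]

/-- If `M ⧸ rM` is flat over `A` and `ξ ∈ M ⊗ 𝔞` is mapped into `rM`, then `ξ ∈ r (M ⊗ 𝔞)`. -/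
theorem exists_smul_eq_of_mulMapR_mem (r : B) [Module.Flat A (M ⧸ (r • ⊤ : Submodule B M))]
    (𝔞 : Ideal A) (ξ : M ⊗[A] 𝔞) (h : mulMapR 𝔞 M ξ ∈ (r • ⊤ : Submodule B M)) :
    ∃ ξ' : M ⊗[A] 𝔞, r • ξ' = ξ := by
  haveI : Module.Flat A (M ⧸ (r • ⊤ : Submodule B M).restrictScalars A) :=
    Module.Flat.of_linearEquiv (Submodule.Quotient.restrictScalarsEquiv A (r • ⊤ : Submodule B M))
  obtain ⟨ζ, hζ⟩ := mem_range_rTensor_of_mulMapR_mem 𝔞
    ((r • ⊤ : Submodule B M).restrictScalars A) ξ h
  have h2 : ∀ ζ : ((r • ⊤ : Submodule B M).restrictScalars A) ⊗[A] 𝔞,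
      rTensor 𝔞 ((r • ⊤ : Submodule B M).restrictScalars A).subtype ζ ∈
        (r • ⊤ : Submodule B (M ⊗[A] 𝔞)) := by
    intro ζ
    induction ζ using TensorProduct.induction_on with
    | zero => rw [map_zero]; exact zero_mem _
    | tmul n a =>
      rw [rTensor_tmul]
      have hn : (n : M) ∈ (r • ⊤ : Submodule B M) := n.2
      obtain ⟨m, -, hm⟩ := (Submodule.mem_smul_pointwise_iff_exists _ _ _).mp hn
      have e : ((r • ⊤ : Submodule B M).restrictScalars A).subtype n = r • m := hm.symm
      rw [e, ← TensorProduct.smul_tmul']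
      exact Submodule.smul_mem_pointwise_smul _ r ⊤ Submodule.mem_top
    | add a b ha hb => rw [map_add]; exact add_mem ha hb
  obtain ⟨ξ', -, hξ'⟩ := (Submodule.mem_smul_pointwise_iff_exists _ _ _).mp (h2 ζ)
  exact ⟨ξ', hξ'.trans hζ⟩

/-- Descending step: `r ∈ rad B` regular on the finite `B`-module `M` with `M/rM` flat over `A`
implies `M` flat over `A`. -/
theorem flat_of_isSMulRegular_of_flat_quot [IsNoetherianRing B] [Module.Finite B M] (r : B)
    (hr : r ∈ Ideal.jacobson (⊥ : Ideal B)) (hreg : IsSMulRegular M r)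
    [Module.Flat A (M ⧸ (r • ⊤ : Submodule B M))] : Module.Flat A M := by
  rw [Module.Flat.iff_lTensor_injective]
  intro 𝔞 h𝔞
  haveI : Module.Finite A 𝔞 := Module.Finite.iff_fg.mpr h𝔞
  haveI : Module.Finite B (M ⊗[A] 𝔞) :=
    Module.Finite.equiv (AlgebraTensorModule.cancelBaseChange A B B M 𝔞)
  haveI : IsNoetherian B (M ⊗[A] 𝔞) := isNoetherian_of_isNoetherianRing_of_finite B _
  have hK : LinearMap.ker (mulMapB B M 𝔞) ≤ Ideal.span {r} • LinearMap.ker (mulMapB B M 𝔞) := by
    intro y hy
    have hy0 : mulMapR 𝔞 M y = 0 := hy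
    obtain ⟨y', hy'⟩ := exists_smul_eq_of_mulMapR_mem M r 𝔞 y (by rw [hy0]; exact zero_mem _)
    have hy'K : y' ∈ LinearMap.ker (mulMapB B M 𝔞) := by
      rw [LinearMap.mem_ker]
      apply hreg
      show r • mulMapB B M 𝔞 y' = r • (0 : M)
      rw [← map_smul, hy', smul_zero]
      exact hy
    rw [← hy']
    exact Submodule.smul_mem_smul (Ideal.mem_span_singleton_self r) hy'K
  have hK0 : LinearMap.ker (mulMapB B M 𝔞) = ⊥ :=
    Submodule.eq_bot_of_le_smul_of_le_jacobson_bot (Ideal.span {r}) _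
      (IsNoetherian.noetherian _) hK ((Ideal.span_singleton_le_iff_mem _).mpr hr)
  have hinj : Function.Injective (mulMapB B M 𝔞) := LinearMap.ker_eq_bot.mp hK0
  intro x y hxy
  apply hinj
  show (TensorProduct.rid A M) (lTensor M 𝔞.subtype x) = (TensorProduct.rid A M) (lTensor M 𝔞.subtype y)
  rw [hxy]

/-- `r` regular on `M` with `M/rM` flat over `A` implies `r` regular on `M/IM`. -/
theorem isSMulRegular_quot_of_flat_quot (r : B) (hreg : IsSMulRegular M r)
    [Module.Flat A (M ⧸ (r • ⊤ : Submodule B M))] (I : Ideal A) :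
    IsSMulRegular (M ⧸ (I.map (algebraMap A B) • ⊤ : Submodule B M)) r := by
  rw [isSMulRegular_iff_right_eq_zero_of_smul]
  intro x hx
  obtain ⟨m, rfl⟩ := Submodule.Quotient.mk_surjective _ x
  rw [← Submodule.Quotient.mk_smul, Submodule.Quotient.mk_eq_zero, mem_map_smul_top_iff,
    mem_smul_top_iff_mulMapR] at hx
  obtain ⟨ξ, hξ⟩ := hx
  obtain ⟨ξ', rfl⟩ := exists_smul_eq_of_mulMapR_mem M r I ξ
    (by rw [hξ]; exact Submodule.smul_mem_pointwise_smul _ r ⊤ Submodule.mem_top)
  rw [mulMapR_smul] at hξ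
  have hm : mulMapR I M ξ' = m := hreg hξ
  rw [Submodule.Quotient.mk_eq_zero, mem_map_smul_top_iff, mem_smul_top_iff_mulMapR]
  exact ⟨ξ', hm⟩

end reg

section regB

variable {A B : Type u} [CommRing A] [CommRing B] [Algebra A B]
variable (M : Type u) [AddCommGroup M] [Module B M] [Module A M] [IsScalarTower A B M]

/-- Ascending step (Matsumura 22.5 applied to multiplication by `r`). -/
theorem isSMulRegular_and_flat_quot [IsLocalRing A] [IsLocalRing B] [IsNoetherianRing B]
    [IsLocalHom (algebraMap A B)] [Module.Finite B M] [Module.Flat A M] (r : B)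
    (hreg : IsSMulRegular
      (M ⧸ ((IsLocalRing.maximalIdeal A).map (algebraMap A B) • ⊤ : Submodule B M)) r) :
    IsSMulRegular M r ∧ Module.Flat A (M ⧸ (r • ⊤ : Submodule B M)) := by
  let u : M →ₗ[A] M := (LinearMap.lsmul B M r).restrictScalars A
  have hu : ∀ m, u m = r • m := fun m => rfl
  have hres : Function.Injective (lTensor (IsLocalRing.ResidueField A) u) := by
    show Function.Injective (lTensor (A ⧸ IsLocalRing.maximalIdeal A) u)
    rw [injective_iff_map_eq_zero]
    intro z hz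
    obtain ⟨q, rfl⟩ :=
      (TensorProduct.quotTensorEquivQuotSMul M (IsLocalRing.maximalIdeal A)).symm.surjective z
    obtain ⟨m, rfl⟩ := Submodule.Quotient.mk_surjective _ q
    rw [TensorProduct.quotTensorEquivQuotSMul_symm_mk] at hz ⊢
    rw [lTensor_tmul] at hz
    have h1 := congrArg (TensorProduct.quotTensorEquivQuotSMul M (IsLocalRing.maximalIdeal A)) hz
    rw [TensorProduct.quotTensorEquivQuotSMul_mk_one_tmul, map_zero,
      Submodule.Quotient.mk_eq_zero, hu, ← mem_map_smul_top_iff (B := B)] at h1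
    have h3 : r • (Submodule.Quotient.mk m :
        M ⧸ ((IsLocalRing.maximalIdeal A).map (algebraMap A B) • ⊤ : Submodule B M)) = 0 := by
      rw [← Submodule.Quotient.mk_smul, Submodule.Quotient.mk_eq_zero]
      exact h1
    have h4 := (isSMulRegular_iff_right_eq_zero_of_smul.mp hreg) _ h3
    rw [Submodule.Quotient.mk_eq_zero, mem_map_smul_top_iff] at h4
    have h5 : (Submodule.Quotient.mk m :
        M ⧸ (IsLocalRing.maximalIdeal A • ⊤ : Submodule A M)) = 0 :=
      (Submodule.Quotient.mk_eq_zero _).mpr h4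
    rw [← TensorProduct.quotTensorEquivQuotSMul_symm_mk (I := IsLocalRing.maximalIdeal A), h5,
      map_zero]
  obtain ⟨hinj, hflat⟩ := injective_and_flat_coker B u hres
  refine ⟨fun x y h => hinj h, ?_⟩
  have hrange : LinearMap.range u = (r • ⊤ : Submodule B M).restrictScalars A := by
    ext x
    rw [LinearMap.mem_range, Submodule.restrictScalars_mem,
      Submodule.mem_smul_pointwise_iff_exists]
    constructor
    · rintro ⟨m, rfl⟩
      exact ⟨m, Submodule.mem_top, rfl⟩
    · rintro ⟨m, -, rfl⟩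
      exact ⟨m, rfl⟩
  haveI := hflat
  exact Module.Flat.of_linearEquiv
    ((Submodule.Quotient.restrictScalarsEquiv A (r • ⊤ : Submodule B M)).symm ≪≫ₗ
      (Submodule.quotEquivOfEq _ _ hrange.symm))

end regB

section lists

open RingTheory.Sequence

/-- `(M ⧸ IM) ⧸ r ≃ (M ⧸ rM) ⧸ I`. -/
noncomputable def quotSwapEquiv {B : Type*} [CommRing B] (M : Type*) [AddCommGroup M] [Module B M]
    (I : Ideal B) (r : B) :
    QuotSMulTop r (M ⧸ (I • ⊤ : Submodule B M)) ≃ₗ[B]
      (QuotSMulTop r M) ⧸ (I • ⊤ : Submodule B (QuotSMulTop r M)) :=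
  Submodule.quotEquivOfEq _ _
      (by rw [Submodule.map_pointwise_smul, Submodule.map_top, Submodule.range_mkQ]) ≪≫ₗ
    Submodule.quotientQuotientEquivQuotientSup (I • ⊤ : Submodule B M) (r • ⊤) ≪≫ₗ
    Submodule.quotEquivOfEq _ _ (sup_comm _ _) ≪≫ₗ
    (Submodule.quotientQuotientEquivQuotientSup (r • ⊤ : Submodule B M) (I • ⊤)).symm ≪≫ₗ
    Submodule.quotEquivOfEq _ _
      (by rw [Submodule.map_smul'', Submodule.map_top, Submodule.range_mkQ])

variable {A : Type u} {B : Type v} [CommRing A] [CommRing B] [Algebra A B]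

/-- EGA 0_IV 15.1.14-type descent: if `fs ⊆ rad B` is `M`-regular and `M/(fs)M` is flat over `A`,
all the `M/(f₁,…,fᵢ)M` are flat over `A`. -/
theorem flat_take_of_isWeaklyRegular [IsNoetherianRing B] (fs : List B) :
    (∀ f ∈ fs, f ∈ Ideal.jacobson (⊥ : Ideal B)) →
    ∀ (M : Type w) [AddCommGroup M] [Module B M] [Module A M] [IsScalarTower A B M]
      [Module.Finite B M],
      IsWeaklyRegular M fs →
      Module.Flat A (M ⧸ (Ideal.ofList fs • (⊤ : Submodule B M))) →
      ∀ i ≤ fs.length, Module.Flat A (M ⧸ (Ideal.ofList (fs.take i) • (⊤ : Submodule B M))) := by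
  induction fs with
  | nil =>
    intro _ M _ _ _ _ _ _ hflat i hi
    have : i = 0 := by simpa using hi
    subst this
    exact hflat
  | cons r rs ih =>
    intro hfs M _ _ _ _ _ hreg hflat i hi
    rw [isWeaklyRegular_cons_iff] at hreg
    obtain ⟨h1, h2⟩ := hreg
    have hr : r ∈ Ideal.jacobson (⊥ : Ideal B) := hfs r List.mem_cons_self
    have hrs : ∀ f ∈ rs, f ∈ Ideal.jacobson (⊥ : Ideal B) :=
      fun f hf => hfs f (List.mem_cons_of_mem _ hf)
    have hflat1 : Module.Flat A
        (QuotSMulTop r M ⧸ (Ideal.ofList rs • (⊤ : Submodule B (QuotSMulTop r M)))) :=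
      Module.Flat.of_linearEquiv
        ((Submodule.quotOfListConsSMulTopEquivQuotSMulTopInner M r rs).symm.restrictScalars A)
    have key := ih hrs (QuotSMulTop r M) h2 hflat1
    cases i with
    | zero =>
      have h0 := key 0 (Nat.zero_le _)
      have e0 : Ideal.ofList (List.take 0 rs) • (⊤ : Submodule B (QuotSMulTop r M)) = ⊥ := by
        simp
      haveI : Module.Flat A (M ⧸ (r • ⊤ : Submodule B M)) :=
        Module.Flat.of_linearEquiv ((Submodule.quotEquivOfEqBot _ e0).symm.restrictScalars A)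
      haveI : Module.Flat A M := flat_of_isSMulRegular_of_flat_quot M r hr h1
      have e1 : Ideal.ofList (List.take 0 (r :: rs)) • (⊤ : Submodule B M) = ⊥ := by simp
      exact Module.Flat.of_linearEquiv ((Submodule.quotEquivOfEqBot _ e1).restrictScalars A)
    | succ j =>
      have hj : j ≤ rs.length := by simpa using hi
      haveI := key j hj
      exact Module.Flat.of_linearEquiv
        ((Submodule.quotOfListConsSMulTopEquivQuotSMulTopInner M r (rs.take j)).restrictScalars A)

/-- EGA 0_IV 15.1.16-type ascent: `M` flat over `A`, `fs` regular on `M/𝔪M` implies `fs` regular on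
`M` with all `M/(f₁,…,fᵢ)M` flat over `A`. -/
theorem isWeaklyRegular_and_flat_of_fibre {A B : Type u} [CommRing A] [CommRing B] [Algebra A B]
    [IsLocalRing A] [IsLocalRing B] [IsNoetherianRing B]
    [IsLocalHom (algebraMap A B)] (fs : List B) :
    ∀ (M : Type u) [AddCommGroup M] [Module B M] [Module A M] [IsScalarTower A B M]
      [Module.Finite B M] [Module.Flat A M],
      IsWeaklyRegular
        (M ⧸ ((IsLocalRing.maximalIdeal A).map (algebraMap A B) • (⊤ : Submodule B M))) fs →
      IsWeaklyRegular M fs ∧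
        ∀ i ≤ fs.length, Module.Flat A (M ⧸ (Ideal.ofList (fs.take i) • (⊤ : Submodule B M))) := by
  induction fs with
  | nil =>
    intro M _ _ _ _ _ _ _
    refine ⟨IsWeaklyRegular.nil B M, ?_⟩
    intro i hi
    have e1 : Ideal.ofList (List.take i ([] : List B)) • (⊤ : Submodule B M) = ⊥ := by simp
    exact Module.Flat.of_linearEquiv ((Submodule.quotEquivOfEqBot _ e1).restrictScalars A)
  | cons r rs ih =>
    intro M _ _ _ _ _ _ hreg
    rw [isWeaklyRegular_cons_iff] at hreg ⊢
    obtain ⟨h1, h2⟩ := hreg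
    obtain ⟨hr, hflat⟩ := isSMulRegular_and_flat_quot M r h1
    haveI : Module.Flat A (QuotSMulTop r M) := hflat
    have h2' : IsWeaklyRegular (QuotSMulTop r M ⧸
        ((IsLocalRing.maximalIdeal A).map (algebraMap A B) • ⊤ :
          Submodule B (QuotSMulTop r M))) rs :=
      (LinearEquiv.isWeaklyRegular_congr
        (quotSwapEquiv M ((IsLocalRing.maximalIdeal A).map (algebraMap A B)) r) rs).mp h2
    obtain ⟨h3, h4⟩ := ih (QuotSMulTop r M) h2'
    refine ⟨⟨hr, h3⟩, ?_⟩
    intro i hi
    cases i with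
    | zero =>
      have e1 : Ideal.ofList (List.take 0 (r :: rs)) • (⊤ : Submodule B M) = ⊥ := by simp
      exact Module.Flat.of_linearEquiv ((Submodule.quotEquivOfEqBot _ e1).restrictScalars A)
    | succ j =>
      have hj : j ≤ rs.length := by simpa using hi
      haveI := h4 j hj
      exact Module.Flat.of_linearEquiv
        ((Submodule.quotOfListConsSMulTopEquivQuotSMulTopInner M r (rs.take j)).restrictScalars A)

/-- If `fs` is `M`-regular and all `M/(f₁,…,fᵢ)M`, `i ≥ 1`, are flat over `A` then `fs` is regular on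
`M/IM`. -/
theorem isWeaklyRegular_quot_of_flat_take (I : Ideal A) (fs : List B) :
    ∀ (M : Type w) [AddCommGroup M] [Module B M] [Module A M] [IsScalarTower A B M],
      IsWeaklyRegular M fs →
      (∀ i, 1 ≤ i → i ≤ fs.length →
        Module.Flat A (M ⧸ (Ideal.ofList (fs.take i) • (⊤ : Submodule B M)))) →
      IsWeaklyRegular (M ⧸ (I.map (algebraMap A B) • ⊤ : Submodule B M)) fs := by
  induction fs with
  | nil =>
    intro M _ _ _ _ _ _
    exact IsWeaklyRegular.nil B _
  | cons r rs ih =>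
    intro M _ _ _ _ hreg hflat
    rw [isWeaklyRegular_cons_iff] at hreg ⊢
    obtain ⟨h1, h2⟩ := hreg
    haveI : Module.Flat A (M ⧸ (r • ⊤ : Submodule B M)) := by
      haveI := hflat 1 le_rfl (by simp)
      have e1 : Ideal.ofList (List.take 1 (r :: rs)) • (⊤ : Submodule B M) = r • ⊤ := by
        simp [Submodule.ideal_span_singleton_smul]
      exact Module.Flat.of_linearEquiv ((Submodule.quotEquivOfEq _ _ e1.symm).restrictScalars A)
    refine ⟨isSMulRegular_quot_of_flat_quot M r h1 I, ?_⟩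
    have h3 := ih (QuotSMulTop r M) h2 (fun i hi1 hi2 => by
      haveI : Module.Flat A (M ⧸ (Ideal.ofList (r :: rs.take i) • (⊤ : Submodule B M))) :=
        hflat (i + 1) (by omega) (by simpa using hi2)
      exact Module.Flat.of_linearEquiv
        ((Submodule.quotOfListConsSMulTopEquivQuotSMulTopInner M r (rs.take i)).symm.restrictScalars
          A))
    exact (LinearEquiv.isWeaklyRegular_congr (quotSwapEquiv M (I.map (algebraMap A B)) r) rs).mpr h3

end lists

section nilp

/-- A ring which is local modulo a nilpotent ideal is local. -/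
theorem isLocalRing_of_isNilpotent_of_quotient {R : Type*} [CommRing R] (I : Ideal R)
    (hI : IsNilpotent I) [IsLocalRing (R ⧸ I)] : IsLocalRing R := by
  have hle : I ≤ Ideal.jacobson ⊥ := by
    obtain ⟨n, hn⟩ := hI
    intro x hx
    have h1 : x ^ n ∈ I ^ n := Ideal.pow_mem_pow hx n
    rw [hn, Ideal.zero_eq_bot, Ideal.mem_bot] at h1
    have h2 : x ∈ nilradical R := mem_nilradical.mpr ⟨n, h1⟩
    exact (Ideal.radical_le_jacobson (I := (⊥ : Ideal R))) h2
  haveI := isLocalHom_of_le_jacobson_bot I hle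
  exact RingHom.domain_isLocalRing (Ideal.Quotient.mk I)

/-- A ring which is Noetherian modulo a finitely generated nilpotent ideal is Noetherian. -/
theorem isNoetherianRing_of_isNilpotent_of_quotient {R : Type*} [CommRing R] (I : Ideal R)
    (hI : IsNilpotent I) (hfg : I.FG) [IsNoetherianRing (R ⧸ I)] : IsNoetherianRing R := by
  apply IsNoetherianRing.of_prime
  intro P hP
  have hIP : I ≤ P := by
    obtain ⟨n, hn⟩ := hI
    apply Ideal.IsPrime.le_of_pow_le (n := n)
    rw [hn]
    exact bot_le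
  refine Submodule.fg_of_fg_map_of_fg_inf_ker (Submodule.mkQ I) ?_ ?_
  · have h1 : (Ideal.map (Ideal.Quotient.mk I) P).FG := IsNoetherian.noetherian _
    obtain ⟨T, hT⟩ := h1
    have h2 : Submodule.map (Submodule.mkQ I) P =
        (Ideal.map (Ideal.Quotient.mk I) P).restrictScalars R := by
      ext y
      rw [Submodule.restrictScalars_mem,
        Ideal.mem_map_iff_of_surjective _ Ideal.Quotient.mk_surjective, Submodule.mem_map]
      rfl
    rw [h2, ← hT]
    have h3 : (Submodule.span (R ⧸ I) (T : Set (R ⧸ I))).restrictScalars R =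
        Submodule.span R (T : Set (R ⧸ I)) :=
      Submodule.restrictScalars_span R (R ⧸ I) Ideal.Quotient.mk_surjective _
    rw [Ideal.span, h3]
    exact ⟨T, rfl⟩
  · rw [Submodule.ker_mkQ, inf_eq_right.mpr hIP]
    exact hfg

end nilp

end Groth.Agent.H57
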