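import Mathlib
import Groth.Agent.H48.FlatOpen
import Groth.Agent.H57.FlatAtBC

/-!
# Pointwise descent of flatness, part 1: general algebra lemmas (helper57)

`f : P → B` a surjection of `A`-algebras, `𝔞` an ideal of `A`, `μ_Q : Q ⊗ 𝔞 → Q` the multiplication.

* `exists_mul_mem_of_flat_atPrime`: if `B_𝔔` is flat over `A`, every `w ∈ ker f ⊓ 𝔞 P` is carried
  into `𝔞 P * ker f` by some `t` with `f t ∉ 𝔔`.
* `smul_eq_zero_of_mul_mem`: if `P` is flat over `A` and `t * (ker f ⊓ 𝔞 P) ⊆ 𝔞 P * ker f`, then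
  `f t` kills the kernel of `B ⊗ 𝔞 → B`.
-/

set_option autoImplicit false

open TensorProduct LinearMap

namespace Groth.Agent.H57.FlatPt

universe u

section Key

variable {A P B : Type u} [CommRing A] [CommRing P] [CommRing B] [Algebra A P] [Algebra A B]
  (f : P →ₐ[A] B) (𝔞 : Ideal A)

/-- multiplication map `Q ⊗ 𝔞 → Q`. -/
noncomputable def mu (Q : Type u) [CommRing Q] [Algebra A Q] : Q ⊗[A] 𝔞 →ₗ[Q] Q :=
  (AlgebraTensorModule.rid A Q Q).toLinearMap ∘ₗ AlgebraTensorModule.lTensor Q Q 𝔞.subtype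

lemma mu_tmul (Q : Type u) [CommRing Q] [Algebra A Q] (q : Q) (a : 𝔞) :
    mu 𝔞 Q (q ⊗ₜ a) = (a : A) • q := by
  simp [mu]

lemma mu_eq_zero_iff (Q : Type u) [CommRing Q] [Algebra A Q] (x : Q ⊗[A] 𝔞) :
    mu 𝔞 Q x = 0 ↔ lTensor Q 𝔞.subtype x = 0 := by
  simp only [mu, LinearMap.coe_comp, LinearEquiv.coe_coe, Function.comp_apply,
    EmbeddingLike.map_eq_zero_iff]
  rfl

lemma map_mu (y : P ⊗[A] 𝔞) : f (mu 𝔞 P y) = mu 𝔞 B (f.toLinearMap.rTensor 𝔞 y) := by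
  induction y using TensorProduct.induction_on with
  | zero => simp
  | tmul p a => simp [mu_tmul]
  | add a b ha hb => simp only [map_add, ha, hb]

lemma rTensor_smul (t : P) (y : P ⊗[A] 𝔞) :
    f.toLinearMap.rTensor 𝔞 (t • y) = f t • f.toLinearMap.rTensor 𝔞 y := by
  induction y using TensorProduct.induction_on with
  | zero => simp
  | tmul p a => simp [TensorProduct.smul_tmul']
  | add a b ha hb => simp only [smul_add, map_add, ha, hb]

lemma mu_mem_map (y : P ⊗[A] 𝔞) : mu 𝔞 P y ∈ 𝔞.map (algebraMap A P) := by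
  induction y using TensorProduct.induction_on with
  | zero => simp
  | tmul p a =>
    rw [mu_tmul, Algebra.smul_def]
    exact Ideal.mul_mem_right _ _ (Ideal.mem_map_of_mem _ a.2)
  | add a b ha hb => rw [map_add]; exact add_mem ha hb

lemma exists_mu_eq (w : P) (hw : w ∈ 𝔞.map (algebraMap A P)) : ∃ y, mu 𝔞 P y = w := by
  have hw' : w ∈ Ideal.span ((algebraMap A P) '' (𝔞 : Set A)) := hw
  refine Submodule.span_induction (p := fun w _ => ∃ y, mu 𝔞 P y = w) ?_ ?_ ?_ ?_ hw'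
  · rintro _ ⟨a, ha, rfl⟩
    exact ⟨(1 : P) ⊗ₜ (⟨a, ha⟩ : 𝔞), by rw [mu_tmul, Algebra.algebraMap_eq_smul_one]⟩
  · exact ⟨0, map_zero _⟩
  · rintro a b _ _ ⟨ya, rfl⟩ ⟨yb, rfl⟩
    exact ⟨ya + yb, map_add _ _ _⟩
  · rintro p w _ ⟨y, rfl⟩
    exact ⟨p • y, map_smul _ _ _⟩

lemma exists_of_mem_mul (v : P) (hv : v ∈ 𝔞.map (algebraMap A P) * RingHom.ker f) :
    ∃ z, f.toLinearMap.rTensor 𝔞 z = 0 ∧ mu 𝔞 P z = v := by
  refine Submodule.mul_induction_on hv ?_ ?_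
  · intro m hm k hk
    obtain ⟨y, rfl⟩ := exists_mu_eq 𝔞 m hm
    refine ⟨k • y, ?_, ?_⟩
    · rw [rTensor_smul, (RingHom.mem_ker).mp hk, zero_smul]
    · rw [map_smul, smul_eq_mul, mul_comm]
  · rintro a b ⟨za, ha1, rfl⟩ ⟨zb, hb1, rfl⟩
    exact ⟨za + zb, by rw [map_add, ha1, hb1, add_zero], map_add _ _ _⟩

include f in
lemma mu_mem_mul_of_rTensor_eq_zero (hf : Function.Surjective f) (z : P ⊗[A] 𝔞)
    (hz : f.toLinearMap.rTensor 𝔞 z = 0) :
    mu 𝔞 P z ∈ 𝔞.map (algebraMap A P) * RingHom.ker f := by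
  have hex := rTensor_exact 𝔞 (LinearMap.exact_subtype_ker_map f.toLinearMap) hf
  obtain ⟨z', rfl⟩ := (hex z).mp hz
  induction z' using TensorProduct.induction_on with
  | zero => simp
  | tmul k a =>
    rw [rTensor_tmul, Submodule.subtype_apply, mu_tmul, Algebra.smul_def]
    exact Ideal.mul_mem_mul (Ideal.mem_map_of_mem _ a.2) k.2
  | add a b ha hb =>
    rw [map_add, map_add]
    exact add_mem (ha (by
      have := (hex _).mpr ⟨a, rfl⟩; exact this)) (hb (by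
      have := (hex _).mpr ⟨b, rfl⟩; exact this))

/-- **Step A.** If `B_𝔔` is flat over `A`, every element of `ker f ⊓ 𝔞 P` is multiplied into
`𝔞 P * ker f` by an element whose image lies outside `𝔔`. -/
theorem exists_mul_mem_of_flat_atPrime (hf : Function.Surjective f) (𝔔 : Ideal B) [𝔔.IsPrime]
    [Module.Flat A (Localization.AtPrime 𝔔)] (w : P)
    (hw : w ∈ RingHom.ker f ⊓ 𝔞.map (algebraMap A P)) :
    ∃ t : P, f t ∉ 𝔔 ∧ t * w ∈ 𝔞.map (algebraMap A P) * RingHom.ker f := by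
  obtain ⟨y, rfl⟩ := exists_mu_eq 𝔞 w hw.2
  have hx : lTensor B 𝔞.subtype (f.toLinearMap.rTensor 𝔞 y) = 0 := by
    rw [← mu_eq_zero_iff, ← map_mu]
    exact hw.1
  haveI : Module.Flat A (LocalizedModule 𝔔.primeCompl B) := by
    let e : LocalizedModule 𝔔.primeCompl B ≃ₗ[B] Localization.AtPrime 𝔔 :=
      IsLocalizedModule.iso 𝔔.primeCompl (Algebra.linearMap B (Localization.AtPrime 𝔔))
    exact Module.Flat.of_linearEquiv (e.restrictScalars A)
  obtain ⟨c, hc⟩ := Groth.Agent.H57.exists_smul_eq_zero_of_lTensor_injective 𝔔.primeCompl B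
    𝔞.subtype (Module.Flat.lTensor_preserves_injective_linearMap _ Subtype.val_injective) _ hx
  obtain ⟨t, ht⟩ := hf c.1
  refine ⟨t, by rw [ht]; exact c.2, ?_⟩
  have h0 : f.toLinearMap.rTensor 𝔞 (t • y) = 0 := by
    rw [rTensor_smul, ht]; exact hc
  have := mu_mem_mul_of_rTensor_eq_zero f 𝔞 hf _ h0
  rwa [map_smul, smul_eq_mul] at this

/-- **Twisted injectivity.** If `P` is flat over `A` and `t * (ker f ⊓ 𝔞 P) ⊆ 𝔞 P * ker f`, then
`f t` kills the kernel of `B ⊗ 𝔞 → B`. -/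
theorem smul_eq_zero_of_mul_mem (hf : Function.Surjective f) [Module.Flat A P] (t : P)
    (h : ∀ w ∈ RingHom.ker f ⊓ 𝔞.map (algebraMap A P),
      t * w ∈ 𝔞.map (algebraMap A P) * RingHom.ker f)
    (x : B ⊗[A] 𝔞) (hx : lTensor B 𝔞.subtype x = 0) : f t • x = 0 := by
  obtain ⟨y, rfl⟩ := LinearMap.rTensor_surjective 𝔞 (g := f.toLinearMap) hf x
  have hw : mu 𝔞 P y ∈ RingHom.ker f ⊓ 𝔞.map (algebraMap A P) := by
    refine ⟨?_, mu_mem_map 𝔞 y⟩
    show mu 𝔞 P y ∈ RingHom.ker f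
    rw [RingHom.mem_ker, map_mu, mu_eq_zero_iff]
    exact hx
  obtain ⟨z, hz1, hz2⟩ := exists_of_mem_mul f 𝔞 _ (h _ hw)
  have hinj : Function.Injective (mu 𝔞 P) := by
    intro a b hab
    have h1 : mu 𝔞 P (a - b) = 0 := by rw [map_sub, hab, sub_self]
    rw [mu_eq_zero_iff] at h1
    have := Module.Flat.lTensor_preserves_injective_linearMap (M := P) 𝔞.subtype
      Subtype.val_injective (h1.trans (map_zero _).symm)
    exact sub_eq_zero.mp this
  have hty : t • y = z := by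
    apply hinj
    rw [hz2, map_smul, smul_eq_mul]
  rw [← rTensor_smul, hty, hz1]

end Key

end Groth.Agent.H57.FlatPt
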