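import Mathlib
import Groth.Agent.H57.FlatPt1

/-!
# Pointwise descent of flatness, part 2: descent to a finite stage (helper57)

`R₀` Noetherian, `B₁` a finite type `R₀`-algebra with `B₁ / I B₁` flat over `R₀ / I`, `T` an
`R₀`-algebra and `𝔔 ⊇ I` a prime of `T ⊗ B₁` at which `T ⊗ B₁` is flat over `T`.  Then for all
large finitely generated subalgebras `S ⊆ T`, `S ⊗ B₁` is flat over `S` at the contraction of `𝔔`.
-/

set_option autoImplicit false

open TensorProduct LinearMap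
open Groth.Agent.H48.FlatLimit

namespace Groth.Agent.H57.FlatPt

universe u

section Nat

variable {R₀ P₀ B₁ T : Type u} [CommRing R₀] [CommRing P₀] [CommRing B₁] [Algebra R₀ P₀]
  [Algebra R₀ B₁] [CommRing T] [Algebra R₀ T] (π₀ : P₀ →ₐ[R₀] B₁)

lemma phi_piT (S : Subalgebra R₀ T) (z : ↥S ⊗[R₀] P₀) :
    φ B₁ S (πT π₀ ↥S z) = πT π₀ T (φ P₀ S z) := by
  induction z using TensorProduct.induction_on with
  | zero => simp
  | tmul s p => simp [φ]
  | add a b ha hb => simp only [map_add, ha, hb]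

lemma phi_includeRight (S : Subalgebra R₀ T) (g : P₀) :
    φ P₀ S (Algebra.TensorProduct.includeRight g) =
      (Algebra.TensorProduct.includeRight g : T ⊗[R₀] P₀) := by
  simp [φ]

end Nat

/-- **Pointwise descent of flatness along `V(I)`.** -/
theorem exists_fg_flat_atPrime_of_flat_mod
    {R₀ B₁ T : Type u} [CommRing R₀] [IsNoetherianRing R₀] [CommRing B₁] [Algebra R₀ B₁]
    [Algebra.FiniteType R₀ B₁] (I : Ideal R₀)
    [Module.Flat (R₀ ⧸ I) ((R₀ ⧸ I) ⊗[R₀] B₁)]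
    [CommRing T] [Algebra R₀ T] (𝔔 : Ideal (T ⊗[R₀] B₁)) [𝔔.IsPrime]
    (hI : I.map (algebraMap R₀ (T ⊗[R₀] B₁)) ≤ 𝔔)
    [Module.Flat T (Localization.AtPrime 𝔔)] :
    ∃ S₀ : Subalgebra R₀ T, S₀.FG ∧ ∀ S : Subalgebra R₀ T, S₀ ≤ S → S.FG →
      Module.Flat ↥S (Localization.AtPrime (𝔔.comap (φ B₁ S))) := by
  classical
  obtain ⟨n, π₀, hπ₀⟩ := Algebra.FiniteType.iff_quotient_mvPolynomial''.mp
    (inferInstance : Algebra.FiniteType R₀ B₁)
  obtain ⟨s, hs⟩ := (isNoetherianRing_iff_ideal_fg _).mp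
    (inferInstance : IsNoetherianRing (MvPolynomial (Fin n) R₀))
    (RingHom.ker π₀ ⊓ I.map (algebraMap R₀ (MvPolynomial (Fin n) R₀)))
  -- Step A at `T`
  have hA : ∀ g ∈ s, ∃ t : T ⊗[R₀] MvPolynomial (Fin n) R₀, πT π₀ T t ∉ 𝔔 ∧
      t * (Algebra.TensorProduct.includeRight g : T ⊗[R₀] MvPolynomial (Fin n) R₀) ∈
        ext R₀ T (I.map (algebraMap R₀ (MvPolynomial (Fin n) R₀)) * RingHom.ker π₀) := by
    intro g hg
    have hg' : g ∈ RingHom.ker π₀ ⊓ I.map (algebraMap R₀ (MvPolynomial (Fin n) R₀)) := by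
      rw [← hs]; exact Ideal.subset_span hg
    have hw : (Algebra.TensorProduct.includeRight g : T ⊗[R₀] MvPolynomial (Fin n) R₀) ∈
        RingHom.ker (πT π₀ T) ⊓ (I.map (algebraMap R₀ T)).map
          (algebraMap T (T ⊗[R₀] MvPolynomial (Fin n) R₀)) := by
      rw [ker_map_id_eq π₀ hπ₀ T, map_map_algebraMap, ← ext_map_algebraMap]
      exact ⟨Ideal.mem_map_of_mem _ hg'.1, Ideal.mem_map_of_mem _ hg'.2⟩
    obtain ⟨t, ht1, ht2⟩ := exists_mul_mem_of_flat_atPrime (πT π₀ T) (I.map (algebraMap R₀ T))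
      (map_id_surjective π₀ T hπ₀) 𝔔 _ hw
    refine ⟨t, ht1, ?_⟩
    rw [ker_map_id_eq π₀ hπ₀ T, map_map_algebraMap, ← ext_map_algebraMap, ← ext_mul] at ht2
    exact ht2
  choose! t ht1 ht2 using hA
  have htt1 : πT π₀ T (∏ g ∈ s, t g) ∉ 𝔔 := by
    rw [map_prod]
    intro hmem
    obtain ⟨g, hg, hgm⟩ := (Ideal.IsPrime.prod_mem_iff).mp hmem
    exact ht1 g hg hgm
  have htt2 : ∀ g ∈ s, (∏ g ∈ s, t g) *
      (Algebra.TensorProduct.includeRight g : T ⊗[R₀] MvPolynomial (Fin n) R₀) ∈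
        ext R₀ T (I.map (algebraMap R₀ (MvPolynomial (Fin n) R₀)) * RingHom.ker π₀) := by
    intro g hg
    rw [← Finset.mul_prod_erase s t hg, mul_comm (t g), mul_assoc]
    exact Ideal.mul_mem_left _ _ (ht2 g hg)
  -- Step B: descent to a finite stage
  have hB : Ev T (fun S : Subalgebra R₀ T => ∃ tS : ↥S ⊗[R₀] MvPolynomial (Fin n) R₀,
      φ (MvPolynomial (Fin n) R₀) S tS = ∏ g ∈ s, t g ∧
      ∀ g ∈ s, tS * (Algebra.TensorProduct.includeRight g : ↥S ⊗[R₀] MvPolynomial (Fin n) R₀) ∈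
        ext R₀ ↥S (I.map (algebraMap R₀ (MvPolynomial (Fin n) R₀)) * RingHom.ker π₀)) := by
    have h1 := ev_mem_range (P₀ := MvPolynomial (Fin n) R₀) (∏ g ∈ s, t g)
    have h2 : Ev T (fun S : Subalgebra R₀ T => ∀ g ∈ s, ∃ x' ∈
        ext R₀ ↥S (I.map (algebraMap R₀ (MvPolynomial (Fin n) R₀)) * RingHom.ker π₀),
        φ (MvPolynomial (Fin n) R₀) S x' = (∏ g ∈ s, t g) *
          (Algebra.TensorProduct.includeRight g : T ⊗[R₀] MvPolynomial (Fin n) R₀)) :=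
      Ev.forall_finset s (fun g hg => ev_mem_ext _ _ (htt2 g hg))
    refine (h1.and h2).mono fun S hS => ?_
    obtain ⟨⟨tS, htS⟩, h2S⟩ := hS
    refine ⟨tS, htS, fun g hg => ?_⟩
    obtain ⟨x', hx'1, hx'2⟩ := h2S g hg
    have hx' : x' = tS * Algebra.TensorProduct.includeRight g := by
      apply φ_injective S
      rw [hx'2, map_mul, htS, phi_includeRight]
    rwa [← hx']
  obtain ⟨S₀, hS₀, hS₀'⟩ := hB
  refine ⟨S₀, hS₀, fun S hS hSfg => ?_⟩
  obtain ⟨tS, htS, htSg⟩ := hS₀' S hS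
  haveI : Algebra.FiniteType R₀ ↥S := (Subalgebra.fg_iff_finiteType S).mp hSfg
  haveI : IsNoetherianRing ↥S := Algebra.FiniteType.isNoetherianRing R₀ ↥S
  haveI : IsNoetherianRing (↥S ⊗[R₀] B₁) := Algebra.FiniteType.isNoetherianRing ↥S _
  haveI : Module.Flat (↥S ⧸ I.map (algebraMap R₀ ↥S))
      ((↥S ⧸ I.map (algebraMap R₀ ↥S)) ⊗[↥S] (↥S ⊗[R₀] B₁)) := by
    let e₁ := Algebra.TensorProduct.cancelBaseChange R₀ ↥S (↥S ⧸ I.map (algebraMap R₀ ↥S))
      (↥S ⧸ I.map (algebraMap R₀ ↥S)) B₁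
    let e₂ := Algebra.TensorProduct.cancelBaseChange R₀ (R₀ ⧸ I)
      (↥S ⧸ I.map (algebraMap R₀ ↥S)) (↥S ⧸ I.map (algebraMap R₀ ↥S)) B₁
    exact Module.Flat.of_linearEquiv (e₁.toLinearEquiv ≪≫ₗ e₂.symm.toLinearEquiv)
  -- Step C: the colon condition at `S`
  have hcolon : ∀ w ∈ RingHom.ker (πT π₀ ↥S) ⊓ (I.map (algebraMap R₀ ↥S)).map
        (algebraMap ↥S (↥S ⊗[R₀] MvPolynomial (Fin n) R₀)),
      tS * w ∈ (I.map (algebraMap R₀ ↥S)).map
        (algebraMap ↥S (↥S ⊗[R₀] MvPolynomial (Fin n) R₀)) * RingHom.ker (πT π₀ ↥S) := by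
    intro w hw
    rw [ker_map_id_eq π₀ hπ₀ ↥S, map_map_algebraMap, ← ext_map_algebraMap] at hw ⊢
    rw [← ext_mul]
    have hw' := ext_inf_le_ext_inf π₀ hπ₀ I ↥S hw
    rw [Groth.Agent.H48.FlatLimit.ext, ← hs, Ideal.map_span] at hw'
    refine Submodule.span_induction (p := fun w _ => tS * w ∈
      ext R₀ ↥S (I.map (algebraMap R₀ (MvPolynomial (Fin n) R₀)) * RingHom.ker π₀))
      ?_ ?_ ?_ ?_ hw'
    · rintro _ ⟨g, hg, rfl⟩
      exact htSg g hg
    · rw [mul_zero]; exact zero_mem _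
    · intro a b _ _ ha hb
      rw [mul_add]; exact add_mem ha hb
    · intro a b _ hb
      rw [smul_eq_mul, mul_left_comm]
      exact Ideal.mul_mem_left _ _ hb
  have hkill := smul_eq_zero_of_mul_mem (πT π₀ ↥S) (I.map (algebraMap R₀ ↥S))
    (map_id_surjective π₀ ↥S hπ₀) tS hcolon
  -- Step D: the local criterion at the contraction of `𝔔`
  refine Groth.Agent.H48.FlatOpen.flat_localization_atPrime' (I.map (algebraMap R₀ ↥S))
    (𝔔.comap (φ B₁ S)) ?_ ?_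
  · rw [Ideal.map_map, ← IsScalarTower.algebraMap_eq, Ideal.map_le_iff_le_comap]
    intro r hr
    rw [Ideal.mem_comap, Ideal.mem_comap, AlgHom.commutes]
    exact hI (Ideal.mem_map_of_mem _ hr)
  · intro x hx
    refine ⟨πT π₀ ↥S tS, ?_, hkill x hx⟩
    rw [Ideal.mem_comap, phi_piT, htS]
    exact htt1

end Groth.Agent.H57.FlatPt
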