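import Mathlib
import Groth.Agent.H57.FlatPt2
import Groth.Agent.H48.FlatBC

/-!
# Pointwise descent of flatness, part 3: openness along `V(I)` and localization transfer (helper57)
-/

set_option autoImplicit false

open TensorProduct LinearMap
open Groth.Agent.H48.FlatLimit

namespace Groth.Agent.H57.FlatPt

universe u

/-- The flat locus of an `A`-algebra `D` in `Spec D`. -/
def flatLocus (A D : Type u) [CommRing A] [CommRing D] [Algebra A D] : Set (PrimeSpectrum D) :=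
  {q | Module.Flat A (Localization.AtPrime q.asIdeal)}

/-- The point `q` has an open neighbourhood contained in the flat locus. -/
def NhdProp (A D : Type u) [CommRing A] [CommRing D] [Algebra A D] (q : PrimeSpectrum D) : Prop :=
  ∃ W : Set (PrimeSpectrum D), IsOpen W ∧ q ∈ W ∧ W ⊆ flatLocus A D

theorem isOpen_flatLocus_of_forall {A D : Type u} [CommRing A] [CommRing D] [Algebra A D]
    (h : ∀ q ∈ flatLocus A D, NhdProp A D q) : IsOpen (flatLocus A D) := by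
  rw [isOpen_iff_forall_mem_open]
  intro q hq
  obtain ⟨W, hW, hqW, hWU⟩ := h q hq
  exact ⟨W, hWU, hW, hqW⟩

section Loc

variable {A D D₁ : Type u} [CommRing A] [CommRing D] [CommRing D₁] [Algebra A D] [Algebra D D₁]
  [Algebra A D₁] [IsScalarTower A D D₁]

/-- Flatness at a prime of a localization `D₁` of `D` can be tested at its contraction. -/
theorem flat_atPrime_comap_iff (M : Submonoid D) [IsLocalization M D₁] (q₁ : Ideal D₁)
    [q₁.IsPrime] :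
    Module.Flat A (Localization.AtPrime (q₁.comap (algebraMap D D₁))) ↔
      Module.Flat A (Localization.AtPrime q₁) := by
  haveI h1 : IsLocalization.AtPrime (Localization.AtPrime q₁) (q₁.comap (algebraMap D D₁)) :=
    IsLocalization.isLocalization_isLocalization_atPrime_isLocalization M
      (Localization.AtPrime q₁) q₁
  let e : Localization.AtPrime (q₁.comap (algebraMap D D₁)) ≃ₐ[D] Localization.AtPrime q₁ :=
    IsLocalization.algEquiv (q₁.comap (algebraMap D D₁)).primeCompl _ _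
  haveI : IsScalarTower A D (Localization.AtPrime q₁) := IsScalarTower.of_algebraMap_eq (fun a => by
    rw [IsScalarTower.algebraMap_apply A D₁ (Localization.AtPrime q₁),
      IsScalarTower.algebraMap_apply A D D₁,
      ← IsScalarTower.algebraMap_apply D D₁ (Localization.AtPrime q₁)])
  exact ⟨fun h => Module.Flat.of_linearEquiv (e.toLinearEquiv.restrictScalars A).symm,
    fun h => Module.Flat.of_linearEquiv (e.toLinearEquiv.restrictScalars A)⟩

/-- Neighbourhoods in the flat locus descend along `D → D[1/r]`. -/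
theorem nhdProp_comap_of_away (r : D) [IsLocalization.Away r D₁] (q₁ : PrimeSpectrum D₁)
    (h : NhdProp A D₁ q₁) : NhdProp A D (PrimeSpectrum.comap (algebraMap D D₁) q₁) := by
  obtain ⟨W₁, hW₁, hq₁, hsub⟩ := h
  refine ⟨PrimeSpectrum.comap (algebraMap D D₁) '' W₁, ?_, ⟨q₁, hq₁, rfl⟩, ?_⟩
  · exact (PrimeSpectrum.localization_away_isOpenEmbedding D₁ r).isOpenMap W₁ hW₁
  · rintro _ ⟨q', hq', rfl⟩
    exact (flat_atPrime_comap_iff (A := A) (Submonoid.powers r) q'.asIdeal).mpr (hsub hq')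

end Loc

attribute [local instance] Algebra.TensorProduct.rightAlgebra in
/-- **Openness of the flat locus along `V(I)`**, at the `T`-level. -/
theorem nhdProp_of_flat_mod {R₀ C₁ T : Type u} [CommRing R₀] [IsNoetherianRing R₀] [CommRing C₁]
    [Algebra R₀ C₁] [Algebra.FiniteType R₀ C₁] (I : Ideal R₀)
    [Module.Flat (R₀ ⧸ I) ((R₀ ⧸ I) ⊗[R₀] C₁)] [CommRing T] [Algebra R₀ T]
    (q : PrimeSpectrum (T ⊗[R₀] C₁)) (hI : I.map (algebraMap R₀ (T ⊗[R₀] C₁)) ≤ q.asIdeal)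
    (hq : q ∈ flatLocus T (T ⊗[R₀] C₁)) : NhdProp T (T ⊗[R₀] C₁) q := by
  haveI : Module.Flat T (Localization.AtPrime q.asIdeal) := hq
  obtain ⟨S₀, hS₀, h⟩ := exists_fg_flat_atPrime_of_flat_mod I q.asIdeal hI
  have hS := h S₀ le_rfl hS₀
  haveI : Algebra.FiniteType R₀ ↥S₀ := (Subalgebra.fg_iff_finiteType S₀).mp hS₀
  haveI : IsNoetherianRing ↥S₀ := Algebra.FiniteType.isNoetherianRing R₀ ↥S₀
  have hopen := Groth.Agent.H48.FlatOpen.isOpen_flatLocus (R := ↥S₀) (B := ↥S₀ ⊗[R₀] C₁)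
  refine ⟨PrimeSpectrum.comap (φ C₁ S₀).toRingHom ⁻¹'
    {q | Module.Flat ↥S₀ (Localization.AtPrime q.asIdeal)},
    hopen.preimage (PrimeSpectrum.continuous_comap _), hS, ?_⟩
  intro q' hq'
  letI : Algebra (↥S₀ ⊗[R₀] C₁) (T ⊗[R₀] C₁) := (φ C₁ S₀).toRingHom.toAlgebra
  have hφ : ∀ x, algebraMap (↥S₀ ⊗[R₀] C₁) (T ⊗[R₀] C₁) x = φ C₁ S₀ x := fun _ => rfl
  haveI : IsScalarTower (↥S₀) (↥S₀ ⊗[R₀] C₁) (T ⊗[R₀] C₁) :=
    IsScalarTower.of_algebraMap_eq (R := ↥S₀) (S := ↥S₀ ⊗[R₀] C₁) (A := T ⊗[R₀] C₁) (fun s => by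
    rw [hφ, Algebra.TensorProduct.algebraMap_apply, φ_tmul]
    rfl)
  haveI : IsScalarTower R₀ (↥S₀ ⊗[R₀] C₁) (T ⊗[R₀] C₁) :=
    IsScalarTower.of_algebraMap_eq (R := R₀) (S := ↥S₀ ⊗[R₀] C₁) (A := T ⊗[R₀] C₁) (fun r => by
    rw [hφ, AlgHom.commutes])
  haveI : IsScalarTower C₁ (↥S₀ ⊗[R₀] C₁) (T ⊗[R₀] C₁) :=
    IsScalarTower.of_algebraMap_eq (R := C₁) (S := ↥S₀ ⊗[R₀] C₁) (A := T ⊗[R₀] C₁) (fun c => by
    rw [hφ]
    show (1 : T) ⊗ₜ[R₀] c = φ C₁ S₀ ((1 : ↥S₀) ⊗ₜ[R₀] c)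
    rw [φ_tmul]
    rfl)
  haveI po : Algebra.IsPushout (↥S₀) T (↥S₀ ⊗[R₀] C₁) (T ⊗[R₀] C₁) :=
    (Algebra.IsPushout.comp_iff R₀ (↥S₀) C₁ (S' := ↥S₀ ⊗[R₀] C₁) (T := T)
      (T' := T ⊗[R₀] C₁)).mp inferInstance
  haveI : Algebra.IsPushout (↥S₀) (↥S₀ ⊗[R₀] C₁) T (T ⊗[R₀] C₁) := po.symm
  haveI : q'.asIdeal.LiesOver (q'.asIdeal.comap (algebraMap (↥S₀ ⊗[R₀] C₁) (T ⊗[R₀] C₁))) := ⟨rfl⟩
  exact Groth.Agent.H48.flat_localization_of_isPushout (↥S₀) (↥S₀ ⊗[R₀] C₁) T (T ⊗[R₀] C₁)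
    (q'.asIdeal.comap (algebraMap (↥S₀ ⊗[R₀] C₁) (T ⊗[R₀] C₁))) q'.asIdeal hq'

end Groth.Agent.H57.FlatPt
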