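import Mathlib
import Groth.Agent.H57.FlatPt3

/-!
# Openness of the flat locus of a finitely presented algebra (helper57)

`isOpen_flatLocus`: for a finitely presented `A`-algebra `C` (any ring `A`), the set of primes `q`
of `C` with `C_q` flat over `A` is open in `Spec C`.
-/

set_option autoImplicit false

open TensorProduct LinearMap
open Groth.Agent.H48.FlatLimit

namespace Groth.Agent.H57.FlatPt

universe u

/-- Openness of the flat locus for `T ⊗ C₀`, `C₀` of finite type over a Noetherian ring `R₀`. -/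
theorem isOpen_flatLocus_tensor {R₀ C₀ T : Type u} [CommRing R₀] [IsNoetherianRing R₀]
    [CommRing C₀] [Algebra R₀ C₀] [Algebra.FiniteType R₀ C₀] [CommRing T] [Algebra R₀ T] :
    IsOpen (flatLocus T (T ⊗[R₀] C₀)) := by
  refine isOpen_flatLocus_of_forall (fun q hq => ?_)
  have hprime : (q.asIdeal.comap (algebraMap R₀ (T ⊗[R₀] C₀))).IsPrime := inferInstance
  obtain ⟨f, hf, hflat⟩ := exists_flat_mod_prime_away (B₀ := C₀)
    (q.asIdeal.comap (algebraMap R₀ (T ⊗[R₀] C₀)))
  haveI := hflat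
  haveI : Algebra.FiniteType C₀ (Localization.Away (algebraMap R₀ C₀ f)) :=
    have := IsLocalization.Away.finitePresentation (R := C₀)
      (S := Localization.Away (algebraMap R₀ C₀ f)) (algebraMap R₀ C₀ f)
    inferInstance
  haveI : Algebra.FiniteType R₀ (Localization.Away (algebraMap R₀ C₀ f)) :=
    Algebra.FiniteType.trans (inferInstance : Algebra.FiniteType R₀ C₀) inferInstance
  letI : Algebra (T ⊗[R₀] C₀) (T ⊗[R₀] Localization.Away (algebraMap R₀ C₀ f)) :=
    (Algebra.TensorProduct.map (AlgHom.id R₀ T)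
      (IsScalarTower.toAlgHom R₀ C₀ (Localization.Away (algebraMap R₀ C₀ f)))).toAlgebra
  haveI : IsScalarTower T (T ⊗[R₀] C₀) (T ⊗[R₀] Localization.Away (algebraMap R₀ C₀ f)) :=
    .of_algebraMap_eq <| by intro; simp [RingHom.algebraMap_toAlgebra]
  haveI : IsScalarTower R₀ (T ⊗[R₀] C₀) (T ⊗[R₀] Localization.Away (algebraMap R₀ C₀ f)) :=
    .of_algebraMap_eq <| by
      intro r
      simp [RingHom.algebraMap_toAlgebra, Algebra.TensorProduct.algebraMap_apply]
  haveI hloc : IsLocalization ((Submonoid.powers (algebraMap R₀ C₀ f)).map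
      (Algebra.TensorProduct.includeRight : C₀ →ₐ[R₀] T ⊗[R₀] C₀))
      (T ⊗[R₀] Localization.Away (algebraMap R₀ C₀ f)) :=
    IsLocalization.tensorProduct_tensorProduct_right R₀ T (Submonoid.powers (algebraMap R₀ C₀ f))
      (Localization.Away (algebraMap R₀ C₀ f)) (by ext; simp [RingHom.algebraMap_toAlgebra])
  have hr : (Algebra.TensorProduct.includeRight (algebraMap R₀ C₀ f) : T ⊗[R₀] C₀) =
      algebraMap R₀ (T ⊗[R₀] C₀) f :=
    (Algebra.TensorProduct.includeRight : C₀ →ₐ[R₀] T ⊗[R₀] C₀).commutes f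
  haveI haway : IsLocalization.Away (algebraMap R₀ (T ⊗[R₀] C₀) f)
      (T ⊗[R₀] Localization.Away (algebraMap R₀ C₀ f)) := by
    have h2 : (Submonoid.powers (algebraMap R₀ C₀ f)).map
        (Algebra.TensorProduct.includeRight : C₀ →ₐ[R₀] T ⊗[R₀] C₀) =
        Submonoid.powers (algebraMap R₀ (T ⊗[R₀] C₀) f) := by
      rw [Submonoid.map_powers]
      congr 1
    rw [h2] at hloc
    exact hloc
  -- `q` lies in the image of `Spec D₁`
  have hqr : q ∈ Set.range (PrimeSpectrum.comap
      (algebraMap (T ⊗[R₀] C₀) (T ⊗[R₀] Localization.Away (algebraMap R₀ C₀ f)))) := by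
    rw [PrimeSpectrum.localization_away_comap_range _ (algebraMap R₀ (T ⊗[R₀] C₀) f)]
    exact hf
  obtain ⟨q₁, rfl⟩ := hqr
  have hq₁ : q₁ ∈ flatLocus T (T ⊗[R₀] Localization.Away (algebraMap R₀ C₀ f)) :=
    (flat_atPrime_comap_iff (A := T) (Submonoid.powers (algebraMap R₀ (T ⊗[R₀] C₀) f))
      q₁.asIdeal).mp hq
  have hI₁ : (Ideal.comap (algebraMap R₀ (T ⊗[R₀] C₀)) (PrimeSpectrum.comap (algebraMap
      (T ⊗[R₀] C₀) (T ⊗[R₀] Localization.Away (algebraMap R₀ C₀ f))) q₁).asIdeal).map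
      (algebraMap R₀ (T ⊗[R₀] Localization.Away (algebraMap R₀ C₀ f))) ≤ q₁.asIdeal := by
    rw [Ideal.map_le_iff_le_comap]
    intro r hr'
    rw [Ideal.mem_comap, IsScalarTower.algebraMap_apply R₀ (T ⊗[R₀] C₀)
      (T ⊗[R₀] Localization.Away (algebraMap R₀ C₀ f))]
    exact hr'
  exact nhdProp_comap_of_away (A := T) (algebraMap R₀ (T ⊗[R₀] C₀) f) q₁
    (nhdProp_of_flat_mod _ q₁ hI₁ hq₁)

/-- **Openness of the flat locus** of a finitely presented algebra over an arbitrary ring. -/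
theorem isOpen_flatLocus (A C : Type u) [CommRing A] [CommRing C] [Algebra A C]
    [Algebra.FinitePresentation A C] : IsOpen (flatLocus A C) := by
  let P := Algebra.Presentation.ofFinitePresentation A C
  let e₀ : A ⊗[P.Core] P.ModelOfHasCoeffs P.Core ≃ₐ[A] C := P.tensorModelOfHasCoeffsEquiv P.Core
  haveI : IsNoetherianRing P.Core := Algebra.FiniteType.isNoetherianRing ℤ P.Core
  have hD : IsOpen (flatLocus A (A ⊗[P.Core] P.ModelOfHasCoeffs P.Core)) :=
    isOpen_flatLocus_tensor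
  letI : Algebra (A ⊗[P.Core] P.ModelOfHasCoeffs P.Core) C := e₀.toRingHom.toAlgebra
  haveI : IsScalarTower A (A ⊗[P.Core] P.ModelOfHasCoeffs P.Core) C :=
    IsScalarTower.of_algebraMap_eq (R := A) (S := A ⊗[P.Core] P.ModelOfHasCoeffs P.Core)
      (A := C) (fun a => (e₀.commutes a).symm)
  haveI : IsLocalization.Away (1 : A ⊗[P.Core] P.ModelOfHasCoeffs P.Core) C :=
    IsLocalization.away_of_isUnit_of_bijective C isUnit_one e₀.bijective
  have heq : flatLocus A C = PrimeSpectrum.comap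
      (algebraMap (A ⊗[P.Core] P.ModelOfHasCoeffs P.Core) C) ⁻¹'
        flatLocus A (A ⊗[P.Core] P.ModelOfHasCoeffs P.Core) := by
    ext q
    exact (flat_atPrime_comap_iff (A := A)
      (Submonoid.powers (1 : A ⊗[P.Core] P.ModelOfHasCoeffs P.Core)) q.asIdeal).symm
  rw [heq]
  exact hD.preimage (PrimeSpectrum.continuous_comap _)

end Groth.Agent.H57.FlatPt
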