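import Mathlib
import Groth.Agent.S0389
import Groth.Agent.H8.QCohStalk
import Groth.Agent.H57.FlatAtBC
import Groth.Prelude.Def_FlatMod2

/-! Scheme-level generic flatness for quasi-coherent modules with finite sections over affines
(helper57).  Core: `exists_open_isFlatOverAt`. -/

set_option autoImplicit false
set_option linter.style.haveILetI false

universe u

open TensorProduct CategoryTheory AlgebraicGeometry TopologicalSpace

namespace Groth.Agent.H57

section Ring

variable {A B : Type u} [CommRing A] [CommRing B] [Algebra A B]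

/-- Flatness over the base of a localization at a smaller submonoid of the algebra passes to a
larger submonoid. -/
theorem flat_localizedModule_mono (T₁ T₂ : Submonoid B) (h : T₁ ≤ T₂)
    (N : Type u) [AddCommGroup N] [Module A N] [Module B N] [IsScalarTower A B N]
    (hf : Module.Flat A (LocalizedModule T₁ N)) : Module.Flat A (LocalizedModule T₂ N) := by
  refine flat_localizedModule_of_forall T₂ N (fun P Q _ _ _ _ v hv x hx => ?_)
  obtain ⟨t, ht⟩ := exists_smul_eq_zero_of_lTensor_injective T₁ N v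
    (Module.Flat.lTensor_preserves_injective_linearMap v hv) x hx
  exact ⟨⟨t.1, h t.2⟩, ht⟩

/-- If `M_f` is free over `A_f`, then every localization of `M` at a prime of `B` not containing
`f` is flat over `A`. -/
theorem flat_of_isLocalizedModule_of_free
    {M N : Type u} [AddCommGroup M] [Module A M] [Module B M] [IsScalarTower A B M]
    [AddCommGroup N] [Module A N] [Module B N] [IsScalarTower A B N]
    (f : A) (hfree : Module.Free (Localization.Away f) (Localization.Away f ⊗[A] M))
    (q : Ideal B) [q.IsPrime] (hf : algebraMap A B f ∉ q)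
    (g : M →ₗ[B] N) [IsLocalizedModule q.primeCompl g] : Module.Flat A N := by
  haveI : Module.Flat (Localization.Away f) (Localization.Away f ⊗[A] M) := inferInstance
  haveI : Module.Flat A (Localization.Away f) := IsLocalization.flat _ (Submonoid.powers f)
  have h1 : Module.Flat A (Localization.Away f ⊗[A] M) :=
    Module.Flat.trans A (Localization.Away f) _
  haveI : IsLocalizedModule (Submonoid.powers f)
      ((LocalizedModule.mkLinearMap (Submonoid.powers (algebraMap A B f)) M).restrictScalars A) :=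
    IsLocalizedModule.restrictScalars_powers f _
  let e1 : (Localization.Away f ⊗[A] M) ≃ₗ[A]
      LocalizedModule (Submonoid.powers (algebraMap A B f)) M :=
    IsLocalizedModule.linearEquiv (Submonoid.powers f)
      (TensorProduct.mk A (Localization.Away f) M 1)
      ((LocalizedModule.mkLinearMap (Submonoid.powers (algebraMap A B f)) M).restrictScalars A)
  have h2 : Module.Flat A (LocalizedModule (Submonoid.powers (algebraMap A B f)) M) :=
    Module.Flat.of_linearEquiv e1.symm
  have hle : Submonoid.powers (algebraMap A B f) ≤ q.primeCompl :=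
    (Submonoid.powers_le).mpr hf
  have h3 : Module.Flat A (LocalizedModule q.primeCompl M) :=
    flat_localizedModule_mono _ _ hle M h2
  exact Module.Flat.of_linearEquiv ((IsLocalizedModule.iso q.primeCompl g).restrictScalars A).symm

end Ring

section Sch

variable {X Y : Scheme.{u}} (u : X ⟶ Y) (F : X.Modules) [F.IsQuasicoherent]

theorem stalkMap_germ_appLE {V : Y.Opens} {W : X.Opens} (e : W ≤ u ⁻¹ᵁ V) (x : X) (hxW : x ∈ W)
    (a : Γ(Y, V)) :
    (u.stalkMap x).hom (Y.presheaf.germ V (u x) (e hxW) a) =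
      X.presheaf.germ W x hxW ((u.appLE V W e).hom a) := by
  have := Scheme.Hom.germ_stalkMap_apply u V x (e hxW) a
  simp only [Scheme.Hom.appLE, homOfLE_leOfHom, CommRingCat.hom_comp, RingHom.coe_comp,
    Function.comp_apply, X.presheaf.germ_res_apply]
  exact this

/-- Affine-local generic flatness. -/
theorem exists_ne_zero_isFlatOverAt {V : Y.Opens} (hV : IsAffineOpen V) [IsDomain Γ(Y, V)]
    {W : X.Opens} (hW : IsAffineOpen W) (e : W ≤ u ⁻¹ᵁ V)
    (hft : (u.appLE V W e).hom.FiniteType) [Module.Finite Γ(X, W) Γ(F, W)] :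
    ∃ f : Γ(Y, V), f ≠ 0 ∧
      ∀ x : X, x ∈ W → u x ∈ Y.basicOpen f → FlatMod.IsFlatOverAt u F x := by
  letI : Algebra Γ(Y, V) Γ(X, W) := (u.appLE V W e).hom.toAlgebra
  haveI : Algebra.FiniteType Γ(Y, V) Γ(X, W) := hft
  letI : Module Γ(Y, V) Γ(F, W) := Module.compHom _ (u.appLE V W e).hom
  haveI : IsScalarTower Γ(Y, V) Γ(X, W) Γ(F, W) :=
    IsScalarTower.of_algebraMap_smul fun r m => rfl
  obtain ⟨f, hf0, hfree, -, -, -⟩ :=
    Groth.Agent.S0389.result (R := Γ(Y, V)) (S := Γ(X, W)) (M := Γ(F, W))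
  refine ⟨f, hf0, fun x hxW hxf => ?_⟩
  have hyV : u x ∈ V := e hxW
  letI : Module Γ(X, W) (F.presheaf.stalk x) := Groth.Agent.H8.moduleSectionStalk F x hxW
  letI : Module Γ(Y, V) (F.presheaf.stalk x) := Module.compHom _ (u.appLE V W e).hom
  haveI : IsScalarTower Γ(Y, V) Γ(X, W) (F.presheaf.stalk x) :=
    IsScalarTower.of_algebraMap_smul fun r m => rfl
  haveI := Groth.Agent.H8.isLocalizedModule_germₗ F hW x hxW
  have hfq : algebraMap Γ(Y, V) Γ(X, W) f ∉ (hW.primeIdealOf ⟨x, hxW⟩).asIdeal := by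
    have h1 : x ∈ X.basicOpen ((u.appLE V W e).hom f) := by
      rw [Scheme.mem_basicOpen _ _ _ hxW, ← stalkMap_germ_appLE u e x hxW f]
      exact ((Scheme.mem_basicOpen _ _ _ hyV).mp hxf).map (u.stalkMap x).hom
    have h2 := (Groth.Agent.H8.mem_basicOpen_iff_notMem_primeIdealOf hW x hxW _).mp h1
    exact h2
  have hflatA : Module.Flat Γ(Y, V) (F.presheaf.stalk x) :=
    flat_of_isLocalizedModule_of_free f hfree _ hfq (Groth.Agent.H8.germₗ F x hxW)
  letI : Algebra Γ(Y, V) (Y.presheaf.stalk (u x)) := Y.presheaf.algebra_section_stalk ⟨u x, hyV⟩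
  haveI := hV.isLocalization_stalk ⟨u x, hyV⟩
  letI : Module (Y.presheaf.stalk (u x)) (F.presheaf.stalk x) := FlatMod.moduleStalkOver u F x
  haveI : IsScalarTower Γ(Y, V) (Y.presheaf.stalk (u x)) (F.presheaf.stalk x) :=
    IsScalarTower.of_algebraMap_smul fun r m => by
      change (u.stalkMap x).hom (Y.presheaf.germ V (u x) hyV r) • m =
        X.presheaf.germ W x hxW ((u.appLE V W e).hom r) • m
      rw [stalkMap_germ_appLE u e x hxW r]
  change Module.Flat (Y.presheaf.stalk (u x)) (F.presheaf.stalk x)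
  exact (Module.flat_iff_of_isLocalization (Y.presheaf.stalk (u x))
    (hV.primeIdealOf ⟨u x, hyV⟩).asIdeal.primeCompl _).mpr hflatA

/-- **Generic flatness for modules, scheme form.** -/
theorem exists_open_isFlatOverAt [IsIntegral Y] [LocallyOfFiniteType u] [QuasiCompact u]
    (hfin : ∀ W : X.Opens, IsAffineOpen W → Module.Finite Γ(X, W) Γ(F, W)) :
    ∃ U : Y.Opens, (U : Set Y).Nonempty ∧ ∀ x : X, u.base x ∈ U → FlatMod.IsFlatOverAt u F x := by
  classical
  obtain ⟨y₀⟩ : Nonempty Y := inferInstance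
  obtain ⟨_, ⟨V, hV, rfl⟩, hy₀V, -⟩ := Y.isBasis_affineOpens.exists_subset_of_mem_open
    (Set.mem_univ y₀) isOpen_univ
  haveI : Nonempty V := ⟨⟨y₀, hy₀V⟩⟩
  haveI : IsDomain Γ(Y, V) := inferInstance
  have hcpt : IsCompact ((u ⁻¹ᵁ V : X.Opens) : Set X) := u.isCompact_preimage hV.isCompact
  obtain ⟨s, hsfin, hs⟩ := isCompact_iff_finite_and_eq_biUnion_affineOpens.mp hcpt
  have hle : ∀ W ∈ s, (W : X.Opens) ≤ u ⁻¹ᵁ V := by
    intro W hW
    rw [hs]
    exact le_iSup₂ (f := fun (i : X.affineOpens) (_ : i ∈ s) => (i : X.Opens)) W hW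
  -- finite induction
  have key : ∀ t : Finset X.affineOpens, (∀ W ∈ t, (W : X.Opens) ≤ u ⁻¹ᵁ V) →
      ∃ f : Γ(Y, V), f ≠ 0 ∧ ∀ W ∈ t, ∀ x : X, x ∈ (W : X.Opens) → u x ∈ Y.basicOpen f →
        FlatMod.IsFlatOverAt u F x := by
    intro t
    induction t using Finset.induction_on with
    | empty => exact fun _ => ⟨1, one_ne_zero, fun W hW => absurd hW (Finset.notMem_empty W)⟩
    | insert W t hWt ih =>
      intro hall
      obtain ⟨f₁, hf₁, h₁⟩ := ih (fun W' hW' => hall W' (Finset.mem_insert_of_mem hW'))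
      have eW := hall W (Finset.mem_insert_self W t)
      haveI := hfin W.1 W.2
      obtain ⟨f₂, hf₂, h₂⟩ := exists_ne_zero_isFlatOverAt u F hV W.2 eW
        (u.finiteType_appLE hV W.2 eW)
      refine ⟨f₂ * f₁, mul_ne_zero hf₂ hf₁, fun W' hW' x hx hxf => ?_⟩
      rw [Scheme.basicOpen_mul] at hxf
      rcases Finset.mem_insert.mp hW' with rfl | hW'
      · exact h₂ x hx hxf.1
      · exact h₁ W' hW' x hx hxf.2
  obtain ⟨f, hf0, hf⟩ := key hsfin.toFinset (fun W hW => hle W (hsfin.mem_toFinset.mp hW))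
  refine ⟨Y.basicOpen f, ?_, fun x hx => ?_⟩
  · by_contra hne
    have hbot : Y.basicOpen f = ⊥ := by
      rw [← Opens.not_nonempty_iff_eq_bot]
      exact hne
    exact hf0 ((basicOpen_eq_bot_iff f).mp hbot)
  · have hxV : x ∈ u ⁻¹ᵁ V := Y.basicOpen_le f hx
    rw [hs] at hxV
    simp only [Opens.mem_iSup] at hxV
    obtain ⟨W, hW, hxW⟩ := hxV
    exact hf W (hsfin.mem_toFinset.mpr hW) x hxW hx

end Sch

end Groth.Agent.H57
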