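import Groth.Prelude.Def_FlatMod2
import Groth.Agent.H57.GenFlatSch
import Groth.Agent.H8.PullbackStalk
import Groth.Agent.H8.PullbackSections
import Groth.Agent.H8.QCohStalk

/-!
Scheme-to-chart bridging for the "flatness from a family of base changes" statements
(EGA IV 11.4 family).
-/

set_option autoImplicit false
set_option linter.style.haveILetI false
universe u

open CategoryTheory CategoryTheory.Limits AlgebraicGeometry TopologicalSpace TensorProduct

namespace Groth.Agent.H57.ArtFamSch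

section Points

variable {X Y : Scheme.{u}}

/-- Every prime of the sections over an affine open is the prime of a point. -/
theorem exists_mem_primeIdealOf_eq {U : X.Opens} (hU : IsAffineOpen U)
    (n : PrimeSpectrum Γ(X, U)) : ∃ (x : X) (hx : x ∈ U), hU.primeIdealOf ⟨x, hx⟩ = n := by
  have hmem : hU.fromSpec n ∈ U := by
    have h := hU.range_fromSpec
    rw [← SetLike.mem_coe, ← h]
    exact ⟨n, rfl⟩
  refine ⟨hU.fromSpec n, hmem, ?_⟩
  apply hU.fromSpec.isOpenEmbedding.injective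
  exact hU.fromSpec_primeIdealOf ⟨_, hmem⟩

theorem eq_of_primeIdealOf_eq {U : X.Opens} (hU : IsAffineOpen U) {x y : X} (hx : x ∈ U)
    (hy : y ∈ U) (h : hU.primeIdealOf ⟨x, hx⟩ = hU.primeIdealOf ⟨y, hy⟩) : x = y := by
  have h1 := hU.fromSpec_primeIdealOf ⟨x, hx⟩
  have h2 := hU.fromSpec_primeIdealOf ⟨y, hy⟩
  rw [h] at h1
  exact h1.symm.trans h2

theorem map_eq_of_comap_eq (f : X ⟶ Y) {U : Y.Opens} (hU : IsAffineOpen U) {V : X.Opens}
    (hV : IsAffineOpen V) (hVU : V ≤ f ⁻¹ᵁ U) {x : X} (hx : x ∈ V) {y : Y} (hy : y ∈ U)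
    (h : ((hV.primeIdealOf ⟨x, hx⟩).asIdeal).comap (f.appLE U V hVU).hom =
      (hU.primeIdealOf ⟨y, hy⟩).asIdeal) : f x = y := by
  have h1 := IsAffineOpen.comap_primeIdealOf_appLE U hU V hV hVU hx
  apply eq_of_primeIdealOf_eq hU (hVU hx) hy
  rw [← h1]
  exact PrimeSpectrum.ext h

theorem eq_closedPoint_of_primeIdealOf {A' : Type u} [CommRing A'] [IsLocalRing A']
    [IsLocalRing Γ(Spec (CommRingCat.of A'), ⊤)]
    (hT : IsAffineOpen (⊤ : (Spec (CommRingCat.of A')).Opens)) (y : Spec (CommRingCat.of A'))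
    (h : (hT.primeIdealOf ⟨y, trivial⟩).asIdeal =
      IsLocalRing.maximalIdeal Γ(Spec (CommRingCat.of A'), ⊤)) :
    y = IsLocalRing.closedPoint A' := by
  have hmax : (hT.primeIdealOf ⟨IsLocalRing.closedPoint A', trivial⟩).asIdeal.IsMaximal :=
    hT.primeIdealOf_isMaximal_of_isClosed ⟨IsLocalRing.closedPoint A', trivial⟩
      (IsLocalRing.isClosed_singleton_closedPoint A')
  apply eq_of_primeIdealOf_eq hT trivial trivial
  apply PrimeSpectrum.ext
  rw [h]
  exact (IsLocalRing.eq_maximalIdeal hmax).symm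

end Points

section Chart

variable {X X' S' : Scheme.{u}}

set_option maxHeartbeats 1600000 in
/-- Flatness of the pullback at a point over the base, read on an affine chart. -/
theorem flat_localizedModule_chart (F : X.Modules) [F.IsQuasicoherent]
    (f' : X' ⟶ S') (g' : X' ⟶ X)
    {W : X.Opens} {V' : S'.Opens} {W' : X'.Opens} (hW : IsAffineOpen W) (hV' : IsAffineOpen V')
    (hW' : IsAffineOpen W') (hW'W : W' ≤ g' ⁻¹ᵁ W) (hW'V' : W' ≤ f' ⁻¹ᵁ V')
    (x' : X') (hx' : x' ∈ W')
    (hfl : FlatMod.IsFlatOverAt f' ((Scheme.Modules.pullback g').obj F) x') :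
    letI : Algebra Γ(X, W) Γ(X', W') := (g'.appLE W W' hW'W).hom.toAlgebra
    letI : Algebra Γ(S', V') Γ(X', W') := (f'.appLE V' W' hW'V').hom.toAlgebra
    letI : SMulCommClass Γ(X, W) Γ(S', V') Γ(X', W') := ⟨fun c b e => by
      simp only [Algebra.smul_def]; ring⟩
    Module.Flat Γ(S', V') (LocalizedModule (hW'.primeIdealOf ⟨x', hx'⟩).asIdeal.primeCompl
      (Γ(X', W') ⊗[Γ(X, W)] Γ(F, W))) := by
  letI aCE : Algebra Γ(X, W) Γ(X', W') := (g'.appLE W W' hW'W).hom.toAlgebra
  letI aBE : Algebra Γ(S', V') Γ(X', W') := (f'.appLE V' W' hW'V').hom.toAlgebra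
  letI hcomm : SMulCommClass Γ(X, W) Γ(S', V') Γ(X', W') := ⟨fun c b e => by
    simp only [Algebra.smul_def]; ring⟩
  haveI := Groth.Agent.H8.isQuasicoherent_pullback g' F
  letI mEN := Groth.Agent.H8.moduleSectionStalk ((Scheme.Modules.pullback g').obj F) x' hx'
  haveI := Groth.Agent.H8.isLocalizedModule_germₗ ((Scheme.Modules.pullback g').obj F) hW' x' hx'
  let Eq : Γ((Scheme.Modules.pullback g').obj F, W') ≃ₗ[Γ(X', W')]
      Γ(X', W') ⊗[Γ(X, W)] Γ(F, W) := Groth.Agent.H8.sectionsPullbackEquiv g' F hW hW' hW'W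
  let γ : Γ(X', W') ⊗[Γ(X, W)] Γ(F, W) →ₗ[Γ(X', W')]
      ((Scheme.Modules.pullback g').obj F).presheaf.stalk x' :=
    (Groth.Agent.H8.germₗ ((Scheme.Modules.pullback g').obj F) x' hx') ∘ₗ Eq.symm.toLinearMap
  haveI : IsLocalizedModule (hW'.primeIdealOf ⟨x', hx'⟩).asIdeal.primeCompl γ :=
    IsLocalizedModule.of_linearEquiv_right _ _ Eq.symm
  let e := IsLocalizedModule.iso (hW'.primeIdealOf ⟨x', hx'⟩).asIdeal.primeCompl γ
  letI aBT : Algebra Γ(S', V') (X'.presheaf.stalk x') :=
    ((X'.presheaf.germ W' x' hx').hom.comp (f'.appLE V' W' hW'V').hom).toAlgebra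
  letI mBN : Module Γ(S', V') (((Scheme.Modules.pullback g').obj F).presheaf.stalk x') :=
    Module.compHom _ (algebraMap Γ(S', V') (X'.presheaf.stalk x'))
  haveI : IsScalarTower Γ(S', V') Γ(X', W')
      (((Scheme.Modules.pullback g').obj F).presheaf.stalk x') :=
    IsScalarTower.of_algebraMap_smul fun r m => rfl
  haveI flN : Module.Flat Γ(S', V')
      (((Scheme.Modules.pullback g').obj F).presheaf.stalk x') := by
    have hsV' : f' x' ∈ V' := hW'V' hx'
    letI : Algebra Γ(S', V') (S'.presheaf.stalk (f' x')) :=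
      S'.presheaf.algebra_section_stalk ⟨f' x', hsV'⟩
    haveI := hV'.isLocalization_stalk ⟨f' x', hsV'⟩
    letI : Module (S'.presheaf.stalk (f' x'))
        (((Scheme.Modules.pullback g').obj F).presheaf.stalk x') :=
      FlatMod.moduleStalkOver f' ((Scheme.Modules.pullback g').obj F) x'
    haveI : IsScalarTower Γ(S', V') (S'.presheaf.stalk (f' x'))
        (((Scheme.Modules.pullback g').obj F).presheaf.stalk x') :=
      IsScalarTower.of_algebraMap_smul fun r m => by
        change (f'.stalkMap x').hom (S'.presheaf.germ V' (f' x') hsV' r) • m =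
          X'.presheaf.germ W' x' hx' ((f'.appLE V' W' hW'V').hom r) • m
        rw [Groth.Agent.H57.stalkMap_germ_appLE f' hW'V' x' hx' r]
    have h0 : Module.Flat (S'.presheaf.stalk (f' x'))
        (((Scheme.Modules.pullback g').obj F).presheaf.stalk x') := hfl
    exact (Module.flat_iff_of_isLocalization (S'.presheaf.stalk (f' x'))
      (hV'.primeIdealOf ⟨f' x', hsV'⟩).asIdeal.primeCompl _).mp h0
  exact Module.Flat.of_linearEquiv (e.restrictScalars Γ(S', V'))

end Chart

end Groth.Agent.H57.ArtFamSch
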