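import Groth.Agent.H57.FlatAtBC
import Groth.Agent.H57.LocalCrit
import Mathlib.RingTheory.LocalRing.Module
import Mathlib.RingTheory.LocalRing.ResidueField.Basic
import Mathlib.RingTheory.Filtration
import Mathlib.LinearAlgebra.Dual.Lemmas
import Mathlib.Algebra.Module.LocalizedModule.Int

/-! Descent of flatness at a point along a jointly injective family of local algebras over an
Artinian local base: the algebraic core (helper57).

Setting: `A → C` (a chart of `X` over the base), `P` a finite `C`-module, `p` a prime of `C`,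
`A → B` a local algebra, `E = C ⊗_A B`, `P' = P ⊗_A B`.  If `P'` is `B`-flat at all primes of `E`
over `p` and the maximal ideal of `B`, then relations between elements of `P_p` that are
independent modulo the maximal ideal of `A` have coefficients vanishing in `B`. -/

set_option autoImplicit false
set_option linter.style.haveILetI false

universe u

open TensorProduct IsLocalRing

namespace Groth.Agent.H57.ArtFam

section Sigma

variable {C E : Type u} [CommRing C] [CommRing E] [Algebra C E]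

/-- The multiplicative set of elements of `E` congruent modulo `𝔯` to the image of an element of
`C ∖ p`. -/
def sigma (p : Ideal C) [hp : p.IsPrime] (𝔯 : Ideal E) : Submonoid E where
  carrier := {t | ∃ c : C, c ∉ p ∧ t - algebraMap C E c ∈ 𝔯}
  one_mem' := ⟨1, fun h => hp.ne_top (p.eq_top_of_isUnit_mem h isUnit_one), by simp⟩
  mul_mem' := by
    rintro a b ⟨c, hc, ha⟩ ⟨d, hd, hb⟩
    refine ⟨c * d, fun h => (hp.mem_or_mem h).elim hc hd, ?_⟩
    have h1 : a * b - algebraMap C E (c * d) =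
        a * (b - algebraMap C E d) + (a - algebraMap C E c) * algebraMap C E d := by
      rw [map_mul]; ring
    rw [h1]
    exact 𝔯.add_mem (𝔯.mul_mem_left _ hb) (𝔯.mul_mem_right _ ha)

theorem mem_sigma {p : Ideal C} [p.IsPrime] {𝔯 : Ideal E} {t : E} :
    t ∈ sigma p 𝔯 ↔ ∃ c : C, c ∉ p ∧ t - algebraMap C E c ∈ 𝔯 := Iff.rfl

theorem algebraMap_mem_sigma {p : Ideal C} [p.IsPrime] (𝔯 : Ideal E) {c : C} (hc : c ∉ p) :
    algebraMap C E c ∈ sigma p 𝔯 := ⟨c, hc, by simp⟩

end Sigma

section Flat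

variable {C B E : Type u} [CommRing C] [CommRing B] [CommRing E]
  [Algebra C E] [Algebra B E] [IsLocalRing B]
  {P' : Type u} [AddCommGroup P'] [Module E P'] [Module B P'] [IsScalarTower B E P']

/-- The ideal `p E + 𝔪_B E`. -/
def rIdeal (p : Ideal C) : Ideal E :=
  p.map (algebraMap C E) ⊔ (maximalIdeal B).map (algebraMap B E)

omit [IsLocalRing B] in
theorem flat_localizedModule_sigma_aux (p : Ideal C) [p.IsPrime] (𝔪 : Ideal B) [𝔪.IsMaximal]
    (hfl : ∀ (n : Ideal E) [n.IsPrime], n.comap (algebraMap C E) = p →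
      n.comap (algebraMap B E) = 𝔪 → Module.Flat B (LocalizedModule n.primeCompl P')) :
    Module.Flat B (LocalizedModule
      (sigma p (p.map (algebraMap C E) ⊔ 𝔪.map (algebraMap B E))) P') := by
  apply flat_localizedModule_of_forall
  intro P₁ P₂ _ _ _ _ u hu x hx
  set 𝔯 : Ideal E := p.map (algebraMap C E) ⊔ 𝔪.map (algebraMap B E) with h𝔯
  let 𝔞 : Ideal E := LinearMap.ker (LinearMap.toSpanSingleton E (P' ⊗[B] P₁) x)
  have h𝔞 : ∀ t : E, t ∈ 𝔞 ↔ t • x = 0 := fun t => by
    simp [𝔞, LinearMap.mem_ker, LinearMap.toSpanSingleton_apply]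
  let S₀ : Submonoid E := Algebra.algebraMapSubmonoid E p.primeCompl
  by_cases hdis : Disjoint ((𝔞 ⊔ 𝔯 : Ideal E) : Set E) (S₀ : Set E)
  · exfalso
    obtain ⟨n, hn, hle, hnd⟩ := Ideal.exists_le_prime_disjoint (𝔞 ⊔ 𝔯) S₀ hdis
    have h1 : n.comap (algebraMap C E) = p := by
      apply le_antisymm
      · intro c hc
        by_contra hcp
        exact Set.disjoint_left.mp hnd hc ⟨c, hcp, rfl⟩
      · rw [← Ideal.map_le_iff_le_comap]
        exact le_trans (le_trans le_sup_left le_sup_right) hle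
    have h2 : n.comap (algebraMap B E) = 𝔪 := by
      symm
      apply Ideal.IsMaximal.eq_of_le inferInstance (Ideal.IsPrime.ne_top inferInstance)
      rw [← Ideal.map_le_iff_le_comap]
      exact le_trans (le_trans le_sup_right le_sup_right) hle
    haveI := hfl n h1 h2
    obtain ⟨t, ht⟩ := exists_smul_eq_zero_of_lTensor_injective n.primeCompl P' u
      (Module.Flat.lTensor_preserves_injective_linearMap u hu) x hx
    exact t.2 (hle (Ideal.mem_sup_left ((h𝔞 t.1).mpr ht)))
  · rw [Set.not_disjoint_iff] at hdis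
    obtain ⟨t, ht1, c, hc, rfl⟩ := hdis
    obtain ⟨a, ha, r, hr, har⟩ := Submodule.mem_sup.mp ht1
    refine ⟨⟨a, c, hc, ?_⟩, (h𝔞 a).mp ha⟩
    have : a - algebraMap C E c = -r := by rw [← har]; ring
    rw [this]
    exact 𝔯.neg_mem hr

end Flat

section LocSub

variable {E : Type u} [CommRing E] {P' : Type u} [AddCommGroup P'] [Module E P']

/-- Elements of `𝔦 • ⊤` in a localized module have numerators in `𝔦 • ⊤`. -/
theorem exists_mk_eq_of_mem_smul_top (S : Submonoid E) (𝔦 : Ideal E)
    (y : LocalizedModule S P') (hy : y ∈ (𝔦 • ⊤ : Submodule E (LocalizedModule S P'))) :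
    ∃ q ∈ (𝔦 • ⊤ : Submodule E P'), ∃ s : S, y = LocalizedModule.mk q s := by
  refine Submodule.smul_induction_on hy (fun t ht n _ => ?_) (fun a b ha hb => ?_)
  · induction n using LocalizedModule.induction_on with
    | h q' s' =>
      refine ⟨t • q', Submodule.smul_mem_smul ht Submodule.mem_top, s', ?_⟩
      rw [LocalizedModule.smul'_mk]
  · obtain ⟨q₁, hq₁, s₁, rfl⟩ := ha
    obtain ⟨q₂, hq₂, s₂, rfl⟩ := hb
    refine ⟨s₂ • q₁ + s₁ • q₂, ?_, s₁ * s₂, ?_⟩
    · exact add_mem (Submodule.smul_mem _ _ hq₁) (Submodule.smul_mem _ _ hq₂)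
    · rw [LocalizedModule.mk_add_mk]

/-- If the image of `z` in the localization lies in `𝔦 • ⊤`, then a multiple of `z` by an element
of the multiplicative set lies in `𝔦 • ⊤`. -/
theorem exists_smul_mem_of_mk_mem (S : Submonoid E) (𝔦 : Ideal E) (z : P')
    (h : LocalizedModule.mkLinearMap S P' z ∈ (𝔦 • ⊤ : Submodule E (LocalizedModule S P'))) :
    ∃ s ∈ S, s • z ∈ (𝔦 • ⊤ : Submodule E P') := by
  obtain ⟨q, hq, s, hs⟩ := exists_mk_eq_of_mem_smul_top S 𝔦 _ h
  rw [LocalizedModule.mkLinearMap_apply, LocalizedModule.mk_eq] at hs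
  obtain ⟨u, hu⟩ := hs
  refine ⟨u * s, mul_mem u.2 s.2, ?_⟩
  have h1 : ((u * s : S) : E) • z = (u : E) • q := by
    have := hu
    simp only [Submonoid.smul_def, one_smul] at this
    rw [Submonoid.coe_mul, mul_smul]
    exact this
  rw [show ((u : E) * (s : E)) • z = ((u * s : S) : E) • z from rfl, h1]
  exact Submodule.smul_mem _ _ hq

end LocSub

section Comm

variable {C B : Type u} (E : Type u) [CommRing C] [CommRing B] [CommRing E]
  [Algebra C E] [Algebra B E]
  {P' : Type u} [AddCommGroup P'] [Module E P'] [Module B P'] [IsScalarTower B E P'] [Module C P']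
  [IsScalarTower C E P']

include E in
theorem smul_comm_BC (b : B) (c : C) (m : P') : b • c • m = c • b • m := by
  rw [← algebraMap_smul E b, ← algebraMap_smul E c, ← algebraMap_smul E c,
    ← algebraMap_smul E b, smul_smul, smul_smul, mul_comm]

end Comm

section Rho

variable (A : Type u) {C : Type u} (B : Type u) {E : Type u} [CommRing A] [CommRing C] [CommRing B] [CommRing E]
  [Algebra A C] [Algebra A B] [Algebra C E] [Algebra B E] [Algebra A E]
  [IsScalarTower A C E] [IsScalarTower A B E] [Algebra.IsPushout A C B E]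
  {P P' : Type u} [AddCommGroup P] [Module C P] [Module A P] [IsScalarTower A C P]
  [AddCommGroup P'] [Module E P'] [Module B P'] [IsScalarTower B E P'] [Module C P']
  [IsScalarTower C E P'] [Module A P'] [IsScalarTower A B P'] [IsScalarTower A C P']
  (g : P →ₗ[C] P') (hg : IsBaseChange E g)

/-- `P ⊗_A B ≃ P'`, `A`-linearly. -/
noncomputable def tEquivA : P ⊗[A] B ≃ₗ[A] P' :=
  LinearEquiv.trans (TensorProduct.comm A P B)
    ((isBaseChange_restrictScalars (R := A) (R' := B) g hg).equiv.restrictScalars A)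

theorem tEquivA_tmul (x : P) (b : B) : tEquivA A B g hg (x ⊗ₜ b) = b • g x := by
  simp [tEquivA, IsBaseChange.equiv_tmul]

/-- `P ⊗_A B ≃ P'`, `C`-linearly. -/
noncomputable def tEquiv : P ⊗[A] B ≃ₗ[C] P' :=
  (tEquivA A B g hg).toAddEquiv.toLinearEquiv (by
    intro c y
    induction y using TensorProduct.induction_on with
    | zero => simp
    | tmul x b =>
      change tEquivA A B g hg (c • x ⊗ₜ[A] b) = c • tEquivA A B g hg (x ⊗ₜ[A] b)
      rw [TensorProduct.smul_tmul', tEquivA_tmul, tEquivA_tmul, map_smul, smul_comm_BC E]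
    | add y y' hy hy' => simp only [smul_add, map_add, hy, hy'])

theorem tEquiv_tmul (x : P) (b : B) : tEquiv A B g hg (x ⊗ₜ b) = b • g x :=
  tEquivA_tmul A B g hg x b

/-- The map `P' → P ⊗_A L` induced by an `A`-linear map `ℓ : B → L`. -/
noncomputable def rho {L : Type u} [AddCommGroup L] [Module A L] (ℓ : B →ₗ[A] L) :
    P' →ₗ[C] P ⊗[A] L :=
  (TensorProduct.AlgebraTensorModule.lTensor C P ℓ) ∘ₗ (tEquiv A B g hg).symm.toLinearMap

theorem rho_smul_apply {L : Type u} [AddCommGroup L] [Module A L] (ℓ : B →ₗ[A] L) (b : B)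
    (x : P) : rho A B g hg ℓ (b • g x) = x ⊗ₜ ℓ b := by
  rw [rho, LinearMap.comp_apply, ← tEquiv_tmul A B g hg x b]
  simp

theorem rho_smul_eq_zero {L : Type u} [AddCommGroup L] [Module A L] (ℓ : B →ₗ[A] L)
    (𝔪 : Ideal B) (hℓ : ∀ b ∈ 𝔪, ℓ b = 0) (b : B) (hb : b ∈ 𝔪) (q : P') :
    rho A B g hg ℓ (b • q) = 0 := by
  obtain ⟨y, rfl⟩ := (tEquiv A B g hg).surjective q
  induction y using TensorProduct.induction_on with
  | zero => simp
  | tmul x b' =>
    rw [tEquiv_tmul, smul_smul, rho_smul_apply, hℓ _ (𝔪.mul_mem_right _ hb), tmul_zero]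
  | add y y' hy hy' => rw [map_add, smul_add, map_add, hy, hy', add_zero]

theorem rho_eq_zero_of_mem {L : Type u} [AddCommGroup L] [Module A L] (ℓ : B →ₗ[A] L)
    (𝔪 : Ideal B) (hℓ : ∀ b ∈ 𝔪, ℓ b = 0) (q : P')
    (hq : q ∈ (𝔪.map (algebraMap B E) • ⊤ : Submodule E P')) : rho A B g hg ℓ q = 0 := by
  have key : ∀ t ∈ 𝔪.map (algebraMap B E), ∀ q : P', rho A B g hg ℓ (t • q) = 0 := by
    intro t ht
    refine Submodule.span_induction (p := fun t _ => ∀ q : P', rho A B g hg ℓ (t • q) = 0)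
      ?_ ?_ ?_ ?_ ht
    · rintro _ ⟨b, hb, rfl⟩ q
      rw [algebraMap_smul]
      exact rho_smul_eq_zero A B g hg ℓ 𝔪 hℓ b hb q
    · intro q; simp
    · intro t₁ t₂ _ _ h₁ h₂ q
      rw [add_smul, map_add, h₁, h₂, add_zero]
    · intro e t _ h q
      rw [smul_eq_mul, mul_comm, mul_smul]
      exact h _
  refine Submodule.smul_induction_on hq (fun t ht n _ => key t ht n) (fun a b ha hb => ?_)
  rw [map_add, ha, hb, add_zero]

theorem rho_mem_pow_smul_top {L : Type u} [AddCommGroup L] [Module A L] (ℓ : B →ₗ[A] L)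
    (p : Ideal C) (j : ℕ) (q : P')
    (hq : q ∈ ((p.map (algebraMap C E)) ^ j • ⊤ : Submodule E P')) :
    rho A B g hg ℓ q ∈ (p ^ j • ⊤ : Submodule C (P ⊗[A] L)) := by
  rw [← Ideal.map_pow] at hq
  have key : ∀ t ∈ (p ^ j).map (algebraMap C E), ∀ q : P',
      rho A B g hg ℓ (t • q) ∈ (p ^ j • ⊤ : Submodule C (P ⊗[A] L)) := by
    intro t ht
    refine Submodule.span_induction
      (p := fun t _ => ∀ q : P', rho A B g hg ℓ (t • q) ∈ (p ^ j • ⊤ : Submodule C (P ⊗[A] L)))
      ?_ ?_ ?_ ?_ ht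
    · rintro _ ⟨c, hc, rfl⟩ q
      rw [algebraMap_smul, map_smul]
      exact Submodule.smul_mem_smul hc Submodule.mem_top
    · intro q; simp
    · intro t₁ t₂ _ _ h₁ h₂ q
      rw [add_smul, map_add]
      exact add_mem (h₁ q) (h₂ q)
    · intro e t _ h q
      rw [smul_eq_mul, mul_comm, mul_smul]
      exact h _
  refine Submodule.smul_induction_on hq (fun t ht n _ => key t ht n) (fun a b ha hb => ?_)
  rw [map_add]
  exact add_mem ha hb

end Rho

section PowStep

variable {E : Type u} [CommRing E] {P' : Type u} [AddCommGroup P'] [Module E P']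

theorem smul_mem_step (𝔭 𝔪 : Ideal E) (j : ℕ) {e : E} (he : e ∈ 𝔭 ⊔ 𝔪) {w : P'}
    (hw : w ∈ (𝔪 • ⊤ : Submodule E P') ⊔ 𝔭 ^ j • ⊤) :
    e • w ∈ (𝔪 • ⊤ : Submodule E P') ⊔ 𝔭 ^ (j + 1) • ⊤ := by
  obtain ⟨e₁, he₁, e₂, he₂, rfl⟩ := Submodule.mem_sup.mp he
  obtain ⟨w₁, hw₁, w₂, hw₂, rfl⟩ := Submodule.mem_sup.mp hw
  have h1 : (e₁ + e₂) • (w₁ + w₂) = (e₁ • w₁ + e₂ • (w₁ + w₂)) + e₁ • w₂ := by
    simp only [add_smul, smul_add]; abel
  rw [h1]
  refine Submodule.add_mem_sup (add_mem (Submodule.smul_mem _ _ hw₁)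
    (Submodule.smul_mem_smul he₂ Submodule.mem_top)) ?_
  rw [pow_succ', Submodule.mul_smul]
  exact Submodule.smul_mem_smul he₁ hw₂

theorem pow_smul_mem (𝔭 𝔪 : Ideal E) {a e : E} (he : e ∈ 𝔭 ⊔ 𝔪) {z : P'}
    (hz : (a + e) • z ∈ (𝔪 • ⊤ : Submodule E P')) (j : ℕ) :
    a ^ j • z ∈ (𝔪 • ⊤ : Submodule E P') ⊔ 𝔭 ^ j • ⊤ := by
  induction j with
  | zero =>
    simp only [pow_zero, one_smul, Ideal.one_eq_top, Submodule.top_smul]
    exact Submodule.mem_sup_right Submodule.mem_top
  | succ j ih =>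
    have h1 : a ^ (j + 1) • z = a ^ j • ((a + e) • z) - e • (a ^ j • z) := by
      rw [smul_smul, smul_smul, ← sub_smul]
      congr 1
      ring
    rw [h1]
    exact sub_mem (Submodule.mem_sup_left (Submodule.smul_mem _ _ hz))
      (smul_mem_step 𝔭 𝔪 j he ih)

end PowStep

section Krull

variable {C : Type u} [CommRing C] [IsNoetherianRing C] {Y : Type u} [AddCommGroup Y]
  [Module C Y] [Module.Finite C Y]

/-- Krull's intersection theorem at a prime, elementwise. -/
theorem exists_smul_eq_zero_of_forall_pow (p : Ideal C) [p.IsPrime] (ξ : Y)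
    (h : ∀ j : ℕ, ∃ c, c ∉ p ∧ c • ξ ∈ (p ^ j • ⊤ : Submodule C Y)) :
    ∃ c, c ∉ p ∧ c • ξ = 0 := by
  let O := Localization.AtPrime p
  let Yp := LocalizedModule p.primeCompl Y
  have hmem : ∀ j : ℕ, LocalizedModule.mkLinearMap p.primeCompl Y ξ ∈
      ((maximalIdeal O) ^ j • ⊤ : Submodule O Yp) := by
    intro j
    obtain ⟨c, hc, hcξ⟩ := h j
    have h1 : LocalizedModule.mkLinearMap p.primeCompl Y (c • ξ) ∈
        (p ^ j • ⊤ : Submodule C Yp) :=
      map_mem_smul_top (p ^ j) (LocalizedModule.mkLinearMap p.primeCompl Y) hcξ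
    have h2 : LocalizedModule.mkLinearMap p.primeCompl Y (c • ξ) ∈
        ((p.map (algebraMap C O)) ^ j • ⊤ : Submodule O Yp) :=
      mem_map_smul_top_of_mem_smul_top p j h1
    rw [Localization.AtPrime.map_eq_maximalIdeal] at h2
    have hu : IsUnit (algebraMap C O c) := IsLocalization.map_units O (⟨c, hc⟩ : p.primeCompl)
    have h3 : LocalizedModule.mkLinearMap p.primeCompl Y ξ =
        ((hu.unit⁻¹ : Oˣ) : O) • LocalizedModule.mkLinearMap p.primeCompl Y (c • ξ) := by
      rw [map_smul, ← algebraMap_smul O c, smul_smul, IsUnit.val_inv_mul, one_smul]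
    rw [h3]
    exact Submodule.smul_mem _ _ h2
  have hbot : (⨅ j : ℕ, (maximalIdeal O) ^ j • ⊤ : Submodule O Yp) = ⊥ :=
    Ideal.iInf_pow_smul_eq_bot_of_isLocalRing (maximalIdeal O) (Ideal.IsPrime.ne_top inferInstance)
  have h0 : LocalizedModule.mkLinearMap p.primeCompl Y ξ = 0 := by
    have : LocalizedModule.mkLinearMap p.primeCompl Y ξ ∈
        (⨅ j : ℕ, (maximalIdeal O) ^ j • ⊤ : Submodule O Yp) :=
      (Submodule.mem_iInf _).mpr hmem
    rwa [hbot, Submodule.mem_bot] at this
  obtain ⟨c, hc⟩ := (IsLocalizedModule.eq_zero_iff p.primeCompl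
    (LocalizedModule.mkLinearMap p.primeCompl Y)).mp h0
  exact ⟨c.1, c.2, hc⟩

end Krull

section Elem

variable {R : Type u} [CommRing R] [IsLocalRing R] {M : Type u} [AddCommGroup M] [Module R M]

/-- Elementary form of linear independence modulo the maximal ideal. -/
theorem linearIndependent_mk_of_forall {ι : Type*} (v : ι → M)
    (h : ∀ (s : Finset ι) (a : ι → R),
      ∑ i ∈ s, a i • v i ∈ (maximalIdeal R • ⊤ : Submodule R M) → ∀ i ∈ s, a i ∈ maximalIdeal R) :
    LinearIndependent (ResidueField R) (TensorProduct.mk R (ResidueField R) M 1 ∘ v) := by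
  rw [linearIndependent_iff']
  intro s gb hsum i hi
  choose g' hg' using fun i => residue_surjective (R := R) (gb i)
  have h1 : ∀ i, gb i • (TensorProduct.mk R (ResidueField R) M 1 ∘ v) i =
      TensorProduct.mk R (ResidueField R) M 1 (g' i • v i) := by
    intro i
    rw [Function.comp_apply, TensorProduct.mk_apply, TensorProduct.mk_apply, ← hg' i,
      TensorProduct.tmul_smul, TensorProduct.smul_tmul', TensorProduct.smul_tmul']
    congr 1
  have h2 : TensorProduct.mk R (ResidueField R) M 1 (∑ i ∈ s, g' i • v i) = 0 := by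
    rw [map_sum, ← hsum]
    exact Finset.sum_congr rfl fun i _ => (h1 i).symm
  have hker : LinearMap.ker (TensorProduct.mk R (ResidueField R) M 1) = maximalIdeal R • ⊤ :=
    LinearMap.ker_tensorProductMk (R := R) (Q := M) (I := maximalIdeal R)
  have h3 : ∑ i ∈ s, g' i • v i ∈ (maximalIdeal R • ⊤ : Submodule R M) := by
    rw [← hker]
    exact h2
  have h4 := h s g' h3 i hi
  rw [← hg' i]
  exact (residue_eq_zero_iff _).mpr h4

theorem forall_of_linearIndependent_mk {ι : Type*} (v : ι → M)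
    (h : LinearIndependent (ResidueField R) (TensorProduct.mk R (ResidueField R) M 1 ∘ v))
    (s : Finset ι) (a : ι → R)
    (ha : ∑ i ∈ s, a i • v i ∈ (maximalIdeal R • ⊤ : Submodule R M)) :
    ∀ i ∈ s, a i ∈ maximalIdeal R := by
  intro i hi
  rw [linearIndependent_iff'] at h
  have h1 : TensorProduct.mk R (ResidueField R) M 1 (∑ i ∈ s, a i • v i) = 0 := by
    have hker : LinearMap.ker (TensorProduct.mk R (ResidueField R) M 1) = maximalIdeal R • ⊤ :=
      LinearMap.ker_tensorProductMk (R := R) (Q := M) (I := maximalIdeal R)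
    have : ∑ i ∈ s, a i • v i ∈ LinearMap.ker (TensorProduct.mk R (ResidueField R) M 1) := by
      rw [hker]
      exact ha
    exact this
  have h2 : ∑ i ∈ s, residue R (a i) • (TensorProduct.mk R (ResidueField R) M 1 ∘ v) i = 0 := by
    rw [← h1, map_sum]
    refine Finset.sum_congr rfl fun i _ => ?_
    rw [Function.comp_apply, map_smul]
    rfl
  exact (residue_eq_zero_iff _).mp (h s (fun i => residue R (a i)) h2 i hi)

end Elem

section LocHelpers

variable {A C : Type u} [CommRing A] [CommRing C] [Algebra A C]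
  {P M : Type u} [AddCommGroup P] [Module C P] [Module A P] [IsScalarTower A C P]
  [AddCommGroup M] [Module C M] [Module A M] [IsScalarTower A C M]

omit [AddCommGroup P] [Module C P] [Module A P] [IsScalarTower A C P] in
theorem smul_mem_smul_top_of_mem (I : Ideal A) (d : C) {m : M}
    (hm : m ∈ (I • ⊤ : Submodule A M)) : d • m ∈ (I • ⊤ : Submodule A M) :=
  map_mem_smul_top I ((LinearMap.lsmul C M d).restrictScalars A) hm

variable (p : Ideal C) [p.IsPrime] (l : P →ₗ[C] M) [IsLocalizedModule p.primeCompl l]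

include l in
theorem mem_of_smul_mem_of_notMem (I : Ideal A) {d : C} (hd : d ∉ p) {m : M}
    (h : d • m ∈ (I • ⊤ : Submodule A M)) : m ∈ (I • ⊤ : Submodule A M) := by
  have hu : IsUnit (algebraMap C (Module.End C M) d) :=
    IsLocalizedModule.map_units l (⟨d, hd⟩ : p.primeCompl)
  have h1 := map_mem_smul_top I ((((hu.unit⁻¹ : (Module.End C M)ˣ) : Module.End C M) :
    M →ₗ[C] M).restrictScalars A) h
  have h2 : (((hu.unit⁻¹ : (Module.End C M)ˣ) : Module.End C M) : M →ₗ[C] M) (d • m) = m := by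
    have : (((hu.unit⁻¹ : (Module.End C M)ˣ) : Module.End C M) *
        algebraMap C (Module.End C M) d) m = m := by
      rw [IsUnit.val_inv_mul]; rfl
    exact this
  rw [LinearMap.restrictScalars_apply, h2] at h1
  exact h1

theorem exists_eq_map_of_mem_smul_top (I : Ideal A) (m : M)
    (hm : m ∈ (I • ⊤ : Submodule A M)) :
    ∃ y ∈ (I • ⊤ : Submodule A P), ∃ d : C, d ∉ p ∧ d • m = l y := by
  refine Submodule.smul_induction_on hm (fun k hk m₀ _ => ?_) (fun a b ha hb => ?_)
  · obtain ⟨⟨y₀, d⟩, h⟩ := IsLocalizedModule.surj p.primeCompl l m₀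
    refine ⟨k • y₀, Submodule.smul_mem_smul hk Submodule.mem_top, d.1, d.2, ?_⟩
    rw [LinearMap.map_smul_of_tower, ← h, Submonoid.smul_def, smul_comm]
  · obtain ⟨y₁, hy₁, d₁, hd₁, h₁⟩ := ha
    obtain ⟨y₂, hy₂, d₂, hd₂, h₂⟩ := hb
    refine ⟨d₂ • y₁ + d₁ • y₂, add_mem (smul_mem_smul_top_of_mem I d₂ hy₁)
      (smul_mem_smul_top_of_mem I d₁ hy₂), d₁ * d₂,
      fun h => (Ideal.IsPrime.mem_or_mem inferInstance h).elim hd₁ hd₂, ?_⟩
    rw [map_add, map_smul, map_smul, ← h₁, ← h₂, smul_add, smul_smul, smul_smul, mul_comm d₂ d₁]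

theorem exists_smul_mem_of_map_mem (I : Ideal A) (y : P)
    (h : l y ∈ (I • ⊤ : Submodule A M)) :
    ∃ d : C, d ∉ p ∧ d • y ∈ (I • ⊤ : Submodule A P) := by
  obtain ⟨y', hy', d, hd, hdy⟩ := exists_eq_map_of_mem_smul_top p l I _ h
  rw [← map_smul] at hdy
  obtain ⟨d', hd'⟩ := (IsLocalizedModule.eq_iff_exists p.primeCompl l).mp hdy
  refine ⟨d'.1 * d, fun h => (Ideal.IsPrime.mem_or_mem inferInstance h).elim d'.2 hd, ?_⟩
  rw [mul_smul]
  have : (d'.1 : C) • d • y = (d'.1 : C) • y' := hd'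
  rw [this]
  exact smul_mem_smul_top_of_mem I d'.1 hy'

end LocHelpers

section Main

variable {A C B E : Type u} [CommRing A] [CommRing C] [CommRing B] [CommRing E]
  [Algebra A C] [Algebra A B] [Algebra C E] [Algebra B E] [Algebra A E]
  [IsScalarTower A C E] [IsScalarTower A B E] [Algebra.IsPushout A C B E]
  [IsLocalRing A] [IsLocalRing B] [IsLocalHom (algebraMap A B)] [IsNoetherianRing C]
  {P P' : Type u} [AddCommGroup P] [Module C P] [Module A P] [IsScalarTower A C P]
  [Module.Finite C P]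
  [AddCommGroup P'] [Module E P'] [Module B P'] [IsScalarTower B E P'] [Module C P']
  [IsScalarTower C E P'] [Module A P'] [IsScalarTower A B P'] [IsScalarTower A C P']
  (g : P →ₗ[C] P') (hg : IsBaseChange E g) (p : Ideal C) [p.IsPrime]

/-- The functional on `B` attached to a functional on its residue field. -/
noncomputable def ellOf (φ : Module.Dual (ResidueField A) (ResidueField B)) :
    B →ₗ[A] ResidueField A :=
  (φ.restrictScalars A) ∘ₗ ((Algebra.linearMap B (ResidueField B)).restrictScalars A)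

omit [IsScalarTower A B E] in
theorem ellOf_apply (φ : Module.Dual (ResidueField A) (ResidueField B)) (b : B) :
    ellOf φ b = φ (residue B b) := rfl

omit [IsScalarTower A B E] in
theorem ellOf_eq_zero (φ : Module.Dual (ResidueField A) (ResidueField B)) (b : B)
    (hb : b ∈ maximalIdeal B) : ellOf φ b = 0 := by
  rw [ellOf_apply, (residue_eq_zero_iff b).mpr hb, map_zero]

omit [IsLocalRing A] [IsNoetherianRing C] in
theorem finite_tensor_residue (k : Type u) [CommRing k] [Algebra A k]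
    (hk : Function.Surjective (algebraMap A k)) : Module.Finite C (P ⊗[A] k) := by
  let f : P →ₗ[C] P ⊗[A] k :=
    { toFun := fun x => x ⊗ₜ (1 : k)
      map_add' := fun x y => TensorProduct.add_tmul x y 1
      map_smul' := fun c x => by rw [TensorProduct.smul_tmul']; rfl }
  refine Module.Finite.of_surjective f ?_
  intro t
  induction t using TensorProduct.induction_on with
  | zero => exact ⟨0, map_zero f⟩
  | tmul x a =>
    obtain ⟨a, rfl⟩ := hk a
    refine ⟨a • x, ?_⟩
    change (a • x) ⊗ₜ[A] (1 : k) = x ⊗ₜ[A] (algebraMap A k a)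
    rw [TensorProduct.smul_tmul, Algebra.smul_def, mul_one]
  | add t t' ht ht' =>
    obtain ⟨y, rfl⟩ := ht
    obtain ⟨y', rfl⟩ := ht'
    exact ⟨y + y', map_add f y y'⟩

include hg in
set_option maxHeartbeats 800000 in
/-- Step A: independence modulo the maximal ideal of `B`. -/
theorem mem_maximalIdeal_of_smul_mem {ι : Type*} (x : ι → P)
    (hx : ∀ (s : Finset ι) (a : ι → A),
      (∃ c, c ∉ p ∧ c • ∑ i ∈ s, a i • x i ∈ (maximalIdeal A • ⊤ : Submodule A P)) →
        ∀ i ∈ s, a i ∈ maximalIdeal A)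
    (s : Finset ι) (b : ι → B) (σ : E)
    (hσ : σ ∈ sigma p (p.map (algebraMap C E) ⊔ (maximalIdeal B).map (algebraMap B E)))
    (hz : σ • ∑ i ∈ s, b i • g (x i) ∈
      ((maximalIdeal B).map (algebraMap B E) • ⊤ : Submodule E P')) :
    ∀ i ∈ s, b i ∈ maximalIdeal B := by
  classical
  obtain ⟨c, hc, hσc⟩ := hσ
  set z : P' := ∑ i ∈ s, b i • g (x i) with hzdef
  have hσe : σ = algebraMap C E c + (σ - algebraMap C E c) := by ring
  rw [hσe] at hz
  have hpow := pow_smul_mem (p.map (algebraMap C E)) ((maximalIdeal B).map (algebraMap B E))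
    hσc hz
  haveI : Module.Finite C (P ⊗[A] ResidueField A) :=
    finite_tensor_residue (ResidueField A) (residue_surjective (R := A))
  -- for every functional
  have key : ∀ (φ : Module.Dual (ResidueField A) (ResidueField B)) (i : ι), i ∈ s →
      φ (residue B (b i)) = 0 := by
    intro φ
    let ρ := rho A B g hg (ellOf φ)
    have hρj : ∀ j : ℕ, c ^ j • ρ z ∈ (p ^ j • ⊤ : Submodule C (P ⊗[A] ResidueField A)) := by
      intro j
      have h1 : c ^ j • ρ z = ρ (algebraMap C E c ^ j • z) := by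
        rw [← map_pow, algebraMap_smul, map_smul]
      rw [h1]
      obtain ⟨w₁, hw₁, w₂, hw₂, hw⟩ := Submodule.mem_sup.mp (hpow j)
      rw [← hw, map_add, rho_eq_zero_of_mem A B g hg (ellOf φ) (maximalIdeal B)
        (fun b hb => ellOf_eq_zero φ b hb) w₁ hw₁, zero_add]
      exact rho_mem_pow_smul_top A B g hg (ellOf φ) p j w₂ hw₂
    obtain ⟨c', hc', hc'ξ⟩ := exists_smul_eq_zero_of_forall_pow p (ρ z)
      (fun j => ⟨c ^ j, fun h => hc (Ideal.IsPrime.mem_of_pow_mem inferInstance j h), hρj j⟩)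
    choose a ha using fun i => residue_surjective (R := A) (φ (residue B (b i)))
    have hρz : ρ z = (∑ i ∈ s, a i • x i) ⊗ₜ[A] (1 : ResidueField A) := by
      rw [hzdef, map_sum, TensorProduct.sum_tmul]
      refine Finset.sum_congr rfl fun i _ => ?_
      rw [rho_smul_apply, ellOf_apply, ← ha i, TensorProduct.smul_tmul]
      congr 1
      rw [Algebra.smul_def, mul_one]
      rfl
    have h2 : (c' • ∑ i ∈ s, a i • x i) ⊗ₜ[A] (1 : ResidueField A) = 0 := by
      rw [← TensorProduct.smul_tmul', ← hρz, hc'ξ]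
    have h3 : c' • ∑ i ∈ s, a i • x i ∈ (maximalIdeal A • ⊤ : Submodule A P) := by
      have hker : LinearMap.ker (TensorProduct.mk A (ResidueField A) P 1) = maximalIdeal A • ⊤ :=
        LinearMap.ker_tensorProductMk (R := A) (Q := P) (I := maximalIdeal A)
      rw [← hker, LinearMap.mem_ker, TensorProduct.mk_apply]
      have := congrArg (TensorProduct.comm A P (ResidueField A)) h2
      rwa [TensorProduct.comm_tmul, map_zero] at this
    intro i hi
    have h4 := hx s a ⟨c', hc', h3⟩ i hi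
    rw [← ha i]
    exact (residue_eq_zero_iff _).mpr h4
  intro i hi
  have h5 : residue B (b i) = 0 :=
    (Module.forall_dual_apply_eq_zero_iff (ResidueField A) (residue B (b i))).mp
      (fun φ => key φ i hi)
  exact (residue_eq_zero_iff _).mp h5

include hg in
set_option maxHeartbeats 1600000 in
/-- The chart-level core. -/
theorem chart_core
    (hfl : ∀ (n : Ideal E) [n.IsPrime], n.comap (algebraMap C E) = p →
      n.comap (algebraMap B E) = maximalIdeal B →
        Module.Flat B (LocalizedModule n.primeCompl P'))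
    {ι : Type*} (x : ι → P)
    (hx : ∀ (s : Finset ι) (a : ι → A),
      (∃ c, c ∉ p ∧ c • ∑ i ∈ s, a i • x i ∈ (maximalIdeal A • ⊤ : Submodule A P)) →
        ∀ i ∈ s, a i ∈ maximalIdeal A)
    (𝔟 : Ideal B) (h𝔟 : 𝔟 ≠ ⊤) (s : Finset ι) (c : ι → A)
    (hc : ∑ i ∈ s, c i • x i ∈ ((𝔟.comap (algebraMap A B)) • ⊤ : Submodule A P)) :
    ∀ i ∈ s, algebraMap A B (c i) ∈ 𝔟 := by
  classical
  let S : Submonoid E :=
    sigma p (p.map (algebraMap C E) ⊔ (maximalIdeal B).map (algebraMap B E))
  haveI hNflat : Module.Flat B (LocalizedModule S P') :=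
    flat_localizedModule_sigma_aux p (maximalIdeal B) hfl
  let θ : P' →ₗ[B] LocalizedModule S P' := (LocalizedModule.mkLinearMap S P').restrictScalars B
  let w : ι → LocalizedModule S P' := fun i => θ (g (x i))
  -- Step A
  have hA : ∀ (s' : Finset ι) (β : ι → B),
      ∑ i ∈ s', β i • w i ∈ (maximalIdeal B • ⊤ : Submodule B (LocalizedModule S P')) →
        ∀ i ∈ s', β i ∈ maximalIdeal B := by
    intro s' β hβ
    have h1 : ∑ i ∈ s', β i • w i =
        LocalizedModule.mkLinearMap S P' (∑ i ∈ s', β i • g (x i)) := by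
      change _ = θ _
      rw [map_sum]
      exact Finset.sum_congr rfl fun i _ => (map_smul θ (β i) (g (x i))).symm
    rw [h1] at hβ
    have h2 : LocalizedModule.mkLinearMap S P' (∑ i ∈ s', β i • g (x i)) ∈
        ((maximalIdeal B).map (algebraMap B E) • ⊤ : Submodule E (LocalizedModule S P')) := by
      have h3 := mem_map_smul_top_of_mem_smul_top (S := E) (maximalIdeal B) 1
        (x := LocalizedModule.mkLinearMap S P' (∑ i ∈ s', β i • g (x i)))
        (by rwa [pow_one])
      rwa [pow_one] at h3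
    obtain ⟨σ, hσ, hσz⟩ := exists_smul_mem_of_mk_mem S _ _ h2
    exact mem_maximalIdeal_of_smul_mem g hg p x hx s' β σ hσ hσz
  -- Step B
  haveI : Nontrivial (B ⧸ 𝔟) := Ideal.Quotient.nontrivial_iff.mpr h𝔟
  haveI : IsLocalRing (B ⧸ 𝔟) :=
    IsLocalRing.of_surjective' (Ideal.Quotient.mk 𝔟) Ideal.Quotient.mk_surjective
  haveI : IsLocalHom (Ideal.Quotient.mk 𝔟) :=
    IsLocalHom.of_surjective (Ideal.Quotient.mk 𝔟) Ideal.Quotient.mk_surjective
  let w' : ι → (B ⧸ 𝔟) ⊗[B] LocalizedModule S P' := fun i => (1 : B ⧸ 𝔟) ⊗ₜ w i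
  have hw' : ∀ (β : B) (i : ι), (Ideal.Quotient.mk 𝔟 β) • w' i =
      (1 : B ⧸ 𝔟) ⊗ₜ[B] (β • w i) := by
    intro β i
    change (Ideal.Quotient.mk 𝔟 β) • ((1 : B ⧸ 𝔟) ⊗ₜ[B] w i) = _
    rw [TensorProduct.smul_tmul', TensorProduct.tmul_smul, TensorProduct.smul_tmul',
      smul_eq_mul, mul_one, Algebra.smul_def, mul_one]
    rfl
  have hle : 𝔟 ≤ maximalIdeal B := le_maximalIdeal h𝔟
  let fac : (B ⧸ 𝔟) →ₗ[B] ResidueField B := (Ideal.Quotient.factorₐ B hle).toLinearMap
  let π : (B ⧸ 𝔟) ⊗[B] LocalizedModule S P' →ₗ[B] ResidueField B ⊗[B] LocalizedModule S P' :=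
    fac.rTensor (LocalizedModule S P')
  have hkill : ∀ (β : B), β ∈ maximalIdeal B →
      ∀ t : ResidueField B ⊗[B] LocalizedModule S P', β • t = 0 := by
    intro β hβ t
    induction t using TensorProduct.induction_on with
    | zero => simp
    | tmul k n =>
      rw [TensorProduct.smul_tmul']
      have : β • k = 0 := by
        rw [Algebra.smul_def]
        have : algebraMap B (ResidueField B) β = 0 := (residue_eq_zero_iff β).mpr hβ
        rw [this, zero_mul]
      rw [this, TensorProduct.zero_tmul]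
    | add t t' ht ht' => rw [smul_add, ht, ht', add_zero]
  have hπ : ∀ t ∈ (maximalIdeal (B ⧸ 𝔟) • ⊤ :
      Submodule (B ⧸ 𝔟) ((B ⧸ 𝔟) ⊗[B] LocalizedModule S P')), π t = 0 := by
    intro t ht
    refine Submodule.smul_induction_on ht (fun β' hβ' y _ => ?_) (fun a b ha hb => ?_)
    · obtain ⟨β, rfl⟩ := Ideal.Quotient.mk_surjective β'
      have hβ : β ∈ maximalIdeal B := by
        by_contra hβ
        have hu : IsUnit β := by
          by_contra hnu
          exact hβ ((mem_maximalIdeal β).mpr hnu)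
        exact ((mem_maximalIdeal _).mp hβ') (hu.map (Ideal.Quotient.mk 𝔟))
      have h1 : (Ideal.Quotient.mk 𝔟 β) • y = β • y := by
        rw [← Ideal.Quotient.algebraMap_eq, algebraMap_smul]
      rw [h1, map_smul]
      exact hkill β hβ _
    · rw [map_add, ha, hb, add_zero]
  have hB : ∀ (s' : Finset ι) (β' : ι → B ⧸ 𝔟),
      ∑ i ∈ s', β' i • w' i ∈ (maximalIdeal (B ⧸ 𝔟) • ⊤ :
        Submodule (B ⧸ 𝔟) ((B ⧸ 𝔟) ⊗[B] LocalizedModule S P')) →
        ∀ i ∈ s', β' i ∈ maximalIdeal (B ⧸ 𝔟) := by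
    intro s' β' hβ'
    choose β hβ using fun i => Ideal.Quotient.mk_surjective (β' i)
    have h1 : ∑ i ∈ s', β' i • w' i = (1 : B ⧸ 𝔟) ⊗ₜ[B] (∑ i ∈ s', β i • w i) := by
      rw [TensorProduct.tmul_sum]
      exact Finset.sum_congr rfl fun i _ => by rw [← hβ i, hw']
    have h2 := hπ _ hβ'
    rw [h1] at h2
    have h3 : TensorProduct.mk B (ResidueField B) (LocalizedModule S P') 1
        (∑ i ∈ s', β i • w i) = 0 := by
      have : π ((1 : B ⧸ 𝔟) ⊗ₜ[B] (∑ i ∈ s', β i • w i)) =
          (1 : ResidueField B) ⊗ₜ[B] (∑ i ∈ s', β i • w i) := by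
        change fac 1 ⊗ₜ[B] _ = _
        congr 1
      rw [this] at h2
      exact h2
    have hker : LinearMap.ker (TensorProduct.mk B (ResidueField B) (LocalizedModule S P') 1) =
        maximalIdeal B • ⊤ :=
      LinearMap.ker_tensorProductMk (R := B) (Q := LocalizedModule S P') (I := maximalIdeal B)
    have h4 : ∑ i ∈ s', β i • w i ∈
        (maximalIdeal B • ⊤ : Submodule B (LocalizedModule S P')) := by
      rw [← hker]
      exact h3
    intro i hi
    have h5 := hA s' β h4 i hi
    rw [← hβ i]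
    by_contra hcon
    have hu : IsUnit (Ideal.Quotient.mk 𝔟 (β i)) := by
      by_contra hnu
      exact hcon ((mem_maximalIdeal _).mpr hnu)
    exact ((mem_maximalIdeal _).mp h5) (isUnit_of_map_unit (Ideal.Quotient.mk 𝔟) _ hu)
  have hli : LinearIndependent (B ⧸ 𝔟) w' :=
    Module.IsLocalRing.linearIndependent_of_flat w' (linearIndependent_mk_of_forall w' hB)
  -- Step C
  have hC : θ (g (∑ i ∈ s, c i • x i)) ∈ (𝔟 • ⊤ : Submodule B (LocalizedModule S P')) := by
    refine Submodule.smul_induction_on hc (fun k hk x₀ _ => ?_) (fun a b ha hb => ?_)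
    · rw [LinearMap.map_smul_of_tower, ← algebraMap_smul B k (g x₀), map_smul]
      exact Submodule.smul_mem_smul (Ideal.mem_comap.mp hk) Submodule.mem_top
    · rw [map_add, map_add]
      exact add_mem ha hb
  have hC2 : θ (g (∑ i ∈ s, c i • x i)) = ∑ i ∈ s, algebraMap A B (c i) • w i := by
    rw [map_sum, map_sum]
    refine Finset.sum_congr rfl fun i _ => ?_
    rw [LinearMap.map_smul_of_tower, ← algebraMap_smul B (c i) (g (x i)), map_smul]
  have hkerb : LinearMap.ker (TensorProduct.mk B (B ⧸ 𝔟) (LocalizedModule S P') 1) = 𝔟 • ⊤ :=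
    LinearMap.ker_tensorProductMk (R := B) (Q := LocalizedModule S P') (I := 𝔟)
  have hC3 : (1 : B ⧸ 𝔟) ⊗ₜ[B] (∑ i ∈ s, algebraMap A B (c i) • w i) = 0 := by
    rw [← hC2]
    have : θ (g (∑ i ∈ s, c i • x i)) ∈
        LinearMap.ker (TensorProduct.mk B (B ⧸ 𝔟) (LocalizedModule S P') 1) := by
      rw [hkerb]; exact hC
    exact this
  have hC4 : ∑ i ∈ s, (Ideal.Quotient.mk 𝔟 (algebraMap A B (c i))) • w' i = 0 := by
    rw [← hC3, TensorProduct.tmul_sum]
    exact Finset.sum_congr rfl fun i _ => hw' _ i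
  intro i hi
  have := linearIndependent_iff'.mp hli s _ hC4 i hi
  exact Ideal.Quotient.eq_zero_iff_mem.mp this

include hg in
set_option maxHeartbeats 1600000 in
/-- The stalk-level core: relations in the localization `M = P_p`. -/
theorem stalk_core {M : Type u} [AddCommGroup M] [Module C M] [Module A M] [IsScalarTower A C M]
    (l : P →ₗ[C] M) [IsLocalizedModule p.primeCompl l]
    (hfl : ∀ (n : Ideal E) [n.IsPrime], n.comap (algebraMap C E) = p →
      n.comap (algebraMap B E) = maximalIdeal B →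
        Module.Flat B (LocalizedModule n.primeCompl P'))
    {ι : Type*} [Finite ι] (v : ι → M)
    (hv : ∀ (s : Finset ι) (a : ι → A),
      ∑ i ∈ s, a i • v i ∈ (maximalIdeal A • ⊤ : Submodule A M) → ∀ i ∈ s, a i ∈ maximalIdeal A)
    (𝔟 : Ideal B) (h𝔟 : 𝔟 ≠ ⊤) (s : Finset ι) (c : ι → A)
    (hc : ∑ i ∈ s, c i • v i ∈ ((𝔟.comap (algebraMap A B)) • ⊤ : Submodule A M)) :
    ∀ i ∈ s, algebraMap A B (c i) ∈ 𝔟 := by
  obtain ⟨d₀, hd₀⟩ := IsLocalizedModule.exist_integer_multiples_of_finite p.primeCompl l v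
  choose x₀ hx₀ using hd₀
  have h1 : l (∑ i ∈ s, c i • x₀ i) = (d₀ : C) • ∑ i ∈ s, c i • v i := by
    rw [map_sum, Finset.smul_sum]
    refine Finset.sum_congr rfl fun i _ => ?_
    rw [LinearMap.map_smul_of_tower, hx₀, smul_comm]
  have h2 : l (∑ i ∈ s, c i • x₀ i) ∈ ((𝔟.comap (algebraMap A B)) • ⊤ : Submodule A M) := by
    rw [h1]
    exact smul_mem_smul_top_of_mem _ _ hc
  obtain ⟨d₁, hd₁, h3⟩ := exists_smul_mem_of_map_mem p l _ _ h2
  let x : ι → P := fun i => d₁ • x₀ i
  have hlx : ∀ i, l (x i) = (d₁ * (d₀ : C)) • v i := by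
    intro i
    change l (d₁ • x₀ i) = _
    rw [map_smul, hx₀, smul_smul]
  have hd : d₁ * (d₀ : C) ∉ p := fun h =>
    (Ideal.IsPrime.mem_or_mem inferInstance h).elim hd₁ d₀.2
  have hsum : ∀ (s' : Finset ι) (a : ι → A),
      ∑ i ∈ s', a i • x i = d₁ • ∑ i ∈ s', a i • x₀ i := by
    intro s' a
    rw [Finset.smul_sum]
    exact Finset.sum_congr rfl fun i _ => smul_comm _ _ _
  refine chart_core g hg p hfl x ?_ 𝔟 h𝔟 s c ?_
  · rintro s' a ⟨c', hc', hmem⟩
    have h4 : l (c' • ∑ i ∈ s', a i • x i) ∈ (maximalIdeal A • ⊤ : Submodule A M) :=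
      map_mem_smul_top _ (l.restrictScalars A) hmem
    have h5 : l (c' • ∑ i ∈ s', a i • x i) =
        (c' * (d₁ * (d₀ : C))) • ∑ i ∈ s', a i • v i := by
      rw [map_smul, map_sum, mul_smul]
      congr 1
      rw [Finset.smul_sum]
      refine Finset.sum_congr rfl fun i _ => ?_
      rw [LinearMap.map_smul_of_tower, hlx, smul_comm]
    rw [h5] at h4
    exact hv s' a (mem_of_smul_mem_of_notMem p l _
      (fun h => (Ideal.IsPrime.mem_or_mem inferInstance h).elim hc' hd) h4)
  · rw [hsum]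
    exact h3

end Main

section Assemble

variable {A : Type u} [CommRing A] [IsLocalRing A] {M : Type u} [AddCommGroup M] [Module A M]

/-- Nakayama for a nilpotent ideal (no finiteness). -/
theorem eq_top_of_sup_smul_eq_top_of_isNilpotent (I : Ideal A) (hI : IsNilpotent I)
    (N : Submodule A M) (h : N ⊔ I • ⊤ = ⊤) : N = ⊤ := by
  obtain ⟨n, hn⟩ := hI
  have key : ∀ k : ℕ, N ⊔ I ^ k • ⊤ = ⊤ := by
    intro k
    induction k with
    | zero => simp
    | succ k ih =>
      rw [eq_top_iff]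
      calc (⊤ : Submodule A M) = N ⊔ I • ⊤ := h.symm
        _ = N ⊔ I • (N ⊔ I ^ k • ⊤) := by rw [ih]
        _ = N ⊔ (I • N ⊔ I • (I ^ k • ⊤)) := by rw [Submodule.smul_sup]
        _ ≤ N ⊔ I ^ (k + 1) • ⊤ := by
          rw [← Submodule.mul_smul, ← pow_succ']
          exact sup_le le_sup_left (sup_le (le_trans Submodule.smul_le_right le_sup_left)
            le_sup_right)
  have := key n
  rwa [hn, Ideal.zero_eq_bot, Submodule.bot_smul, sup_bot_eq] at this

/-- A module over a local ring with nilpotent maximal ideal is flat (indeed free) as soon as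
finite families which are independent modulo the maximal ideal are linearly independent. -/
theorem flat_of_forall_relation (hnil : IsNilpotent (maximalIdeal A))
    (h : ∀ (ι : Type u) [Finite ι] (v : ι → M),
      (∀ (s : Finset ι) (a : ι → A), ∑ i ∈ s, a i • v i ∈ (maximalIdeal A • ⊤ : Submodule A M) →
        ∀ i ∈ s, a i ∈ maximalIdeal A) →
      ∀ (s : Finset ι) (c : ι → A), ∑ i ∈ s, c i • v i = 0 → ∀ i ∈ s, c i = 0) :
    Module.Flat A M := by
  let w := Module.Free.chooseBasis (ResidueField A) (ResidueField A ⊗[A] M)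
  have hsurj : Function.Surjective (TensorProduct.mk A (ResidueField A) M 1) :=
    TensorProduct.mk_surjective A M (ResidueField A) Ideal.Quotient.mk_surjective
  choose v hv using fun i => hsurj (w i)
  have hwv : TensorProduct.mk A (ResidueField A) M 1 ∘ v = w := funext hv
  have hlik : LinearIndependent (ResidueField A) (TensorProduct.mk A (ResidueField A) M 1 ∘ v) := by
    rw [hwv]; exact w.linearIndependent
  have hli : LinearIndependent A v := by
    rw [linearIndependent_iff_finset_linearIndependent]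
    intro s
    rw [linearIndependent_iff']
    intro s' c hsum i hi
    refine h ↥s (v ∘ Subtype.val) ?_ s' c hsum i hi
    exact forall_of_linearIndependent_mk (v ∘ Subtype.val)
      (hlik.comp Subtype.val Subtype.val_injective)
  have hsp : Submodule.span A (Set.range v) = ⊤ := by
    apply eq_top_of_sup_smul_eq_top_of_isNilpotent (maximalIdeal A) hnil
    rw [eq_top_iff]
    intro m _
    have hker : LinearMap.ker (TensorProduct.mk A (ResidueField A) M 1) = maximalIdeal A • ⊤ :=
      LinearMap.ker_tensorProductMk (R := A) (Q := M) (I := maximalIdeal A)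
    have h1 : TensorProduct.mk A (ResidueField A) M 1 m ∈
        Submodule.span (ResidueField A) (Set.range w) := by
      rw [w.span_eq]; exact Submodule.mem_top
    -- lift a representation
    have h2 : ∀ t ∈ Submodule.span (ResidueField A) (Set.range w),
        ∃ y ∈ Submodule.span A (Set.range v), TensorProduct.mk A (ResidueField A) M 1 y = t := by
      intro t ht
      refine Submodule.span_induction ?_ ?_ ?_ ?_ ht
      · rintro _ ⟨i, rfl⟩
        exact ⟨v i, Submodule.subset_span ⟨i, rfl⟩, hv i⟩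
      · exact ⟨0, zero_mem _, map_zero _⟩
      · rintro _ _ _ _ ⟨y₁, hy₁, rfl⟩ ⟨y₂, hy₂, rfl⟩
        exact ⟨y₁ + y₂, add_mem hy₁ hy₂, map_add _ _ _⟩
      · rintro a _ _ ⟨y, hy, rfl⟩
        obtain ⟨a, rfl⟩ := residue_surjective a
        exact ⟨a • y, Submodule.smul_mem _ _ hy, by rw [map_smul]; rfl⟩
    obtain ⟨y, hy, hym⟩ := h2 _ h1
    have h3 : m - y ∈ (maximalIdeal A • ⊤ : Submodule A M) := by
      rw [← hker, LinearMap.mem_ker, map_sub, hym, sub_self]
    have : m = y + (m - y) := by abel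
    rw [this]
    exact Submodule.add_mem_sup hy h3
  haveI : Module.Free A M := Module.Free.of_basis (Module.Basis.mk hli hsp.ge)
  infer_instance

end Assemble

section LocalHom

/-- A ring hom from a local ring with nilpotent maximal ideal to a nontrivial ring is local. -/
theorem isLocalHom_of_isNilpotent {A B : Type*} [CommRing A] [CommRing B] [IsLocalRing A]
    [Nontrivial B] (φ : A →+* B) (hnil : IsNilpotent (maximalIdeal A)) : IsLocalHom φ := by
  refine ⟨fun a ha => ?_⟩
  by_contra hna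
  have hmem : a ∈ maximalIdeal A := (IsLocalRing.mem_maximalIdeal a).mpr hna
  obtain ⟨n, hn⟩ := hnil
  have h1 : a ^ n = 0 := by
    have h2 := Ideal.pow_mem_pow hmem n
    rw [hn] at h2
    simpa using h2
  have h0 : IsUnit (φ a ^ n) := ha.pow n
  rw [← map_pow, h1, map_zero] at h0
  exact not_isUnit_zero h0

end LocalHom

end Groth.Agent.H57.ArtFam
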