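import Mathlib
import Groth.Agent.H57.FlatAtBC

/-!
# Descent of pointwise flatness along a flat local homomorphism

* `exists_prime_pushout`: a prime of a pushout `S' = S ⊗_R R'` over two compatible primes.
* `flat_of_flat_of_bijective_smul`: an `R'`-flat module on which `R' ∖ p'` acts bijectively is
  `R`-flat as soon as `R'_{p'}` is `R`-flat.
* `flat_localizedModule_of_flat_tensor`: if `F` is a flat `S`-algebra with a proper ideal lying over
  (an ideal containing) `q` and `F ⊗_S M` is `R`-flat then `M_q` is `R`-flat.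
-/

set_option linter.style.haveILetI false
open TensorProduct

namespace Groth.Agent.H57.FlatDescLoc
universe u

theorem tmul_one_mem_iff {R K B : Type*} [CommRing R] [Field K] [CommRing B] [Algebra R K]
    [Algebra R B] (𝔐 : Ideal (K ⊗[R] B)) (h𝔐 : 𝔐 ≠ ⊤) (a : K) :
    a ⊗ₜ[R] (1 : B) ∈ 𝔐 ↔ a = 0 := by
  constructor
  · intro h
    by_contra hne
    apply h𝔐
    rw [Ideal.eq_top_iff_one]
    have h1 : (a ⊗ₜ[R] (1 : B)) * (a⁻¹ ⊗ₜ[R] (1 : B)) = 1 := by
      rw [Algebra.TensorProduct.tmul_mul_tmul, mul_inv_cancel₀ hne, mul_one]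
      rfl
    rw [← h1]
    exact Ideal.mul_mem_right _ _ h
  · intro h
    rw [h, TensorProduct.zero_tmul]
    exact Ideal.zero_mem _

theorem one_tmul_mem_iff {R A K : Type*} [CommRing R] [CommRing A] [Field K] [Algebra R A]
    [Algebra R K] (𝔐 : Ideal (A ⊗[R] K)) (h𝔐 : 𝔐 ≠ ⊤) (b : K) :
    (1 : A) ⊗ₜ[R] b ∈ 𝔐 ↔ b = 0 := by
  constructor
  · intro h
    by_contra hne
    apply h𝔐
    rw [Ideal.eq_top_iff_one]
    have h1 : ((1 : A) ⊗ₜ[R] b) * ((1 : A) ⊗ₜ[R] b⁻¹) = 1 := by
      rw [Algebra.TensorProduct.tmul_mul_tmul, mul_inv_cancel₀ hne, mul_one]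
      rfl
    rw [← h1]
    exact Ideal.mul_mem_right _ _ h
  · intro h
    rw [h, TensorProduct.tmul_zero]
    exact Ideal.zero_mem _

/-- A prime of a pushout lying over two given primes with the same contraction. -/
theorem exists_prime_pushout {R S R' S' : Type u} [CommRing R] [CommRing S] [CommRing R']
    [CommRing S'] [Algebra R S] [Algebra R R'] [Algebra S S'] [Algebra R' S'] [Algebra R S']
    [IsScalarTower R S S'] [IsScalarTower R R' S'] [Algebra.IsPushout R S R' S']
    (q : Ideal S) [q.IsPrime] (p' : Ideal R') [p'.IsPrime]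
    (hqp : q.comap (algebraMap R S) = p'.comap (algebraMap R R')) :
    ∃ q' : Ideal S', q'.IsPrime ∧ q'.comap (algebraMap S S') = q ∧
      q'.comap (algebraMap R' S') = p' := by
  let p : Ideal R := q.comap (algebraMap R S)
  haveI : q.LiesOver p := ⟨rfl⟩
  haveI : p'.LiesOver p := ⟨hqp⟩
  let A := FractionRing (S ⧸ q)
  let B := FractionRing (R' ⧸ p')
  have hA : Function.Injective (algebraMap (R ⧸ p) A) := by
    rw [IsScalarTower.algebraMap_eq (R ⧸ p) (S ⧸ q) A]
    exact (IsFractionRing.injective (S ⧸ q) A).comp (FaithfulSMul.algebraMap_injective _ _)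
  have hB : Function.Injective (algebraMap (R ⧸ p) B) := by
    rw [IsScalarTower.algebraMap_eq (R ⧸ p) (R' ⧸ p') B]
    exact (IsFractionRing.injective (R' ⧸ p') B).comp (FaithfulSMul.algebraMap_injective _ _)
  haveI : Nontrivial (A ⊗[R ⧸ p] B) :=
    Algebra.TensorProduct.nontrivial_of_algebraMap_injective_of_isDomain (R ⧸ p) A B hA hB
  letI : TensorProduct.CompatibleSMul (R ⧸ p) R A B := TensorProduct.CompatibleSMul.isScalarTower
  haveI : Nontrivial (A ⊗[R] B) :=
    (Algebra.TensorProduct.mapOfCompatibleSMul (R ⧸ p) R R A B).toRingHom.domain_nontrivial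
  obtain ⟨𝔐, h𝔐⟩ := Ideal.exists_maximal (A ⊗[R] B)
  let fS : S →ₐ[R] A ⊗[R] B :=
    (Algebra.TensorProduct.includeLeft : A →ₐ[R] A ⊗[R] B).comp (IsScalarTower.toAlgHom R S A)
  let gR' : R' →ₐ[R] A ⊗[R] B :=
    (Algebra.TensorProduct.includeRight : B →ₐ[R] A ⊗[R] B).comp (IsScalarTower.toAlgHom R R' B)
  let Φ : S' →ₐ[R] A ⊗[R] B := Algebra.pushoutDesc S' fS gR' (fun x y => mul_comm _ _)
  haveI := h𝔐.isPrime
  refine ⟨𝔐.comap Φ, inferInstance, ?_, ?_⟩
  · ext s
    rw [Ideal.mem_comap, Ideal.mem_comap]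
    have h1 : Φ (algebraMap S S' s) = (algebraMap S A s) ⊗ₜ[R] (1 : B) :=
      Algebra.pushoutDesc_left S' fS gR' _ s
    rw [h1, tmul_one_mem_iff 𝔐 h𝔐.ne_top, IsScalarTower.algebraMap_apply S (S ⧸ q) A,
      map_eq_zero_iff _ (IsFractionRing.injective (S ⧸ q) A), Ideal.Quotient.algebraMap_eq,
      Ideal.Quotient.eq_zero_iff_mem]
  · ext s
    rw [Ideal.mem_comap, Ideal.mem_comap]
    have h1 : Φ (algebraMap R' S' s) = (1 : A) ⊗ₜ[R] (algebraMap R' B s) :=
      Algebra.pushoutDesc_right S' fS gR' _ s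
    rw [h1, one_tmul_mem_iff 𝔐 h𝔐.ne_top, IsScalarTower.algebraMap_apply R' (R' ⧸ p') B,
      map_eq_zero_iff _ (IsFractionRing.injective (R' ⧸ p') B), Ideal.Quotient.algebraMap_eq,
      Ideal.Quotient.eq_zero_iff_mem]

/-- If `R'_{p'}` is `R`-flat, an `R'`-flat module on which `R' ∖ p'` acts bijectively is
`R`-flat. -/
theorem flat_of_flat_of_bijective_smul {R R' : Type u} [CommRing R] [CommRing R'] [Algebra R R']
    (p' : Ideal R') [p'.IsPrime] [Module.Flat R (Localization.AtPrime p')]
    (X : Type u) [AddCommGroup X] [Module R' X] [Module R X] [IsScalarTower R R' X]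
    [Module.Flat R' X] (hunits : ∀ r : R', r ∉ p' → Function.Bijective (fun x : X => r • x)) :
    Module.Flat R X := by
  haveI : IsLocalizedModule p'.primeCompl (LinearMap.id : X →ₗ[R'] X) :=
    { map_units := fun s => (Module.End.isUnit_iff _).mpr (hunits s.1 s.2)
      surj := fun y => ⟨(y, 1), by simp⟩
      exists_of_eq := fun h => ⟨1, by simpa using h⟩ }
  let e1 : LocalizedModule p'.primeCompl X ≃ₗ[R'] X :=
    IsLocalizedModule.iso p'.primeCompl (LinearMap.id : X →ₗ[R'] X)
  let e2 : LocalizedModule p'.primeCompl X ≃ₗ[Localization.AtPrime p']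
      Localization.AtPrime p' ⊗[R'] X := LocalizedModule.equivTensorProduct p'.primeCompl X
  haveI : Module.Flat R (Localization.AtPrime p' ⊗[R'] X) :=
    Module.Flat.trans R (Localization.AtPrime p') _
  let e : Localization.AtPrime p' ⊗[R'] X ≃ₗ[R] X :=
    ((e2.symm.restrictScalars R') ≪≫ₗ e1).restrictScalars R
  exact Module.Flat.of_linearEquiv e.symm

/-- Descent of pointwise flatness along a flat algebra `S → F` having a proper ideal
containing `q F`. -/
theorem flat_localizedModule_of_flat_tensor {R S F : Type u} [CommRing R] [CommRing S]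
    [CommRing F] [Algebra R S] [Algebra S F] [Algebra R F] [IsScalarTower R S F]
    [Module.Flat S F] (q : Ideal S) [q.IsPrime] (mF : Ideal F) (hmF : mF ≠ ⊤)
    (hq : q ≤ mF.comap (algebraMap S F))
    (M : Type u) [AddCommGroup M] [Module S M] [Module R M] [IsScalarTower R S M]
    [Module.Flat R (F ⊗[S] M)] : Module.Flat R (LocalizedModule q.primeCompl M) := by
  apply Groth.Agent.H57.flat_localizedModule_of_forall
  intro P Q _ _ _ _ u hu x hx
  have hnat : ∀ z : M ⊗[R] P, u.lTensor (F ⊗[S] M)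
      ((AlgebraTensorModule.assoc R S F F M P).symm ((1 : F) ⊗ₜ[S] z)) =
      (AlgebraTensorModule.assoc R S F F M Q).symm ((1 : F) ⊗ₜ[S] (u.lTensor M z)) := by
    intro z
    induction z using TensorProduct.induction_on with
    | zero => simp
    | tmul m p => simp
    | add a b ha hb => simp only [TensorProduct.tmul_add, map_add, ha, hb]
  have h0 : (1 : F) ⊗ₜ[S] x = (0 : F ⊗[S] (M ⊗[R] P)) := by
    have h1 := hnat x
    rw [hx, TensorProduct.tmul_zero, map_zero] at h1
    have h2 := Module.Flat.lTensor_preserves_injective_linearMap (M := F ⊗[S] M) u hu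
      (h1.trans (map_zero _).symm)
    exact (AlgebraTensorModule.assoc R S F F M P).symm.injective (h2.trans (map_zero _).symm)
  have h0' : x ⊗ₜ[S] (1 : F) = (0 : (M ⊗[R] P) ⊗[S] F) := by
    have := congrArg (TensorProduct.comm S F (M ⊗[R] P)) h0
    simpa using this
  have hinj : Function.Injective (LinearMap.rTensor F
      (Submodule.span S (Set.range (fun _ : Fin 1 => x))).subtype) :=
    Module.Flat.rTensor_preserves_injective_linearMap _ (Submodule.injective_subtype _)
  obtain ⟨k, a, y, hay, ham⟩ :=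
    TensorProduct.vanishesTrivially_of_sum_tmul_eq_zero_of_rTensor_injective S
      (m := fun _ : Fin 1 => x) (n := fun _ : Fin 1 => (1 : F)) hinj (by simpa using h0')
  by_contra hcon
  push Not at hcon
  apply hmF
  rw [Ideal.eq_top_iff_one]
  have h1 := hay 0
  simp only at h1
  rw [h1]
  refine Ideal.sum_mem _ (fun j _ => ?_)
  rw [Algebra.smul_def]
  apply Ideal.mul_mem_right
  apply hq
  by_contra hnq
  have h2 := ham j
  simp only [Finset.univ_unique, Finset.sum_singleton] at h2
  exact hcon ⟨a default j, hnq⟩ h2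

end Groth.Agent.H57.FlatDescLoc
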