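import Groth.Agent.H57.ArtFam
import Groth.Agent.H57.SepCrit

/-!
`ArtFam.stalk_core` with a non-local base `R` localized at a prime `𝔭` (`A₀ = R_𝔭`), and the adic
assembly (local criterion + relations modulo ideals `K` squeezed between powers of the maximal
ideal).
-/

set_option autoImplicit false
set_option linter.style.haveILetI false
universe u

open TensorProduct IsLocalRing

namespace Groth.Agent.H57.ArtFamLocA

open Groth.Agent.H57 Groth.Agent.H57.ArtFam

section PrimeA

variable {R C B E A₀ : Type u} [CommRing R] [CommRing C] [CommRing B] [CommRing E]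
  [CommRing A₀]
  [Algebra R C] [Algebra R B] [Algebra C E] [Algebra B E] [Algebra R E]
  [IsScalarTower R C E] [IsScalarTower R B E] [Algebra.IsPushout R C B E]
  [IsNoetherianRing C] [IsLocalRing B]
  (𝔭 : Ideal R) [𝔭.IsPrime] [Algebra R A₀] [IsLocalization.AtPrime A₀ 𝔭] [IsLocalRing A₀]
  [Algebra A₀ B] [IsScalarTower R A₀ B] [IsLocalHom (algebraMap A₀ B)]
  (p : Ideal C) [p.IsPrime]
  {P : Type u} [AddCommGroup P] [Module C P] [Module.Finite C P]
  [SMulCommClass C B E]

local notation "TC" => Algebra.algebraMapSubmonoid C (Ideal.primeCompl 𝔭)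
local notation "C₀" => Localization (Algebra.algebraMapSubmonoid C (Ideal.primeCompl 𝔭))

set_option maxHeartbeats 3200000 in
/-- `stalk_core` over a base `R` localized at a prime `𝔭`. -/
theorem stalk_core_primeA (Sx : Type u) [CommRing Sx]
    [Algebra C Sx] [IsLocalization.AtPrime Sx p] [Algebra A₀ Sx] [Algebra R Sx]
    [IsScalarTower R A₀ Sx] [IsScalarTower R C Sx]
    {M : Type u} [AddCommGroup M] [Module Sx M] [Module C M] [IsScalarTower C Sx M]
    [Module A₀ M] [IsScalarTower A₀ Sx M]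
    (hp𝔭 : p.comap (algebraMap R C) = 𝔭)
    (l : P →ₗ[C] M) [IsLocalizedModule p.primeCompl l]
    (hfl : ∀ (n : Ideal E) [n.IsPrime], n.comap (algebraMap C E) = p →
      n.comap (algebraMap B E) = maximalIdeal B →
        Module.Flat B (LocalizedModule n.primeCompl (E ⊗[C] P)))
    {ι : Type*} [Finite ι] (v : ι → M)
    (hv : ∀ (s : Finset ι) (a : ι → A₀),
      ∑ i ∈ s, a i • v i ∈ (maximalIdeal A₀ • ⊤ : Submodule A₀ M) →
        ∀ i ∈ s, a i ∈ maximalIdeal A₀)
    (𝔟 : Ideal B) (h𝔟 : 𝔟 ≠ ⊤) (s : Finset ι) (c : ι → A₀)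
    (hc : ∑ i ∈ s, c i • v i ∈ ((𝔟.comap (algebraMap A₀ B)) • ⊤ : Submodule A₀ M)) :
    ∀ i ∈ s, algebraMap A₀ B (c i) ∈ 𝔟 := by
  classical
  letI aA₀C₀ : Algebra A₀ C₀ := localizationAlgebra 𝔭.primeCompl C
  haveI tRA₀C₀ : IsScalarTower R A₀ C₀ := isScalarTower_localizationAlgebra 𝔭.primeCompl C
  haveI po_loc : Algebra.IsPushout R C A₀ C₀ :=
    Algebra.isPushout_of_isLocalization 𝔭.primeCompl A₀ C C₀
  letI aA₀E : Algebra A₀ E := ((algebraMap B E).comp (algebraMap A₀ B)).toAlgebra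
  haveI tA₀BE : IsScalarTower A₀ B E := .of_algebraMap_eq' rfl
  haveI tRA₀E : IsScalarTower R A₀ E := .of_algebraMap_eq' (by
    change algebraMap R E = ((algebraMap B E).comp (algebraMap A₀ B)).comp (algebraMap R A₀)
    rw [RingHom.comp_assoc, ← IsScalarTower.algebraMap_eq R A₀ B,
      ← IsScalarTower.algebraMap_eq R B E])
  have hunitE : ∀ y : TC, IsUnit (algebraMap C E y) := by
    rintro ⟨_, r, hr, rfl⟩
    change IsUnit (algebraMap C E (algebraMap R C r))
    rw [← IsScalarTower.algebraMap_apply R C E, IsScalarTower.algebraMap_apply R A₀ E]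
    exact (IsLocalization.map_units A₀ (⟨r, hr⟩ : 𝔭.primeCompl)).map _
  letI aC₀E : Algebra C₀ E := (IsLocalization.lift (M := TC) (S := C₀) hunitE).toAlgebra
  haveI tCC₀E : IsScalarTower C C₀ E := .of_algebraMap_eq' (IsLocalization.lift_comp _).symm
  haveI tRC₀E : IsScalarTower R C₀ E := .of_algebraMap_eq' (by
    rw [IsScalarTower.algebraMap_eq R C C₀, ← RingHom.comp_assoc,
      ← IsScalarTower.algebraMap_eq C C₀ E, ← IsScalarTower.algebraMap_eq R C E])
  haveI tA₀C₀E : IsScalarTower A₀ C₀ E := .of_algebraMap_eq' (by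
    apply IsLocalization.ringHom_ext 𝔭.primeCompl
    rw [RingHom.comp_assoc, ← IsScalarTower.algebraMap_eq R A₀ C₀,
      ← IsScalarTower.algebraMap_eq R A₀ E, ← IsScalarTower.algebraMap_eq R C₀ E])
  haveI po_sym : Algebra.IsPushout R A₀ C C₀ := po_loc.symm
  haveI po_RBCE : Algebra.IsPushout R B C E := Algebra.IsPushout.symm inferInstance
  haveI po_A₀ : Algebra.IsPushout A₀ B C₀ E :=
    (Algebra.IsPushout.comp_iff (R := R) (S := A₀) (R' := C) (S' := C₀) (T := B)
      (T' := E)).mp po_RBCE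
  haveI po_fin : Algebra.IsPushout A₀ C₀ B E := po_A₀.symm
  letI c1 : SMulCommClass C A₀ C₀ := ⟨fun c b e => by
    simp only [Algebra.smul_def]; ring⟩
  letI c2 : SMulCommClass C C₀ E := ⟨fun c b e => by
    simp only [Algebra.smul_def]; ring⟩
  letI c3 : SMulCommClass C A₀ E := ⟨fun c b e => by
    simp only [Algebra.smul_def]; ring⟩
  haveI : IsNoetherianRing C₀ := IsLocalization.isNoetherianRing TC C₀ inferInstance
  -- the `Sx` side
  have hdisj : Disjoint (TC : Set C) (p : Set C) := by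
    rw [Set.disjoint_left]
    rintro _ ⟨r, hr, rfl⟩ hmem
    exact hr (by rw [← hp𝔭]; exact hmem)
  have hle : TC ≤ p.primeCompl := fun c hc hcp => Set.disjoint_left.mp hdisj hc hcp
  letI aC₀Sx : Algebra C₀ Sx :=
    IsLocalization.localizationAlgebraOfSubmonoidLe C₀ Sx TC p.primeCompl hle
  haveI tCC₀Sx : IsScalarTower C C₀ Sx :=
    IsLocalization.localization_isScalarTower_of_submonoid_le C₀ Sx TC p.primeCompl hle
  haveI tRC₀Sx : IsScalarTower R C₀ Sx := .of_algebraMap_eq' (by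
    rw [IsScalarTower.algebraMap_eq R C C₀, ← RingHom.comp_assoc,
      ← IsScalarTower.algebraMap_eq C C₀ Sx, ← IsScalarTower.algebraMap_eq R C Sx])
  haveI tA₀C₀Sx : IsScalarTower A₀ C₀ Sx := .of_algebraMap_eq' (by
    apply IsLocalization.ringHom_ext 𝔭.primeCompl
    rw [RingHom.comp_assoc, ← IsScalarTower.algebraMap_eq R A₀ C₀,
      ← IsScalarTower.algebraMap_eq R A₀ Sx, ← IsScalarTower.algebraMap_eq R C₀ Sx])
  letI mC₀M : Module C₀ M := Module.compHom M (algebraMap C₀ Sx)
  haveI tC₀SxM : IsScalarTower C₀ Sx M := IsScalarTower.of_algebraMap_smul fun _ _ => rfl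
  haveI tCC₀M : IsScalarTower C C₀ M := IsScalarTower.of_algebraMap_smul fun c m => by
    change algebraMap C₀ Sx (algebraMap C C₀ c) • m = c • m
    rw [← IsScalarTower.algebraMap_apply C C₀ Sx, algebraMap_smul]
  haveI tA₀C₀M : IsScalarTower A₀ C₀ M := ⟨fun a c₀ m => by
    change algebraMap C₀ Sx (a • c₀) • m = a • (algebraMap C₀ Sx c₀ • m)
    rw [Algebra.smul_def, map_mul, mul_smul, ← IsScalarTower.algebraMap_apply A₀ C₀ Sx,
      algebraMap_smul]⟩
  let p₀ : Ideal C₀ := p.map (algebraMap C C₀)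
  haveI hp₀ : p₀.IsPrime :=
    IsLocalization.isPrime_of_isPrime_disjoint TC C₀ p inferInstance hdisj
  have hp₀c : p₀.comap (algebraMap C C₀) = p :=
    IsLocalization.under_map_of_isPrime_disjoint TC C₀ inferInstance hdisj
  let l₀ : C₀ ⊗[C] P →ₗ[C₀] M := (TensorProduct.isBaseChange C P C₀).lift l
  have hl₀bc : IsBaseChange Sx l₀ := by
    refine IsBaseChange.of_comp (TensorProduct.isBaseChange C P C₀) ?_
    have e : (l₀.restrictScalars C) ∘ₗ (TensorProduct.mk C C₀ P 1) = l :=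
      (TensorProduct.isBaseChange C P C₀).lift_comp _
    rw [e]
    exact IsLocalizedModule.isBaseChange p.primeCompl Sx l
  haveI hloc1 : IsLocalization (p.primeCompl.map (algebraMap C C₀)) Sx :=
    IsLocalization.isLocalization_of_submonoid_le C₀ Sx TC p.primeCompl hle
  haveI hl₀1 : IsLocalizedModule (p.primeCompl.map (algebraMap C C₀)) l₀ :=
    (isLocalizedModule_iff_isBaseChange _ Sx l₀).mpr hl₀bc
  have hle' : p.primeCompl.map (algebraMap C C₀) ≤ p₀.primeCompl := by
    rintro _ ⟨c, hc, rfl⟩ hmem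
    have : c ∈ p₀.comap (algebraMap C C₀) := hmem
    rw [hp₀c] at this
    exact hc this
  have hex : ∀ x : p₀.primeCompl, ∃ m : C₀, m * x ∈ p.primeCompl.map (algebraMap C C₀) := by
    rintro ⟨x, hx⟩
    obtain ⟨c, t, rfl⟩ := IsLocalization.exists_mk'_eq TC x
    refine ⟨algebraMap C C₀ t, c, ?_, ?_⟩
    · intro hcp
      apply hx
      rw [IsLocalization.mk'_eq_mul_mk'_one]
      exact Ideal.mul_mem_right _ _ (Ideal.mem_map_of_mem _ hcp)
    · change algebraMap C C₀ c = algebraMap C C₀ t * IsLocalization.mk' C₀ c t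
      rw [IsLocalization.mk'_spec']
  haveI hl₀ : IsLocalizedModule p₀.primeCompl l₀ :=
    IsLocalizedModule.of_exists_mul_mem _ _ hle' hex l₀
  -- the `P'` side
  let g₀ : C₀ ⊗[C] P →ₗ[C₀] E ⊗[C] P :=
    (TensorProduct.isBaseChange C P C₀).lift (TensorProduct.mk C E P 1)
  have hg₀ : IsBaseChange E g₀ := by
    refine IsBaseChange.of_comp (TensorProduct.isBaseChange C P C₀) ?_
    have e : (g₀.restrictScalars C) ∘ₗ (TensorProduct.mk C C₀ P 1) =
        TensorProduct.mk C E P 1 := (TensorProduct.isBaseChange C P C₀).lift_comp _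
    rw [e]
    exact TensorProduct.isBaseChange C P E
  have hflE : ∀ (n : Ideal E) [n.IsPrime], n.comap (algebraMap C₀ E) = p₀ →
      n.comap (algebraMap B E) = maximalIdeal B →
        Module.Flat B (LocalizedModule n.primeCompl (E ⊗[C] P)) := by
    intro n hn h1 h2
    refine hfl n ?_ h2
    rw [IsScalarTower.algebraMap_eq C C₀ E, ← Ideal.comap_comap, h1]
    exact hp₀c
  exact stalk_core (A := A₀) (C := C₀) (B := B) (E := E) (P := C₀ ⊗[C] P) (P' := E ⊗[C] P)
    g₀ hg₀ p₀ l₀ hflE v hv 𝔟 h𝔟 s c hc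

end PrimeA

section Adic

variable {A : Type u} [CommRing A] [IsLocalRing A] {M : Type u} [AddCommGroup M] [Module A M]

/-- If `𝔪 ^ N ≤ K` and relations modulo `K` between families independent modulo `𝔪` have
coefficients in `K`, then `M / K M` is flat over `A / K`. -/
theorem flat_quotient_of_forall_relation (K : Ideal A) (N : ℕ) (hN : maximalIdeal A ^ N ≤ K)
    (hrel : ∀ (ι : Type u) [Finite ι] (v : ι → M),
      (∀ (s : Finset ι) (a : ι → A), ∑ i ∈ s, a i • v i ∈ (maximalIdeal A • ⊤ : Submodule A M) →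
        ∀ i ∈ s, a i ∈ maximalIdeal A) →
      ∀ (s : Finset ι) (c : ι → A), ∑ i ∈ s, c i • v i ∈ (K • ⊤ : Submodule A M) →
        ∀ i ∈ s, c i ∈ K) :
    Module.Flat (A ⧸ K) ((A ⧸ K) ⊗[A] M) := by
  classical
  by_cases hK : K = ⊤
  · haveI : Subsingleton (A ⧸ K) := Ideal.Quotient.subsingleton_iff.mpr hK
    haveI : Subsingleton ((A ⧸ K) ⊗[A] M) := Module.subsingleton (A ⧸ K) _
    infer_instance
  haveI : Nontrivial (A ⧸ K) := Ideal.Quotient.nontrivial_iff.mpr hK
  haveI : IsLocalRing (A ⧸ K) :=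
    IsLocalRing.of_surjective' (Ideal.Quotient.mk K) Ideal.Quotient.mk_surjective
  haveI : IsLocalHom (Ideal.Quotient.mk K) :=
    IsLocalHom.of_surjective (Ideal.Quotient.mk K) Ideal.Quotient.mk_surjective
  have hmem : ∀ a : A, Ideal.Quotient.mk K a ∈ maximalIdeal (A ⧸ K) → a ∈ maximalIdeal A := by
    intro a ha
    by_contra hcon
    have hu : IsUnit a := by
      by_contra hnu
      exact hcon ((mem_maximalIdeal a).mpr hnu)
    exact ((mem_maximalIdeal _).mp ha) (hu.map (Ideal.Quotient.mk K))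
  have hmem' : ∀ a : A, a ∈ maximalIdeal A → Ideal.Quotient.mk K a ∈ maximalIdeal (A ⧸ K) := by
    intro a ha
    by_contra hcon
    have hu : IsUnit (Ideal.Quotient.mk K a) := by
      by_contra hnu
      exact hcon ((mem_maximalIdeal _).mpr hnu)
    exact ((mem_maximalIdeal _).mp ha) (isUnit_of_map_unit (Ideal.Quotient.mk K) _ hu)
  have hnil : IsNilpotent (maximalIdeal (A ⧸ K)) := by
    refine ⟨N, ?_⟩
    have h1 : maximalIdeal (A ⧸ K) ≤ (maximalIdeal A).map (Ideal.Quotient.mk K) := by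
      intro a' ha'
      obtain ⟨a, rfl⟩ := Ideal.Quotient.mk_surjective a'
      exact Ideal.mem_map_of_mem _ (hmem a ha')
    rw [Ideal.zero_eq_bot, eq_bot_iff]
    calc maximalIdeal (A ⧸ K) ^ N ≤ ((maximalIdeal A).map (Ideal.Quotient.mk K)) ^ N :=
          Ideal.pow_right_mono h1 N
      _ = (maximalIdeal A ^ N).map (Ideal.Quotient.mk K) := (Ideal.map_pow _ _ _).symm
      _ ≤ K.map (Ideal.Quotient.mk K) := Ideal.map_mono hN
      _ = ⊥ := Ideal.map_quotient_self K
  apply flat_of_forall_relation hnil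
  intro ι _ v' hv' s c' hc'
  have hsurj : Function.Surjective (TensorProduct.mk A (A ⧸ K) M 1) :=
    TensorProduct.mk_surjective A M (A ⧸ K) Ideal.Quotient.mk_surjective
  choose v hv using fun i => hsurj (v' i)
  choose c hcc using fun i => Ideal.Quotient.mk_surjective (c' i)
  have hsm0 : ∀ (a : A) (m : M), Ideal.Quotient.mk K a • ((1 : A ⧸ K) ⊗ₜ[A] m) =
      (1 : A ⧸ K) ⊗ₜ[A] (a • m) := by
    intro a m
    rw [TensorProduct.smul_tmul', TensorProduct.tmul_smul, TensorProduct.smul_tmul',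
      smul_eq_mul, mul_one, Algebra.smul_def, mul_one]
    rfl
  have hsm : ∀ (a : A) (i : ι), Ideal.Quotient.mk K a • v' i =
      (1 : A ⧸ K) ⊗ₜ[A] (a • v i) := by
    intro a i
    rw [← hv i]
    exact hsm0 a (v i)
  have hsum : ∀ (s' : Finset ι) (a : ι → A),
      ∑ i ∈ s', Ideal.Quotient.mk K (a i) • v' i =
        (1 : A ⧸ K) ⊗ₜ[A] (∑ i ∈ s', a i • v i) := by
    intro s' a
    rw [TensorProduct.tmul_sum]
    exact Finset.sum_congr rfl fun i _ => hsm _ i
  have hvind : ∀ (s' : Finset ι) (a : ι → A),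
      ∑ i ∈ s', a i • v i ∈ (maximalIdeal A • ⊤ : Submodule A M) →
        ∀ i ∈ s', a i ∈ maximalIdeal A := by
    intro s' a ha i hi
    apply hmem
    refine hv' s' (fun i => Ideal.Quotient.mk K (a i)) ?_ i hi
    rw [hsum]
    refine Submodule.smul_induction_on ha (fun k hk x₀ _ => ?_) (fun a b ha hb => ?_)
    · rw [← hsm0]
      exact Submodule.smul_mem_smul (hmem' k hk) Submodule.mem_top
    · rw [TensorProduct.tmul_add]
      exact add_mem ha hb
  have hker : LinearMap.ker (TensorProduct.mk A (A ⧸ K) M 1) = K • ⊤ :=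
    LinearMap.ker_tensorProductMk (R := A) (Q := M) (I := K)
  have hrel' : ∑ i ∈ s, c i • v i ∈ (K • ⊤ : Submodule A M) := by
    rw [← hker, LinearMap.mem_ker]
    change (1 : A ⧸ K) ⊗ₜ[A] (∑ i ∈ s, c i • v i) = 0
    rw [← hsum, ← hc']
    exact Finset.sum_congr rfl fun i _ => by rw [hcc i]
  intro i hi
  rw [← hcc i]
  exact Ideal.Quotient.eq_zero_iff_mem.mpr (hrel ι v hvind s c hrel' i hi)

/-- Adic assembly: the local criterion with ideals `K` squeezed between powers of `𝔪`. -/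
theorem flat_of_forall_exists_ideal {A S M : Type u} [CommRing A] [CommRing S] [IsLocalRing A]
    [IsNoetherianRing A] [IsNoetherianRing S] [Algebra A S] [AddCommGroup M] [Module A M]
    [Module S M] [IsScalarTower A S M] [Module.Finite S M]
    (hI : (maximalIdeal A).map (algebraMap A S) ≤ Ideal.jacobson ⊥)
    (h : ∀ k : ℕ, ∃ (K : Ideal A) (N : ℕ), K ≤ maximalIdeal A ^ k ∧ maximalIdeal A ^ N ≤ K ∧
      ∀ (ι : Type u) [Finite ι] (v : ι → M),
        (∀ (s : Finset ι) (a : ι → A),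
          ∑ i ∈ s, a i • v i ∈ (maximalIdeal A • ⊤ : Submodule A M) →
            ∀ i ∈ s, a i ∈ maximalIdeal A) →
        ∀ (s : Finset ι) (c : ι → A), ∑ i ∈ s, c i • v i ∈ (K • ⊤ : Submodule A M) →
          ∀ i ∈ s, c i ∈ K) :
    Module.Flat A M := by
  refine flat_of_flat_mod_pow (maximalIdeal A) hI (fun k => ?_)
  obtain ⟨K, N, hKk, hNK, hrel⟩ := h k
  haveI := flat_quotient_of_forall_relation K N hNK hrel
  letI : Algebra (A ⧸ K) (A ⧸ maximalIdeal A ^ k) :=
    Ideal.Quotient.algebraQuotientOfLEComap (R := A) (A := A) (p := K)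
      (P := maximalIdeal A ^ k) (fun x hx => hKk hx)
  haveI : IsScalarTower A (A ⧸ K) (A ⧸ maximalIdeal A ^ k) :=
    IsScalarTower.of_algebraMap_eq (fun x => rfl)
  exact (flat_tensor_of_tower A (A ⧸ K) (A ⧸ maximalIdeal A ^ k) M).mp inferInstance

end Adic

end Groth.Agent.H57.ArtFamLocA
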