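import Groth.Agent.H57.LocalCrit
import Mathlib.RingTheory.LocalRing.ResidueField.Basic
import Mathlib.RingTheory.LocalRing.RingHom.Basic
import Mathlib.LinearAlgebra.TensorProduct.Tower
import Mathlib.Algebra.Module.Torsion.Basic
import Mathlib.LinearAlgebra.Basis.VectorSpace

/-! EGA 0_III 10.2.4 / Matsumura 22.5 without `Tor` (helper57): a map from a finite module into a
flat module which is injective modulo the maximal ideal is injective with flat cokernel. -/

set_option autoImplicit false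

universe u

open TensorProduct LinearMap

namespace Groth.Agent.H57

section mulMap

variable {R : Type u} [CommRing R]

/-- multiplication map `𝔟 ⊗ N → N`. -/
noncomputable def mulMap (𝔟 : Ideal R) (N : Type*) [AddCommGroup N] [Module R N] :
    𝔟 ⊗[R] N →ₗ[R] N :=
  (TensorProduct.lid R N).toLinearMap ∘ₗ rTensor N 𝔟.subtype

theorem mulMap_tmul (𝔟 : Ideal R) (N : Type*) [AddCommGroup N] [Module R N] (b : 𝔟) (n : N) :
    mulMap 𝔟 N (b ⊗ₜ n) = (b : R) • n := by
  simp [mulMap]

theorem mem_smul_top_iff (𝔟 : Ideal R) {N : Type*} [AddCommGroup N] [Module R N] (x : N) :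
    x ∈ 𝔟 • (⊤ : Submodule R N) ↔ ∃ ξ, mulMap 𝔟 N ξ = x := by
  constructor
  · intro hx
    refine Submodule.smul_induction_on hx (fun r hr n _ => ⟨⟨r, hr⟩ ⊗ₜ n, mulMap_tmul _ _ _ _⟩) ?_
    rintro a b ⟨ξ, hξ⟩ ⟨η, hη⟩
    exact ⟨ξ + η, by rw [map_add, hξ, hη]⟩
  · rintro ⟨ξ, rfl⟩
    induction ξ using TensorProduct.induction_on with
    | zero => rw [map_zero]; exact zero_mem _
    | tmul b n => rw [mulMap_tmul]; exact Submodule.smul_mem_smul b.2 Submodule.mem_top
    | add a b ha hb => rw [map_add]; exact add_mem ha hb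

theorem mulMap_injective_of_flat (𝔟 : Ideal R) (M : Type*) [AddCommGroup M] [Module R M]
    [Module.Flat R M] : Function.Injective (mulMap 𝔟 M) :=
  (TensorProduct.lid R M).injective.comp (Module.Flat.iff_rTensor_injective'.mp inferInstance 𝔟)

theorem mulMap_lTensor (𝔟 : Ideal R) {N M : Type*} [AddCommGroup N] [Module R N] [AddCommGroup M]
    [Module R M] (u : N →ₗ[R] M) (ξ : 𝔟 ⊗[R] N) :
    mulMap 𝔟 M (lTensor 𝔟 u ξ) = u (mulMap 𝔟 N ξ) := by
  induction ξ using TensorProduct.induction_on with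
  | zero => simp
  | tmul b n => simp [mulMap_tmul]
  | add a b ha hb => simp only [map_add, ha, hb]

end mulMap

section residue

variable {R : Type u} [CommRing R] [IsLocalRing R] {N M : Type u} [AddCommGroup N] [Module R N]
  [AddCommGroup M] [Module R M]

/-- If `k ⊗ u` is injective (`k` the residue field), so is `V ⊗ u` for every `k`-module `V`. -/
theorem lTensor_injective_of_residue (u : N →ₗ[R] M)
    (h : Function.Injective (lTensor (IsLocalRing.ResidueField R) u))
    (V : Type u) [AddCommGroup V] [Module R V] [Module (IsLocalRing.ResidueField R) V]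
    [IsScalarTower R (IsLocalRing.ResidueField R) V] :
    Function.Injective (lTensor V u) := by
  have hbc : Function.Injective (u.baseChange (IsLocalRing.ResidueField R)) := by
    intro a b hab
    exact h hab
  have hflat : Function.Injective (lTensor V (u.baseChange (IsLocalRing.ResidueField R))) :=
    Module.Flat.lTensor_preserves_injective_linearMap
      (u.baseChange (IsLocalRing.ResidueField R)) hbc
  have hnat : ∀ z : V ⊗[IsLocalRing.ResidueField R] (IsLocalRing.ResidueField R ⊗[R] N),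
      AlgebraTensorModule.cancelBaseChange R (IsLocalRing.ResidueField R)
        (IsLocalRing.ResidueField R) V M
          (lTensor V (u.baseChange (IsLocalRing.ResidueField R)) z) =
        lTensor V u (AlgebraTensorModule.cancelBaseChange R (IsLocalRing.ResidueField R)
          (IsLocalRing.ResidueField R) V N z) := by
    intro z
    induction z using TensorProduct.induction_on with
    | zero => simp
    | add x y hx hy => simp only [map_add, hx, hy]
    | tmul v y =>
      induction y using TensorProduct.induction_on with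
      | zero => simp
      | add y z hy hz => simp only [TensorProduct.tmul_add, map_add, hy, hz]
      | tmul c n => simp
  intro a b hab
  obtain ⟨a', rfl⟩ := (AlgebraTensorModule.cancelBaseChange R (IsLocalRing.ResidueField R)
    (IsLocalRing.ResidueField R) V N).surjective a
  obtain ⟨b', rfl⟩ := (AlgebraTensorModule.cancelBaseChange R (IsLocalRing.ResidueField R)
    (IsLocalRing.ResidueField R) V N).surjective b
  rw [← hnat, ← hnat] at hab
  rw [hflat ((AlgebraTensorModule.cancelBaseChange R (IsLocalRing.ResidueField R)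
    (IsLocalRing.ResidueField R) V M).injective hab)]

/-- the inductive step. -/
theorem step_smul_top [Module.Flat R M] (u : N →ₗ[R] M)
    (h : Function.Injective (lTensor (IsLocalRing.ResidueField R) u))
    (𝔟 𝔠 : Ideal R) (h𝔠𝔟 : 𝔠 ≤ 𝔟) (hm : IsLocalRing.maximalIdeal R * 𝔟 ≤ 𝔠)
    (x : N) (hx : x ∈ 𝔟 • (⊤ : Submodule R N)) (hux : u x ∈ 𝔠 • (⊤ : Submodule R M)) :
    x ∈ 𝔠 • (⊤ : Submodule R N) := by
  obtain ⟨ξ, rfl⟩ := (mem_smul_top_iff 𝔟 _).mp hx
  obtain ⟨ζ', hζ'⟩ := (mem_smul_top_iff 𝔠 _).mp hux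
  let j : 𝔠 →ₗ[R] 𝔟 := Submodule.inclusion h𝔠𝔟
  have hj : ∀ ζ' : 𝔠 ⊗[R] M, mulMap 𝔟 M (rTensor M j ζ') = mulMap 𝔠 M ζ' := by
    intro ζ'
    induction ζ' using TensorProduct.induction_on with
    | zero => simp
    | tmul c m => rw [rTensor_tmul, mulMap_tmul, mulMap_tmul]; rfl
    | add a b ha hb => simp only [map_add, ha, hb]
  have hζ : lTensor 𝔟 u ξ = rTensor M j ζ' := by
    apply mulMap_injective_of_flat 𝔟 M
    rw [mulMap_lTensor, hj, hζ']
  let 𝔠' : Submodule R 𝔟 := Submodule.comap 𝔟.subtype 𝔠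
  have hV : Module.IsTorsionBySet R (𝔟 ⧸ 𝔠') (IsLocalRing.maximalIdeal R : Set R) := by
    intro v a
    obtain ⟨b, rfl⟩ := Submodule.mkQ_surjective 𝔠' v
    rw [← map_smul, Submodule.mkQ_apply, Submodule.Quotient.mk_eq_zero]
    change ((a : R) • b : 𝔟).1 ∈ 𝔠
    exact hm (Ideal.mul_mem_mul a.2 b.2)
  letI : Module (IsLocalRing.ResidueField R) (𝔟 ⧸ 𝔠') := hV.module
  haveI : IsScalarTower R (IsLocalRing.ResidueField R) (𝔟 ⧸ 𝔠') := hV.isScalarTower
  have hπj : 𝔠'.mkQ ∘ₗ j = 0 := by
    ext c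
    rw [LinearMap.comp_apply, Submodule.mkQ_apply, LinearMap.zero_apply,
      Submodule.Quotient.mk_eq_zero]
    exact c.2
  have h0 : lTensor (𝔟 ⧸ 𝔠') u (rTensor N 𝔠'.mkQ ξ) = 0 := by
    have e : lTensor (𝔟 ⧸ 𝔠') u (rTensor N 𝔠'.mkQ ξ) = rTensor M 𝔠'.mkQ (lTensor 𝔟 u ξ) := by
      rw [← LinearMap.comp_apply, ← LinearMap.comp_apply, LinearMap.lTensor_comp_rTensor,
        LinearMap.rTensor_comp_lTensor]
    rw [e, hζ, ← LinearMap.comp_apply, ← rTensor_comp, hπj, rTensor_zero, LinearMap.zero_apply]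
  have h1 : rTensor N 𝔠'.mkQ ξ = 0 :=
    lTensor_injective_of_residue u h (𝔟 ⧸ 𝔠') (by rw [h0, map_zero])
  have hex : Function.Exact (rTensor N 𝔠'.subtype) (rTensor N 𝔠'.mkQ) :=
    rTensor_exact N (LinearMap.exact_subtype_mkQ 𝔠') (Submodule.mkQ_surjective 𝔠')
  have hfin : ∀ ξ' : 𝔠' ⊗[R] N,
      mulMap 𝔟 N (rTensor N 𝔠'.subtype ξ') ∈ 𝔠 • (⊤ : Submodule R N) := by
    intro ξ'
    induction ξ' using TensorProduct.induction_on with
    | zero => rw [map_zero, map_zero]; exact zero_mem _
    | tmul c n =>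
      rw [rTensor_tmul, mulMap_tmul]
      exact Submodule.smul_mem_smul c.2 Submodule.mem_top
    | add a b ha hb => rw [map_add, map_add]; exact add_mem ha hb
  obtain ⟨ξ', rfl⟩ := (hex ξ).mp h1
  exact hfin ξ'

end residue

section main

/-- injectivity modulo every ideal. -/
theorem mem_smul_top_of_map_mem {R N M : Type u} (S : Type u) [CommRing R] [CommRing S]
    [IsLocalRing R] [IsLocalRing S]
    [IsNoetherianRing S] [Algebra R S] [IsLocalHom (algebraMap R S)]
    [AddCommGroup M] [Module R M] [Module.Flat R M]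
    [AddCommGroup N] [Module R N] [Module S N] [IsScalarTower R S N] [Module.Finite S N]
    (u : N →ₗ[R] M)
    (h : Function.Injective (lTensor (IsLocalRing.ResidueField R) u)) (𝔞 : Ideal R) (x : N)
    (hx : u x ∈ 𝔞 • (⊤ : Submodule R M)) : x ∈ 𝔞 • (⊤ : Submodule R N) := by
  have claim : ∀ n : ℕ, ∀ x : N, u x ∈ (𝔞 ⊔ IsLocalRing.maximalIdeal R ^ n) • (⊤ : Submodule R M) →
      x ∈ (𝔞 ⊔ IsLocalRing.maximalIdeal R ^ n) • (⊤ : Submodule R N) := by
    intro n
    induction n with
    | zero =>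
      intro x _
      rw [pow_zero, Ideal.one_eq_top, sup_top_eq, Submodule.top_smul]
      trivial
    | succ n ih =>
      intro x hx
      have hle : 𝔞 ⊔ IsLocalRing.maximalIdeal R ^ (n + 1) ≤ 𝔞 ⊔ IsLocalRing.maximalIdeal R ^ n :=
        sup_le_sup_left (Ideal.pow_le_pow_right (Nat.le_succ n)) _
      have hx1 := ih x (Submodule.smul_mono hle le_rfl hx)
      refine step_smul_top u h _ _ hle ?_ x hx1 hx
      rw [Ideal.mul_sup]
      exact sup_le_sup Ideal.mul_le_right (le_of_eq (pow_succ' _ _).symm)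
  let P : Submodule S N :=
    { carrier := (𝔞 • ⊤ : Submodule R N)
      add_mem' := fun ha hb => add_mem ha hb
      zero_mem' := zero_mem _
      smul_mem' := fun s y hy => by
        refine Submodule.smul_induction_on hy (fun r hr t _ => ?_) (fun a b ha hb => ?_)
        · rw [smul_comm s r t]
          exact Submodule.smul_mem_smul hr Submodule.mem_top
        · rw [smul_add]
          exact add_mem ha hb }
  have hloc : (IsLocalRing.maximalIdeal R).map (algebraMap R S) ≤ IsLocalRing.maximalIdeal S :=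
    ((IsLocalRing.local_hom_TFAE (algebraMap R S)).out 0 2).mp ‹IsLocalHom (algebraMap R S)›
  have hK := Ideal.iInf_pow_smul_eq_bot_of_le_jacobson (M := N ⧸ P) (IsLocalRing.maximalIdeal S)
    (le_of_eq (IsLocalRing.jacobson_eq_maximalIdeal ⊥ bot_ne_top).symm)
  have hmem : ∀ n : ℕ, P.mkQ x ∈ (IsLocalRing.maximalIdeal S ^ n • ⊤ : Submodule S (N ⧸ P)) := by
    intro n
    have h1 := claim n x (Submodule.smul_mono le_sup_left le_rfl hx)
    rw [Submodule.sup_smul] at h1
    obtain ⟨y, hy, z, hz, rfl⟩ := Submodule.mem_sup.mp h1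
    rw [map_add]
    have hy0 : P.mkQ y = 0 := by
      rw [Submodule.mkQ_apply, Submodule.Quotient.mk_eq_zero]
      exact hy
    rw [hy0, zero_add]
    have hz' : z ∈ (((IsLocalRing.maximalIdeal R).map (algebraMap R S)) ^ n • ⊤ :
        Submodule S N) := mem_map_smul_top_of_mem_smul_top _ n hz
    have hz'' : z ∈ (IsLocalRing.maximalIdeal S ^ n • ⊤ : Submodule S N) :=
      Submodule.smul_mono (Ideal.pow_right_mono hloc n) le_rfl hz'
    exact map_mem_smul_top (IsLocalRing.maximalIdeal S ^ n) P.mkQ hz''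
  have h0 : P.mkQ x = 0 := by
    have h3 : P.mkQ x ∈ (⨅ i : ℕ, IsLocalRing.maximalIdeal S ^ i • ⊤ : Submodule S (N ⧸ P)) := by
      rw [Submodule.mem_iInf]; exact hmem
    rw [hK] at h3
    exact (Submodule.mem_bot S).mp h3
  exact (Submodule.Quotient.mk_eq_zero P).mp h0

/-- EGA 0_III 10.2.4 / Matsumura 22.5. -/
theorem injective_and_flat_coker {R N M : Type u} (S : Type u) [CommRing R] [CommRing S]
    [IsLocalRing R] [IsLocalRing S]
    [IsNoetherianRing S] [Algebra R S] [IsLocalHom (algebraMap R S)]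
    [AddCommGroup M] [Module R M] [Module.Flat R M]
    [AddCommGroup N] [Module R N] [Module S N] [IsScalarTower R S N] [Module.Finite S N]
    (u : N →ₗ[R] M)
    (h : Function.Injective (lTensor (IsLocalRing.ResidueField R) u)) :
    Function.Injective u ∧ Module.Flat R (M ⧸ LinearMap.range u) := by
  have hinj : Function.Injective u := by
    rw [injective_iff_map_eq_zero]
    intro x hx
    have h1 := mem_smul_top_of_map_mem S u h ⊥ x (by rw [hx]; exact zero_mem _)
    rwa [Submodule.bot_smul, Submodule.mem_bot] at h1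
  refine ⟨hinj, ?_⟩
  rw [Module.Flat.iff_rTensor_injective']
  intro 𝔞
  rw [injective_iff_map_eq_zero]
  intro z hz
  obtain ⟨y, rfl⟩ := LinearMap.lTensor_surjective 𝔞 (Submodule.mkQ_surjective (range u)) z
  have h1 : (range u).mkQ (mulMap 𝔞 M y) = 0 := by
    have e : (range u).mkQ (mulMap 𝔞 M y) = mulMap 𝔞 (M ⧸ range u) (lTensor 𝔞 (range u).mkQ y) :=
      (mulMap_lTensor 𝔞 (range u).mkQ y).symm
    rw [e, mulMap, LinearMap.comp_apply, hz, map_zero]
  have h2 : mulMap 𝔞 M y ∈ range u := by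
    rwa [Submodule.mkQ_apply, Submodule.Quotient.mk_eq_zero] at h1
  obtain ⟨n, hn⟩ := h2
  have h3 : n ∈ 𝔞 • (⊤ : Submodule R N) :=
    mem_smul_top_of_map_mem S u h 𝔞 n (by rw [hn]; exact (mem_smul_top_iff 𝔞 _).mpr ⟨y, rfl⟩)
  obtain ⟨w, rfl⟩ := (mem_smul_top_iff 𝔞 _).mp h3
  have h4 : y = lTensor 𝔞 u w := by
    apply mulMap_injective_of_flat 𝔞 M
    rw [mulMap_lTensor, hn]
  rw [h4, ← LinearMap.comp_apply, ← lTensor_comp, LinearMap.range_mkQ_comp, lTensor_zero,
    LinearMap.zero_apply]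

end main

end Groth.Agent.H57
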