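import Groth.Agent.H48.FlatLimitMod2

/-! Kernels of surjections onto finitely presented modules which are flat over the base are
finitely presented (EGA IV 11.3.9.1 flavour), via Noetherian approximation (helper57). -/

set_option autoImplicit false

universe u

open TensorProduct

namespace Groth.Agent.H57.FPKer

/-- The kernel of a surjection of flat modules is flat. -/
theorem flat_ker_of_surjective {A F M : Type u} [CommRing A] [AddCommGroup F] [Module A F]
    [AddCommGroup M] [Module A M] [Module.Flat A F] [Module.Flat A M] (π : F →ₗ[A] M)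
    (hπ : Function.Surjective π) : Module.Flat A (LinearMap.ker π) := by
  rw [Module.Flat.iff_rTensor_preserves_injective_linearMap]
  intro X Y _ _ _ _ v hv
  have h1 : Function.Injective ((LinearMap.ker π).subtype.lTensor X) :=
    LinearMap.lTensor_injective_of_exact_of_flat π hπ _ (LinearMap.ker π).injective_subtype
      (LinearMap.exact_subtype_ker_map π) X
  have h2 : Function.Injective (v.rTensor F) :=
    Module.Flat.rTensor_preserves_injective_linearMap v hv
  have hcomm : ∀ z, (LinearMap.ker π).subtype.lTensor Y (v.rTensor (LinearMap.ker π) z) =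
      v.rTensor F ((LinearMap.ker π).subtype.lTensor X z) := by
    intro z
    induction z using TensorProduct.induction_on with
    | zero => simp
    | tmul x k => simp
    | add a b ha hb => simp only [map_add, ha, hb]
  intro z₁ z₂ h
  apply h1
  apply h2
  rw [← hcomm, ← hcomm, h]

section Model

variable {R₀ R S₀ S M₀ M : Type u} [CommRing R₀] [CommRing R] [CommRing S₀] [CommRing S]
  [Algebra R₀ R] [Algebra R₀ S₀] [Algebra S₀ S] [Algebra R₀ S] [Algebra R S]
  [IsScalarTower R₀ R S] [IsScalarTower R₀ S₀ S]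
  [AddCommGroup M₀] [Module S₀ M₀] [Module R₀ M₀] [IsScalarTower R₀ S₀ M₀]
  [AddCommGroup M] [Module S M] [Module S₀ M] [IsScalarTower S₀ S M]

/-- Base change of the kernel inclusion stays injective when the cokernel is flat over `R₀`. -/
theorem lTensor_subtype_injective [Module.Flat R₀ M₀] [Algebra.IsPushout R₀ R S₀ S] {n : ℕ}
    (π₀ : (Fin n → S₀) →ₗ[S₀] M₀) (hπ₀ : Function.Surjective π₀) :
    Function.Injective ((LinearMap.ker π₀).subtype.lTensor S) := by
  have h1 : Function.Injective (((LinearMap.ker π₀).subtype.restrictScalars R₀).lTensor R) :=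
    LinearMap.lTensor_injective_of_exact_of_flat (R := R₀) (π₀.restrictScalars R₀) hπ₀
      ((LinearMap.ker π₀).subtype.restrictScalars R₀) (LinearMap.ker π₀).injective_subtype
      (LinearMap.exact_subtype_ker_map π₀) R
  have hnat : ∀ z : R ⊗[R₀] (LinearMap.ker π₀),
      (LinearMap.ker π₀).subtype.lTensor S
        ((Algebra.IsPushout.cancelBaseChange R₀ R S₀ S (LinearMap.ker π₀)).symm z) =
      (Algebra.IsPushout.cancelBaseChange R₀ R S₀ S (Fin n → S₀)).symm
        (((LinearMap.ker π₀).subtype.restrictScalars R₀).lTensor R z) := by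
    intro z
    induction z using TensorProduct.induction_on with
    | zero => simp
    | tmul r k =>
      rw [Algebra.IsPushout.cancelBaseChange_symm_tmul, LinearMap.lTensor_tmul,
        LinearMap.lTensor_tmul, Algebra.IsPushout.cancelBaseChange_symm_tmul]
      rfl
    | add a b ha hb => simp only [map_add, ha, hb]
  intro z₁ z₂ h
  obtain ⟨w₁, rfl⟩ :=
    (Algebra.IsPushout.cancelBaseChange R₀ R S₀ S (LinearMap.ker π₀)).symm.surjective z₁
  obtain ⟨w₂, rfl⟩ :=
    (Algebra.IsPushout.cancelBaseChange R₀ R S₀ S (LinearMap.ker π₀)).symm.surjective z₂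
  rw [hnat, hnat] at h
  rw [h1 ((Algebra.IsPushout.cancelBaseChange R₀ R S₀ S (Fin n → S₀)).symm.injective h)]

/-- From a Noetherian model with flat module: a finite free cover with finitely presented
kernel. -/
theorem exists_surjective_ker_fp_of_model [IsNoetherianRing S₀] [Module.Finite S₀ M₀]
    [Module.Flat R₀ M₀] [Algebra.IsPushout R₀ R S₀ S] (f : M₀ →ₗ[S₀] M) (hf : IsBaseChange S f) :
    ∃ (n : ℕ) (π : (Fin n → S) →ₗ[S] M), Function.Surjective π ∧
      Module.FinitePresentation S (LinearMap.ker π) := by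
  obtain ⟨n, π₀, hπ₀⟩ := Module.Finite.exists_fin' S₀ M₀
  haveI : Module.FinitePresentation S₀ (LinearMap.ker π₀) :=
    Module.finitePresentation_of_finite S₀ _
  let c : (Fin n → S₀) →ₗ[S₀] (Fin n → S) := (Algebra.linearMap S₀ S).compLeft (Fin n)
  have hc : IsBaseChange S c := IsBaseChange.finitePow (Fin n) (IsBaseChange.linearMap S₀ S)
  let π : (Fin n → S) →ₗ[S] M := hc.lift (f ∘ₗ π₀)
  have hπc : ∀ v, π (c v) = f (π₀ v) := fun v => hc.lift_eq _ v
  have hsurj : Function.Surjective π := by
    intro m
    induction m using hf.inductionOn with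
    | zero => exact ⟨0, map_zero _⟩
    | tmul m₀ =>
      obtain ⟨v, rfl⟩ := hπ₀ m₀
      exact ⟨c v, hπc v⟩
    | smul s m ih =>
      obtain ⟨v, rfl⟩ := ih
      exact ⟨s • v, map_smul _ _ _⟩
    | add m₁ m₂ h₁ h₂ =>
      obtain ⟨v₁, rfl⟩ := h₁
      obtain ⟨v₂, rfl⟩ := h₂
      exact ⟨v₁ + v₂, map_add _ _ _⟩
  refine ⟨n, π, hsurj, ?_⟩
  let ψ : S ⊗[S₀] (LinearMap.ker π₀) →ₗ[S] (Fin n → S) :=
    hc.equiv.toLinearMap ∘ₗ ((LinearMap.ker π₀).subtype.baseChange S)
  have hψ_apply : ∀ z, ψ z = hc.equiv ((LinearMap.ker π₀).subtype.lTensor S z) := fun z => rfl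
  have hψ_inj : Function.Injective ψ := by
    intro z₁ z₂ h
    rw [hψ_apply, hψ_apply] at h
    exact lTensor_subtype_injective (R₀ := R₀) (R := R) π₀ hπ₀ (hc.equiv.injective h)
  have hcompat : ∀ w : S ⊗[S₀] (Fin n → S₀), π (hc.equiv w) = hf.equiv (π₀.lTensor S w) := by
    intro w
    induction w using TensorProduct.induction_on with
    | zero => simp
    | tmul s x =>
      rw [hc.equiv_tmul, map_smul, hπc, LinearMap.lTensor_tmul, hf.equiv_tmul]
    | add a b ha hb => simp only [map_add, ha, hb]
  have hex : Function.Exact ((LinearMap.ker π₀).subtype.lTensor S) (π₀.lTensor S) :=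
    lTensor_exact S (LinearMap.exact_subtype_ker_map π₀) hπ₀
  have hrange : ∀ v, v ∈ LinearMap.ker π ↔ ∃ z, ψ z = v := by
    intro v
    constructor
    · intro hv
      obtain ⟨w, rfl⟩ := hc.equiv.surjective v
      have h0 : π₀.lTensor S w = 0 := by
        apply hf.equiv.injective
        rw [← hcompat, map_zero]
        exact hv
      obtain ⟨z, rfl⟩ := (hex w).mp h0
      exact ⟨z, rfl⟩
    · rintro ⟨z, rfl⟩
      rw [LinearMap.mem_ker, hψ_apply, hcompat, hex.apply_apply_eq_zero, map_zero]
  let e : S ⊗[S₀] (LinearMap.ker π₀) ≃ₗ[S] LinearMap.ker π :=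
    LinearEquiv.ofBijective (ψ.codRestrict (LinearMap.ker π) (fun z => (hrange _).mpr ⟨z, rfl⟩))
      ⟨fun z₁ z₂ h => hψ_inj (by
        have h' := Subtype.ext_iff.mp h
        exact h'), fun ⟨v, hv⟩ => by
        obtain ⟨z, hz⟩ := (hrange v).mp hv
        exact ⟨z, Subtype.ext hz⟩⟩
  exact Module.FinitePresentation.of_equiv e

end Model

/-- **Finite free cover with finitely presented, flat kernel.** `B` a finitely presented
`A`-algebra, `M` a finitely presented `B`-module flat over `A`: some surjection `B^n → M` has a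
finitely presented kernel (which is `A`-flat as soon as `B` is). -/
theorem exists_surjective_ker_fp (A B M : Type u) [CommRing A] [CommRing B] [Algebra A B]
    [Algebra.FinitePresentation A B] [AddCommGroup M] [Module B M] [Module A M]
    [IsScalarTower A B M] [Module.FinitePresentation B M] [Module.Flat A M] :
    ∃ (n : ℕ) (π : (Fin n → B) →ₗ[B] M), Function.Surjective π ∧
      Module.FinitePresentation B (LinearMap.ker π) := by
  obtain ⟨R₀, _, _, S₀, _, _, _, _, _, _, M₀, _, _, _, _, _, _, f, hR₀, hS₀, hM₀, hfl, hpo, hbc⟩ :=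
    Groth.Agent.H48.FlatLimit.exists_int_model_flat_module A B M
  haveI : IsNoetherianRing R₀ := Algebra.FiniteType.isNoetherianRing ℤ R₀
  haveI : IsNoetherianRing S₀ := Algebra.FiniteType.isNoetherianRing R₀ S₀
  exact exists_surjective_ker_fp_of_model (R₀ := R₀) (R := A) f hbc

/-- Flatness of the kernel over the base. -/
theorem flat_ker {A B M : Type u} [CommRing A] [CommRing B] [Algebra A B] [Module.Flat A B]
    [AddCommGroup M] [Module B M] [Module A M] [IsScalarTower A B M] [Module.Flat A M] {n : ℕ}
    (π : (Fin n → B) →ₗ[B] M) (hπ : Function.Surjective π) :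
    Module.Flat A (LinearMap.ker π) := by
  haveI : Module.Flat A (Fin n → B) := Module.Flat.trans A B (Fin n → B)
  haveI : Module.Flat A (LinearMap.ker (π.restrictScalars A)) :=
    flat_ker_of_surjective (π.restrictScalars A) hπ
  let e : ↥(LinearMap.ker (π.restrictScalars A)) ≃ₗ[A] ↥(LinearMap.ker π) :=
    { toFun := fun x => ⟨x.1, x.2⟩
      invFun := fun x => ⟨x.1, x.2⟩
      map_add' := fun _ _ => rfl
      map_smul' := fun _ _ => rfl
      left_inv := fun _ => rfl
      right_inv := fun _ => rfl }
  exact Module.Flat.of_linearEquiv e.symm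

end Groth.Agent.H57.FPKer
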