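import Mathlib
import Groth.Agent.H49.FibreCritFib
import Groth.Agent.H8.PullbackStalk

/-!
# Flatness of the pullback to a fibre over the fibre of the base, in terms of the stalk

Module version of `Groth.Agent.H49.FibreCrit.flat_iff_quot_flat` /
`critere_at_fibre_point`: for `f : X ⟶ Y`, `g : Y ⟶ S`, `s : S`, a point `y'` of the fibre
`X_s` with image `x` in `X` and a quasi-coherent `F` on `X`, the pullback `F_s` of `F` to `X_s` is
flat over `Y_s` at `y'` (relative to the morphism of fibres `f_s`) iff `F_x / m_s F_x` is flat over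
`O_{Y,f(x)} / m_s O_{Y,f(x)}`.
-/

set_option autoImplicit false
set_option linter.style.haveILetI false

universe u

open AlgebraicGeometry CategoryTheory Limits TensorProduct

namespace Groth.Agent.H57.FibCmp

/-- For a surjective algebra map `C → E`, `1 ⊗ m = 0` in `E ⊗[C] M` iff `m ∈ (ker) • M`. -/
theorem one_tmul_eq_zero_iff {C E M : Type u} [CommRing C] [CommRing E] [Algebra C E]
    (hs : Function.Surjective (algebraMap C E)) [AddCommGroup M] [Module C M] (m : M) :
    (1 : E) ⊗ₜ[C] m = 0 ↔ m ∈ (RingHom.ker (algebraMap C E)) • (⊤ : Submodule C M) := by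
  have hs' : Function.Surjective (Algebra.ofId C E) := hs
  let ψ := Ideal.quotientKerAlgEquivOfSurjective hs'
  have hKeq : RingHom.ker (Algebra.ofId C E) = RingHom.ker (algebraMap C E) := by
    ext x
    rw [RingHom.mem_ker, RingHom.mem_ker]
    rfl
  rw [← hKeq]
  let T : E ⊗[C] M ≃ₗ[C] (M ⧸ (RingHom.ker (Algebra.ofId C E)) • (⊤ : Submodule C M)) :=
    (TensorProduct.congr ψ.symm.toLinearEquiv (LinearEquiv.refl C M)) ≪≫ₗ
      TensorProduct.quotTensorEquivQuotSMul M (RingHom.ker (Algebra.ofId C E))
  have hT : T ((1 : E) ⊗ₜ[C] m) = Submodule.Quotient.mk m := by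
    change TensorProduct.quotTensorEquivQuotSMul M (RingHom.ker (Algebra.ofId C E))
      ((ψ.symm 1) ⊗ₜ[C] m) = _
    rw [map_one]
    exact TensorProduct.quotTensorEquivQuotSMul_mk_one_tmul _ m
  rw [← T.map_eq_zero_iff, hT, Submodule.Quotient.mk_eq_zero]

/-- For a surjective algebra map `C → E`, every element of `E ⊗[C] M` is of the form `1 ⊗ m`. -/
theorem exists_one_tmul {C E M : Type u} [CommRing C] [CommRing E] [Algebra C E]
    (hs : Function.Surjective (algebraMap C E)) [AddCommGroup M] [Module C M] (t : E ⊗[C] M) :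
    ∃ m : M, (1 : E) ⊗ₜ[C] m = t := by
  induction t using TensorProduct.induction_on with
  | zero => exact ⟨0, TensorProduct.tmul_zero _ _⟩
  | tmul e m =>
    obtain ⟨c, rfl⟩ := hs e
    refine ⟨c • m, ?_⟩
    rw [TensorProduct.tmul_smul, TensorProduct.smul_tmul', Algebra.smul_def, mul_one]
  | add x y hx hy =>
    obtain ⟨a, rfl⟩ := hx
    obtain ⟨b, rfl⟩ := hy
    exact ⟨a + b, TensorProduct.tmul_add _ _ _⟩

/-- Module version of `flat_iff_quot_flat`: for a commutative square of rings with surjective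
vertical maps `πB : B → D` (kernel `I`) and `πC : C → E` (kernel `I C`), a `C`-module `M` and an
`E`-module `N ≅ E ⊗[C] M`, `N` is flat over `D` iff `M / I M` is flat over `B / I`. -/
theorem flat_iff_quot_flat_module {B C D E : Type u} [CommRing B] [CommRing C] [CommRing D]
    [CommRing E]
    (β : B →+* C) (πB : B →+* D) (πC : C →+* E) (φ : D →+* E)
    (hπB : Function.Surjective πB) (hπC : Function.Surjective πC)
    (hcomm : φ.comp πB = πC.comp β) (I : Ideal B) (hI : RingHom.ker πB = I)
    (hker : RingHom.ker πC = I.map β)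
    {M N : Type u} [AddCommGroup M] [Module C M] [AddCommGroup N] [Module E N]
    (e : letI := πC.toAlgebra; N ≃ₗ[E] E ⊗[C] M) :
    (letI : Module D N := Module.compHom N φ; Module.Flat D N) ↔
    (letI : Module B M := Module.compHom M β;
      Module.Flat (B ⧸ I) (M ⧸ I • (⊤ : Submodule B M))) := by
  subst hI
  letI : Algebra C E := πC.toAlgebra
  letI : Module B M := Module.compHom M β
  letI : Module D N := Module.compHom N φ
  set I := RingHom.ker πB with hIdef
  have hP : ∀ c ∈ I.map β, ∀ n : M, c • n ∈ I • (⊤ : Submodule B M) := by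
    intro c hc
    refine Submodule.span_induction
      (p := fun c _ => ∀ n : M, c • n ∈ I • (⊤ : Submodule B M)) ?_ ?_ ?_ ?_ hc
    · rintro _ ⟨r, hr, rfl⟩ n
      have h1 : β r • n = r • n := rfl
      rw [h1]
      exact Submodule.smul_mem_smul hr trivial
    · intro n
      rw [zero_smul]
      exact zero_mem _
    · intro x y _ _ hx hy n
      rw [add_smul]
      exact add_mem (hx n) (hy n)
    · intro a x _ hx n
      rw [smul_eq_mul, mul_comm, mul_smul]
      exact hx (a • n)
  have hmem : ∀ m : M, m ∈ I • (⊤ : Submodule B M) ↔ m ∈ (I.map β) • (⊤ : Submodule C M) := by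
    intro m
    constructor
    · intro hm
      refine Submodule.smul_induction_on hm ?_ ?_
      · intro r hr n _
        have h1 : r • n = β r • n := rfl
        rw [h1]
        exact Submodule.smul_mem_smul (Ideal.mem_map_of_mem β hr) trivial
      · intro x y hx hy
        exact add_mem hx hy
    · intro hm
      refine Submodule.smul_induction_on hm ?_ ?_
      · intro c hc n _
        exact hP c hc n
      · intro x y hx hy
        exact add_mem hx hy
  -- the map `M → N`
  letI : Module C N := Module.compHom N πC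
  haveI : IsScalarTower C E N := IsScalarTower.of_algebraMap_smul fun r m => rfl
  let q₀ : M →ₗ[C] N := (e.symm.toLinearMap.restrictScalars C) ∘ₗ (TensorProduct.mk C E M 1)
  have hq₀ : ∀ m, q₀ m = e.symm ((1 : E) ⊗ₜ[C] m) := fun m => rfl
  have hsurj : Function.Surjective q₀ := by
    intro n
    obtain ⟨m, hm⟩ := exists_one_tmul hπC (e n)
    exact ⟨m, by rw [hq₀, hm, LinearEquiv.symm_apply_apply]⟩
  have hker0 : ∀ m, q₀ m = 0 ↔ m ∈ I • (⊤ : Submodule B M) := by
    intro m
    rw [hq₀, LinearEquiv.map_eq_zero_iff, one_tmul_eq_zero_iff hπC, hmem]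
    have h1 : RingHom.ker (algebraMap C E) = I.map β := hker
    rw [h1]
  -- module structures on `N`
  let eD : B ⧸ I ≃+* D := RingHom.quotientKerEquivOfSurjective hπB
  letI : Algebra (B ⧸ I) D := eD.toRingHom.toAlgebra
  have heD : Function.Bijective (algebraMap (B ⧸ I) D) := eD.bijective
  letI : Module (B ⧸ I) N := Module.compHom N (algebraMap (B ⧸ I) D)
  haveI : IsScalarTower (B ⧸ I) D N := IsScalarTower.of_algebraMap_smul fun r m => rfl
  letI : Module B N := Module.compHom N (πC.comp β)
  haveI : IsScalarTower B (B ⧸ I) N := by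
    refine IsScalarTower.of_algebraMap_smul fun r m => ?_
    change φ (eD (Ideal.Quotient.mk I r)) • m = πC (β r) • m
    have h1 : eD (Ideal.Quotient.mk I r) = πB r := rfl
    rw [h1]
    have h2 : φ (πB r) = πC (β r) := RingHom.congr_fun hcomm r
    rw [h2]
  haveI : IsScalarTower B (B ⧸ I) (M ⧸ I • (⊤ : Submodule B M)) :=
    (Module.isTorsionBySet_quotient_ideal_smul M I).isScalarTower
  let q₀B : M →ₗ[B] N :=
    { toFun := q₀
      map_add' := map_add q₀
      map_smul' := fun r m => by
        change q₀ (β r • m) = πC (β r) • q₀ m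
        rw [q₀.map_smul]
        rfl }
  let Φ₀ : (M ⧸ I • (⊤ : Submodule B M)) →ₗ[B] N :=
    Submodule.liftQ _ q₀B (by
      intro m hm
      rw [LinearMap.mem_ker]
      change q₀ m = 0
      exact (hker0 m).mpr hm)
  have hΦ₀ : Function.Bijective Φ₀ := by
    constructor
    · rw [← LinearMap.ker_eq_bot, Submodule.ker_liftQ_eq_bot']
      apply le_antisymm
      · intro m hm
        rw [LinearMap.mem_ker]
        change q₀ m = 0
        exact (hker0 m).mpr hm
      · intro m hm
        rw [LinearMap.mem_ker] at hm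
        change q₀ m = 0 at hm
        exact (hker0 m).mp hm
    · intro y
      obtain ⟨c, rfl⟩ := hsurj y
      exact ⟨Submodule.Quotient.mk c, rfl⟩
  let Φ : (M ⧸ I • (⊤ : Submodule B M)) ≃ₗ[B ⧸ I] N :=
    (LinearEquiv.ofBijective Φ₀ hΦ₀).extendScalarsOfSurjective Ideal.Quotient.mk_surjective
  change Module.Flat D N ↔ _
  rw [Groth.Agent.H49.FibreCrit.flat_iff_of_bijective (A₁ := B ⧸ I) (A₂ := D) (N := N) heD]
  exact ⟨fun h => Module.Flat.of_linearEquiv Φ, fun h => Module.Flat.of_linearEquiv Φ.symm⟩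

variable {X Y S : Scheme.{u}}

open Groth.Agent.H49.FibreCrit in
set_option maxHeartbeats 1600000 in
/-- **Flatness of the pullback to the fibre, relative to the morphism of fibres.** For a point `y'`
of the fibre `X_s` with image `x` in `X`, the pullback of `F` to `X_s` is flat over `Y_s` at `y'`
(relative to `f_s : X_s ⟶ Y_s`) iff `F_x / m_s F_x` is flat over `O_{Y,f x} / m_s O_{Y,f x}`. -/
theorem isFlatOverAt_fiberMap_iff (f : X ⟶ Y) (g : Y ⟶ S) (F : X.Modules) [F.IsQuasicoherent]
    (s : S) (y' : ((f ≫ g).fiber s : Scheme.{u})) (x : X) (hx : ((f ≫ g).fiberι s) y' = x) :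
    FlatMod.IsFlatOverAt (MoreMor.fiberMap f g s)
        ((Scheme.Modules.pullback ((f ≫ g).fiberι s)).obj F) y' ↔
    (letI := FlatMod.moduleStalkOver f F x;
      Module.Flat (↑(Y.presheaf.stalk (f x)) ⧸ Ideal.map (g.stalkMap (f x)).hom
          (IsLocalRing.maximalIdeal ↑(S.presheaf.stalk (g (f x)))))
        (↑(F.presheaf.stalk x) ⧸ (Ideal.map (g.stalkMap (f x)).hom
          (IsLocalRing.maximalIdeal ↑(S.presheaf.stalk (g (f x)))) •
          (⊤ : Submodule ↑(Y.presheaf.stalk (f x)) ↑(F.presheaf.stalk x))))) := by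
  subst hx
  have hsq : MoreMor.fiberMap f g s ≫ g.fiberι s = (f ≫ g).fiberι s ≫ f :=
    pullback.lift_fst _ _ _
  have E1 := Scheme.Hom.stalkMap_comp (MoreMor.fiberMap f g s) (g.fiberι s) y'
  have E2 := Scheme.Hom.stalkMap_comp ((f ≫ g).fiberι s) f y'
  have E3 := Scheme.Hom.stalkMap_congr_hom ((f ≫ g).fiberι s ≫ f)
    (MoreMor.fiberMap f g s ≫ g.fiberι s) hsq.symm y'
  have hpt : f (((f ≫ g).fiberι s) y') = (g.fiberι s) ((MoreMor.fiberMap f g s) y') := by
    have := congr(($hsq) y')
    exact this.symm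
  have hXfib := Groth.Agent.H9.stalkMap_fiberι_surjective_and_ker_eq (f ≫ g) s y'
  have hYfib := Groth.Agent.H9.stalkMap_fiberι_surjective_and_ker_eq g s
    ((MoreMor.fiberMap f g s) y')
  -- the four ring maps
  let β := (f.stalkMap (((f ≫ g).fiberι s) y')).hom
  let πC := (((f ≫ g).fiberι s).stalkMap y').hom
  let e := Y.presheaf.stalkCongr (Inseparable.of_eq hpt)
  let πB := ((g.fiberι s).stalkMap ((MoreMor.fiberMap f g s) y')).hom.comp e.hom.hom
  let φ := ((MoreMor.fiberMap f g s).stalkMap y').hom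
  have hπC : Function.Surjective πC := hXfib.1
  have hπB : Function.Surjective πB :=
    hYfib.1.comp e.commRingCatIsoToRingEquiv.surjective
  have hcomm : φ.comp πB = πC.comp β := by
    have h := E3
    rw [E1, E2] at h
    refine RingHom.ext fun b => ?_
    have h' := congrArg (fun k => k.hom b) h
    exact h'.symm
  have K1 : RingHom.ker πB = Ideal.map (g.stalkMap (f (((f ≫ g).fiberι s) y'))).hom
      (IsLocalRing.maximalIdeal (S.presheaf.stalk (g (f (((f ≫ g).fiberι s) y'))))) := by
    change RingHom.ker (((g.fiberι s).stalkMap ((MoreMor.fiberMap f g s) y')).hom.comp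
      e.hom.hom) = _
    rw [← RingHom.comap_ker, hYfib.2]
    exact comap_stalkCongr_map_maximalIdeal g hpt
  have K2 : RingHom.ker πC = (Ideal.map (g.stalkMap (f (((f ≫ g).fiberι s) y'))).hom
      (IsLocalRing.maximalIdeal (S.presheaf.stalk (g (f (((f ≫ g).fiberι s) y')))))).map β := by
    rw [Ideal.map_map, hXfib.2, stalkMap_comp_hom']
    rfl
  obtain ⟨E⟩ := Groth.Agent.H8.nonempty_stalk_pullback_equiv ((f ≫ g).fiberι s) F y'
  exact flat_iff_quot_flat_module β πB πC φ hπB hπC hcomm _ K1 K2 E

end Groth.Agent.H57.FibCmp
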