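import Mathlib
import Groth.Agent.H57.GenFlatSch
import Groth.Agent.H8.QCohStalk
import Groth.Prelude.Def_FlatMod2

/-! Flatness of a quasi-coherent module over the base at a point, in terms of sections over
affine opens (helper57). -/

set_option autoImplicit false
set_option linter.style.haveILetI false

universe u

open TensorProduct CategoryTheory AlgebraicGeometry TopologicalSpace

namespace Groth.Agent.H57

section Sch

variable {X Y : Scheme.{u}} (f : X ⟶ Y) (F : X.Modules) [F.IsQuasicoherent]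

/-- `F` is `f`-flat at `y ∈ W` iff the localization of `Γ(F, W)` at the prime of `y` is flat over
`Γ(Y, V)`. -/
theorem isFlatOverAt_iff_flat_localizedModule {V : Y.Opens} {W : X.Opens} (hV : IsAffineOpen V)
    (hW : IsAffineOpen W) (hWV : W ≤ f ⁻¹ᵁ V) (y : X) (hyW : y ∈ W) :
    letI : Algebra Γ(Y, V) Γ(X, W) := (f.appLE V W hWV).hom.toAlgebra
    letI : Module Γ(Y, V) Γ(F, W) := Module.compHom _ (f.appLE V W hWV).hom
    haveI : IsScalarTower Γ(Y, V) Γ(X, W) Γ(F, W) :=
      IsScalarTower.of_algebraMap_smul fun r m => rfl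
    FlatMod.IsFlatOverAt f F y ↔
      Module.Flat Γ(Y, V)
        (LocalizedModule (hW.primeIdealOf ⟨y, hyW⟩).asIdeal.primeCompl Γ(F, W)) := by
  letI : Algebra Γ(Y, V) Γ(X, W) := (f.appLE V W hWV).hom.toAlgebra
  letI : Module Γ(Y, V) Γ(F, W) := Module.compHom _ (f.appLE V W hWV).hom
  haveI : IsScalarTower Γ(Y, V) Γ(X, W) Γ(F, W) :=
    IsScalarTower.of_algebraMap_smul fun r m => rfl
  have hyV : f y ∈ V := hWV hyW
  letI : Module Γ(X, W) (F.presheaf.stalk y) := Groth.Agent.H8.moduleSectionStalk F y hyW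
  letI : Module Γ(Y, V) (F.presheaf.stalk y) := Module.compHom _ (f.appLE V W hWV).hom
  haveI : IsScalarTower Γ(Y, V) Γ(X, W) (F.presheaf.stalk y) :=
    IsScalarTower.of_algebraMap_smul fun r m => rfl
  haveI := Groth.Agent.H8.isLocalizedModule_germₗ F hW y hyW
  letI : Algebra Γ(Y, V) (Y.presheaf.stalk (f y)) :=
    Y.presheaf.algebra_section_stalk ⟨f y, hyV⟩
  haveI := hV.isLocalization_stalk ⟨f y, hyV⟩
  letI : Module (Y.presheaf.stalk (f y)) (F.presheaf.stalk y) := FlatMod.moduleStalkOver f F y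
  haveI : IsScalarTower Γ(Y, V) (Y.presheaf.stalk (f y)) (F.presheaf.stalk y) :=
    IsScalarTower.of_algebraMap_smul fun r m => by
      change (f.stalkMap y).hom (Y.presheaf.germ V (f y) hyV r) • m =
        X.presheaf.germ W y hyW ((f.appLE V W hWV).hom r) • m
      rw [Groth.Agent.H57.stalkMap_germ_appLE f hWV y hyW r]
  have h1 : FlatMod.IsFlatOverAt f F y ↔ Module.Flat Γ(Y, V) (F.presheaf.stalk y) := by
    change Module.Flat (Y.presheaf.stalk (f y)) (F.presheaf.stalk y) ↔ _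
    exact Module.flat_iff_of_isLocalization (Y.presheaf.stalk (f y))
      (hV.primeIdealOf ⟨f y, hyV⟩).asIdeal.primeCompl _
  rw [h1]
  let e := (IsLocalizedModule.iso (hW.primeIdealOf ⟨y, hyW⟩).asIdeal.primeCompl
    (Groth.Agent.H8.germₗ F y hyW)).restrictScalars Γ(Y, V)
  exact ⟨fun h => Module.Flat.of_linearEquiv e, fun h => Module.Flat.of_linearEquiv e.symm⟩

/-- If `F` is `f`-flat at all points of an affine open `W ⊆ f⁻¹ V`, then `Γ(F, W)` is flat over
`Γ(Y, V)`. -/
theorem flat_sections_of_isFlatOverAt {V : Y.Opens} {W : X.Opens} (hV : IsAffineOpen V)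
    (hW : IsAffineOpen W) (hWV : W ≤ f ⁻¹ᵁ V) (h : ∀ y ∈ W, FlatMod.IsFlatOverAt f F y) :
    letI : Algebra Γ(Y, V) Γ(X, W) := (f.appLE V W hWV).hom.toAlgebra
    letI : Module Γ(Y, V) Γ(F, W) := Module.compHom _ (f.appLE V W hWV).hom
    Module.Flat Γ(Y, V) Γ(F, W) := by
  letI : Algebra Γ(Y, V) Γ(X, W) := (f.appLE V W hWV).hom.toAlgebra
  letI : Module Γ(Y, V) Γ(F, W) := Module.compHom _ (f.appLE V W hWV).hom
  haveI : IsScalarTower Γ(Y, V) Γ(X, W) Γ(F, W) :=
    IsScalarTower.of_algebraMap_smul fun r m => rfl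
  refine Module.flat_of_isLocalized_maximal Γ(X, W) Γ(F, W)
    (fun P _ => LocalizedModule P.primeCompl Γ(F, W))
    (fun P _ => LocalizedModule.mkLinearMap P.primeCompl Γ(F, W)) ?_
  intro P hP
  haveI := hP.isPrime
  have hyW : hW.fromSpec ⟨P, inferInstance⟩ ∈ W := by
    have : hW.fromSpec ⟨P, inferInstance⟩ ∈ Set.range hW.fromSpec := ⟨_, rfl⟩
    rw [hW.range_fromSpec] at this
    exact this
  have hq' : hW.primeIdealOf ⟨hW.fromSpec ⟨P, inferInstance⟩, hyW⟩ = ⟨P, inferInstance⟩ :=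
    hW.fromSpec.isOpenEmbedding.injective (hW.fromSpec_primeIdealOf ⟨_, hyW⟩)
  have key := (isFlatOverAt_iff_flat_localizedModule f F hV hW hWV _ hyW).mp (h _ hyW)
  rw [hq'] at key
  exact key

end Sch

end Groth.Agent.H57
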