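import Mathlib
import Groth.Agent.S1391
import Groth.Agent.H57.FlatSchKey
import Groth.Agent.H8.SectionsExact
import Groth.Agent.H8.PullbackStalk

/-!
# Flatness over the base of a quasi-coherent module: invariance under isomorphism, base change
along an arbitrary cartesian square up to isomorphism (helper57)
-/

set_option autoImplicit false
set_option linter.style.haveILetI false

universe u

open TensorProduct CategoryTheory CategoryTheory.Limits AlgebraicGeometry TopologicalSpace

namespace Groth.Agent.H57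

section Iso

variable {X Y : Scheme.{u}} (f : X ⟶ Y) {F G : X.Modules}

/-- The sections of isomorphic modules over an open are linearly equivalent. -/
noncomputable def sectionsEquivOfIso (e : F ≅ G) (W : X.Opens) : Γ(F, W) ≃ₗ[Γ(X, W)] Γ(G, W) :=
  LinearEquiv.ofBijective (Groth.Agent.H8.appₗ e.hom W)
    ⟨Groth.Agent.H8.appₗ_injective_of_mono e.hom W, fun y => by
      refine ⟨e.inv.app W y, ?_⟩
      have h0 : (e.inv ≫ e.hom).app W = (𝟙 G : G ⟶ G).app W := by rw [e.inv_hom_id]
      exact congr($h0 y)⟩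

/-- Flatness over the base at a point is invariant under isomorphisms of quasi-coherent modules. -/
theorem isFlatOverAt_of_iso [F.IsQuasicoherent] [G.IsQuasicoherent] (e : F ≅ G) (x : X)
    (h : FlatMod.IsFlatOverAt f F x) : FlatMod.IsFlatOverAt f G x := by
  obtain ⟨V, hV, hxV, -⟩ := exists_isAffineOpen_mem_and_subset (x := f x)
    (U := (⊤ : Y.Opens)) trivial
  obtain ⟨W, hW, hxW, hWV⟩ := exists_isAffineOpen_mem_and_subset (x := x)
    (U := f ⁻¹ᵁ V) hxV
  letI : Algebra Γ(Y, V) Γ(X, W) := (f.appLE V W hWV).hom.toAlgebra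
  letI : Module Γ(Y, V) Γ(F, W) := Module.compHom _ (f.appLE V W hWV).hom
  haveI : IsScalarTower Γ(Y, V) Γ(X, W) Γ(F, W) :=
    IsScalarTower.of_algebraMap_smul fun r m => rfl
  letI : Module Γ(Y, V) Γ(G, W) := Module.compHom _ (f.appLE V W hWV).hom
  haveI : IsScalarTower Γ(Y, V) Γ(X, W) Γ(G, W) :=
    IsScalarTower.of_algebraMap_smul fun r m => rfl
  have h1 := (isFlatOverAt_iff_flat_localizedModule f F hV hW hWV x hxW).mp h
  refine (isFlatOverAt_iff_flat_localizedModule f G hV hW hWV x hxW).mpr ?_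
  let E := sectionsEquivOfIso e W
  let γ : Γ(F, W) →ₗ[Γ(X, W)]
      LocalizedModule (hW.primeIdealOf ⟨x, hxW⟩).asIdeal.primeCompl Γ(G, W) :=
    (LocalizedModule.mkLinearMap (hW.primeIdealOf ⟨x, hxW⟩).asIdeal.primeCompl Γ(G, W)) ∘ₗ
      E.toLinearMap
  haveI : IsLocalizedModule (hW.primeIdealOf ⟨x, hxW⟩).asIdeal.primeCompl γ :=
    IsLocalizedModule.of_linearEquiv_right _ _ E
  let ε := IsLocalizedModule.iso (hW.primeIdealOf ⟨x, hxW⟩).asIdeal.primeCompl γ
  exact Module.Flat.of_linearEquiv (ε.restrictScalars Γ(Y, V)).symm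

end Iso

section BC

variable {X S X' S' : Scheme.{u}} (f : X ⟶ S) (f' : X' ⟶ S') (g' : X' ⟶ X) (g : S' ⟶ S)

/-- Base change of flatness at a point along a cartesian square, up to an isomorphism of
modules. -/
theorem isFlatOverAt_of_isPullback_of_iso (hc : IsPullback g' f' f g) (F : X.Modules)
    [F.IsQuasicoherent] (G : X'.Modules) [G.IsQuasicoherent]
    (e : (Scheme.Modules.pullback g').obj F ≅ G) (x' : X')
    (h : FlatMod.IsFlatOverAt f F (g' x')) : FlatMod.IsFlatOverAt f' G x' := by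
  haveI := Groth.Agent.H8.isQuasicoherent_pullback g' F
  exact isFlatOverAt_of_iso f' e x' (Groth.Agent.S1391.result f f' g' g hc F ‹_› x' h)

/-- Base change of flatness along a cartesian square, up to an isomorphism of modules. -/
theorem isFlatOver_of_isPullback_of_iso (hc : IsPullback g' f' f g) (F : X.Modules)
    [F.IsQuasicoherent] (G : X'.Modules) [G.IsQuasicoherent]
    (e : (Scheme.Modules.pullback g').obj F ≅ G)
    (h : FlatMod.IsFlatOver f F) : FlatMod.IsFlatOver f' G :=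
  fun x' => isFlatOverAt_of_isPullback_of_iso f f' g' g hc F G e x' (h (g' x'))

end BC

section PB

/-- `a^* b^* F ≅ c^* F` when `a ≫ b = c`. -/
noncomputable def pullbackPullbackIso {X₁ X₂ X₃ : Scheme.{u}} (a : X₁ ⟶ X₂) (b : X₂ ⟶ X₃)
    (c : X₁ ⟶ X₃) (h : a ≫ b = c) (F : X₃.Modules) :
    (Scheme.Modules.pullback a).obj ((Scheme.Modules.pullback b).obj F) ≅
      (Scheme.Modules.pullback c).obj F :=
  (Scheme.Modules.pullbackComp a b).app F ≪≫ (Scheme.Modules.pullbackCongr h).app F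

/-- `a^* b^* F ≅ a'^* b'^* F` when `a ≫ b = a' ≫ b'`. -/
noncomputable def pullbackPullbackIso₂ {X₁ X₂ X₂' X₃ : Scheme.{u}} (a : X₁ ⟶ X₂) (b : X₂ ⟶ X₃)
    (a' : X₁ ⟶ X₂') (b' : X₂' ⟶ X₃) (h : a ≫ b = a' ≫ b') (F : X₃.Modules) :
    (Scheme.Modules.pullback a).obj ((Scheme.Modules.pullback b).obj F) ≅
      (Scheme.Modules.pullback a').obj ((Scheme.Modules.pullback b').obj F) :=
  pullbackPullbackIso a b (a' ≫ b') h F ≪≫ (pullbackPullbackIso a' b' (a' ≫ b') rfl F).symm

variable {X S X' S' X₀ : Scheme.{u}} (f : X ⟶ S) (f' : X' ⟶ S') (g' : X' ⟶ X) (g : S' ⟶ S)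

/-- Base change of flatness for pulled back modules: `F = b^* F₀` on `X`, `G = c^* F₀` on `X'`
with `g' ≫ b = c`. -/
theorem isFlatOver_pullback_of_isPullback (hc : IsPullback g' f' f g) (F₀ : X₀.Modules)
    [F₀.IsQuasicoherent] (b : X ⟶ X₀) (c : X' ⟶ X₀) (h : g' ≫ b = c)
    (hfl : FlatMod.IsFlatOver f ((Scheme.Modules.pullback b).obj F₀)) :
    FlatMod.IsFlatOver f' ((Scheme.Modules.pullback c).obj F₀) := by
  haveI := Groth.Agent.H8.isQuasicoherent_pullback b F₀
  haveI := Groth.Agent.H8.isQuasicoherent_pullback c F₀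
  exact isFlatOver_of_isPullback_of_iso f f' g' g hc _ _ (pullbackPullbackIso g' b c h F₀) hfl

/-- Pointwise version. -/
theorem isFlatOverAt_pullback_of_isPullback (hc : IsPullback g' f' f g) (F₀ : X₀.Modules)
    [F₀.IsQuasicoherent] (b : X ⟶ X₀) (c : X' ⟶ X₀) (h : g' ≫ b = c) (x' : X')
    (hfl : FlatMod.IsFlatOverAt f ((Scheme.Modules.pullback b).obj F₀) (g' x')) :
    FlatMod.IsFlatOverAt f' ((Scheme.Modules.pullback c).obj F₀) x' := by
  haveI := Groth.Agent.H8.isQuasicoherent_pullback b F₀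
  haveI := Groth.Agent.H8.isQuasicoherent_pullback c F₀
  exact isFlatOverAt_of_isPullback_of_iso f f' g' g hc _ _ (pullbackPullbackIso g' b c h F₀) x' hfl

end PB

end Groth.Agent.H57
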