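import Mathlib
import Groth.Agent.H57.FibCmp
import Groth.Agent.H57.FlatModIso
import Groth.Agent.H49.FibreCritCore

/-!
# Pointwise faithfully flat descent of relative flatness, and fibrewise flatness

* `flat_of_flat_tensor_of_faithfullyFlat`: if `C → C'` is faithfully flat and `C' ⊗[C] M` is flat
  over `R` then `M` is flat over `R`.
* `isFlatOverAt_of_isPullback_of_flat`: for a cartesian square with flat base change morphism
  `gY : Y' ⟶ Y`, flatness of `gX^* F` over `Y'` at `x'` implies flatness of `F` over `Y` at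
  `gX x'`.
* `isFlatOverAt_fiberMap_of_isFlatOverAt`, `isFlatOverAt_of_isFlatOverAt_fiberMap`: the two
  directions of the fibrewise criterion used in practice.
* `isPullback_fiberMap_of_isPullback`: the morphisms of fibres of a base change form a cartesian
  square with flat horizontal maps.
-/

set_option autoImplicit false
set_option linter.style.haveILetI false

universe u

open AlgebraicGeometry CategoryTheory Limits TensorProduct

namespace Groth.Agent.H57.FibCmp

/-- Descent of flatness over a base `R` along a faithfully flat extension of the ring acting on the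
module. -/
theorem flat_of_flat_tensor_of_faithfullyFlat {R C C' M : Type u} [CommRing R] [CommRing C]
    [CommRing C'] [Algebra R C] [Algebra C C'] [Algebra R C'] [IsScalarTower R C C']
    [Module.FaithfullyFlat C C'] [AddCommGroup M] [Module C M] [Module R M] [IsScalarTower R C M]
    [Module.Flat R (C' ⊗[C] M)] : Module.Flat R M := by
  rw [Module.Flat.iff_lTensor_preserves_injective_linearMap]
  intro P Q _ _ _ _ v hv
  let g : M ⊗[R] P →ₗ[C] M ⊗[R] Q := AlgebraTensorModule.lTensor C M v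
  suffices h : Function.Injective g from h
  rw [← Module.FaithfullyFlat.lTensor_injective_iff_injective C C' g]
  have hnat : ∀ z : (C' ⊗[C] M) ⊗[R] P,
      AlgebraTensorModule.assoc R C C' C' M Q (v.lTensor (C' ⊗[C] M) z) =
      g.lTensor C' (AlgebraTensorModule.assoc R C C' C' M P z) := by
    intro z
    induction z using TensorProduct.induction_on with
    | zero => simp
    | tmul w p =>
      induction w using TensorProduct.induction_on with
      | zero => simp
      | tmul c m => simp [g]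
      | add a b ha hb => simp only [TensorProduct.add_tmul, map_add, ha, hb]
    | add a b ha hb => simp only [map_add, ha, hb]
  intro a b hab
  obtain ⟨a', rfl⟩ := (AlgebraTensorModule.assoc R C C' C' M P).surjective a
  obtain ⟨b', rfl⟩ := (AlgebraTensorModule.assoc R C C' C' M P).surjective b
  rw [← hnat, ← hnat] at hab
  have h2 := Module.Flat.lTensor_preserves_injective_linearMap (M := C' ⊗[C] M) v hv
    ((AlgebraTensorModule.assoc R C C' C' M Q).injective hab)
  rw [h2]

section Descent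

variable {X Y X' Y' : Scheme.{u}}

set_option maxHeartbeats 1600000 in
/-- **Pointwise faithfully flat descent of relative flatness**: for a cartesian square with `gY`
flat, if `gX^* F` is flat over `Y'` at `x'` then `F` is flat over `Y` at `gX x'`. -/
theorem isFlatOverAt_of_isPullback_of_flat (f : X ⟶ Y) (f' : X' ⟶ Y') (gX : X' ⟶ X) (gY : Y' ⟶ Y)
    (hc : IsPullback gX f' f gY) [Flat gY] (F : X.Modules) [F.IsQuasicoherent] (x' : X')
    (h : FlatMod.IsFlatOverAt f' ((Scheme.Modules.pullback gX).obj F) x') :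
    FlatMod.IsFlatOverAt f F (gX x') := by
  haveI : Flat gX := MorphismProperty.of_isPullback hc.flip ‹Flat gY›
  have hsq : gX ≫ f = f' ≫ gY := hc.w
  have E1 := Scheme.Hom.stalkMap_comp gX f x'
  have E2 := Scheme.Hom.stalkMap_comp f' gY x'
  have E3 := Scheme.Hom.stalkMap_congr_hom (gX ≫ f) (f' ≫ gY) hsq x'
  have hpt : f (gX x') = gY (f' x') := by
    have := congr(($hsq) x')
    exact this
  let β := (f.stalkMap (gX x')).hom
  let γ := (gX.stalkMap x').hom
  let e := Y.presheaf.stalkCongr (Inseparable.of_eq hpt)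
  let δ := (gY.stalkMap (f' x')).hom.comp e.hom.hom
  let φ' := (f'.stalkMap x').hom
  have hcomm : φ'.comp δ = γ.comp β := by
    have h := E3
    rw [E1, E2] at h
    refine RingHom.ext fun b => ?_
    have h' := congrArg (fun k => k.hom b) h
    exact h'.symm
  letI aBC : Algebra (Y.presheaf.stalk (f (gX x'))) (X.presheaf.stalk (gX x')) := β.toAlgebra
  letI aCC' : Algebra (X.presheaf.stalk (gX x')) (X'.presheaf.stalk x') := γ.toAlgebra
  letI aBC' : Algebra (Y.presheaf.stalk (f (gX x'))) (X'.presheaf.stalk x') :=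
    (γ.comp β).toAlgebra
  haveI : IsScalarTower (Y.presheaf.stalk (f (gX x'))) (X.presheaf.stalk (gX x'))
      (X'.presheaf.stalk x') := IsScalarTower.of_algebraMap_eq fun _ => rfl
  haveI : Module.FaithfullyFlat (X.presheaf.stalk (gX x')) (X'.presheaf.stalk x') :=
    @Module.FaithfullyFlat.of_flat_of_isLocalHom _ _ _ _ _ _ _
      (Flat.stalkMap gX x') (gX.toLRSHom.prop x')
  obtain ⟨E⟩ := Groth.Agent.H8.nonempty_stalk_pullback_equiv gX F x'
  letI mBM : Module (Y.presheaf.stalk (f (gX x'))) (F.presheaf.stalk (gX x')) :=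
    FlatMod.moduleStalkOver f F (gX x')
  haveI : IsScalarTower (Y.presheaf.stalk (f (gX x'))) (X.presheaf.stalk (gX x'))
      (F.presheaf.stalk (gX x')) := IsScalarTower.of_algebraMap_smul fun r m => rfl
  letI mB'N : Module (Y'.presheaf.stalk (f' x'))
      (((Scheme.Modules.pullback gX).obj F).presheaf.stalk x') :=
    FlatMod.moduleStalkOver f' ((Scheme.Modules.pullback gX).obj F) x'
  haveI hN : Module.Flat (Y'.presheaf.stalk (f' x'))
      (((Scheme.Modules.pullback gX).obj F).presheaf.stalk x') := h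
  letI aBB' : Algebra (Y.presheaf.stalk (f (gX x'))) (Y'.presheaf.stalk (f' x')) := δ.toAlgebra
  haveI : Module.Flat (Y.presheaf.stalk (f (gX x'))) (Y'.presheaf.stalk (f' x')) := by
    have hδ : δ.Flat :=
      RingHom.Flat.comp (RingHom.Flat.of_bijective e.commRingCatIsoToRingEquiv.bijective)
        (Flat.stalkMap gY (f' x'))
    exact hδ
  letI mBN : Module (Y.presheaf.stalk (f (gX x')))
      (((Scheme.Modules.pullback gX).obj F).presheaf.stalk x') :=
    Module.compHom _ (algebraMap (Y.presheaf.stalk (f (gX x'))) (X'.presheaf.stalk x'))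
  haveI : IsScalarTower (Y.presheaf.stalk (f (gX x'))) (Y'.presheaf.stalk (f' x'))
      (((Scheme.Modules.pullback gX).obj F).presheaf.stalk x') :=
    IsScalarTower.of_algebraMap_smul fun r m => by
      change φ' (δ r) • m = (γ (β r)) • m
      have h1 : φ' (δ r) = γ (β r) := RingHom.congr_fun hcomm r
      rw [h1]
  haveI : Module.Flat (Y.presheaf.stalk (f (gX x')))
      (((Scheme.Modules.pullback gX).obj F).presheaf.stalk x') :=
    Module.Flat.trans _ (Y'.presheaf.stalk (f' x')) _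
  haveI : IsScalarTower (Y.presheaf.stalk (f (gX x'))) (X'.presheaf.stalk x')
      (((Scheme.Modules.pullback gX).obj F).presheaf.stalk x') :=
    IsScalarTower.of_algebraMap_smul fun r m => rfl
  haveI : Module.Flat (Y.presheaf.stalk (f (gX x')))
      (TensorProduct (X.presheaf.stalk (gX x')) (X'.presheaf.stalk x')
        (F.presheaf.stalk (gX x'))) :=
    Module.Flat.of_linearEquiv (E.symm.restrictScalars (Y.presheaf.stalk (f (gX x'))))
  change Module.Flat (Y.presheaf.stalk (f (gX x'))) (F.presheaf.stalk (gX x'))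
  exact flat_of_flat_tensor_of_faithfullyFlat (R := Y.presheaf.stalk (f (gX x')))
    (C := X.presheaf.stalk (gX x')) (C' := X'.presheaf.stalk x')
    (M := F.presheaf.stalk (gX x'))

end Descent

section Fibre

variable {X Y S : Scheme.{u}}

/-- Flatness over `Y` at a point gives flatness of the fibre module over the fibre of `Y`. -/
theorem isFlatOverAt_fiberMap_of_isFlatOverAt (f : X ⟶ Y) (g : Y ⟶ S) (F : X.Modules)
    [F.IsQuasicoherent] (s : S) (y' : ((f ≫ g).fiber s : Scheme.{u}))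
    (h1 : FlatMod.IsFlatOverAt f F ((f ≫ g).fiberι s y')) :
    FlatMod.IsFlatOverAt (MoreMor.fiberMap f g s)
      ((Scheme.Modules.pullback ((f ≫ g).fiberι s)).obj F) y' := by
  rw [isFlatOverAt_fiberMap_iff f g F s y' _ rfl]
  letI := FlatMod.moduleStalkOver f F ((f ≫ g).fiberι s y')
  haveI : Module.Flat (Y.presheaf.stalk (f ((f ≫ g).fiberι s y')))
      (F.presheaf.stalk ((f ≫ g).fiberι s y')) := h1
  exact Module.Flat.of_linearEquiv
    (Groth.Agent.H49.FibreCrit.quotEquiv (F.presheaf.stalk ((f ≫ g).fiberι s y')) _).symm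

/-- **Critère de platitude par fibres**, the useful direction: a finitely presented module which is
flat over `S` at `x` and whose restriction to the fibre is flat over the fibre of `Y` at `x` is flat
over `Y` at `x`. -/
theorem isFlatOverAt_of_isFlatOverAt_fiberMap (f : X ⟶ Y) (g : Y ⟶ S)
    [LocallyOfFinitePresentation (f ≫ g)] [LocallyOfFiniteType g]
    (F : X.Modules) (hq : Coh.IsQCoh F) (hfp : CohB1.IsFP F) (s : S)
    (y' : ((f ≫ g).fiber s : Scheme.{u}))
    (h1 : FlatMod.IsFlatOverAt (f ≫ g) F ((f ≫ g).fiberι s y'))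
    (h2 : FlatMod.IsFlatOverAt (MoreMor.fiberMap f g s)
      ((Scheme.Modules.pullback ((f ≫ g).fiberι s)).obj F) y') :
    FlatMod.IsFlatOverAt f F ((f ≫ g).fiberι s y') := by
  haveI : F.IsQuasicoherent := hq
  by_cases hnt : Nontrivial ↑(F.presheaf.stalk ((f ≫ g).fiberι s y'))
  · have hQ := (isFlatOverAt_fiberMap_iff f g F s y' _ rfl).mp h2
    exact ((Groth.Agent.H49.FibreCrit.critere_module Groth.Agent.H49.FibreCrit.core f g F
      hq hfp _ hnt).mp ⟨h1, hQ⟩).2
  · rw [not_nontrivial_iff_subsingleton] at hnt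
    letI := FlatMod.moduleStalkOver f F ((f ≫ g).fiberι s y')
    change Module.Flat (Y.presheaf.stalk (f ((f ≫ g).fiberι s y')))
      (F.presheaf.stalk ((f ≫ g).fiberι s y'))
    infer_instance

variable {X' Y' S' : Scheme.{u}}

/-- Vertical cancellation of pullback squares, with the outer rectangle given up to equalities of
its vertical sides. -/
theorem isPullback_of_bot_of_eq {C : Type*} [Category C] {X₁₁ X₁₂ X₂₁ X₂₂ X₃₁ X₃₂ : C}
    {h₁₁ : X₁₁ ⟶ X₁₂} {h₂₁ : X₂₁ ⟶ X₂₂} {h₃₁ : X₃₁ ⟶ X₃₂}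
    {v₁₁ : X₁₁ ⟶ X₂₁} {v₁₂ : X₁₂ ⟶ X₂₂} {v₂₁ : X₂₁ ⟶ X₃₁} {v₂₂ : X₂₂ ⟶ X₃₂}
    {u₁ : X₁₁ ⟶ X₃₁} {u₂ : X₁₂ ⟶ X₃₂}
    (s : IsPullback h₁₁ u₁ u₂ h₃₁) (e1 : v₁₁ ≫ v₂₁ = u₁) (e2 : v₁₂ ≫ v₂₂ = u₂)
    (p : h₁₁ ≫ v₁₂ = v₁₁ ≫ h₂₁) (t : IsPullback h₂₁ v₂₁ v₂₂ h₃₁) :
    IsPullback h₁₁ v₁₁ v₁₂ h₂₁ := by
  subst e1 e2
  exact IsPullback.of_bot s p t

/-- The morphism of spectra of residue fields induced by a morphism of schemes is flat. -/
theorem flat_specMap_residueFieldMap (h : S' ⟶ S) (s' : S') :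
    Flat (Spec.map (h.residueFieldMap s')) :=
  (HasRingHomProperty.Spec_iff (P := @Flat)).mpr
    (RingHom.Flat.of_isField (Field.toIsField _) _)

/-- Commutativity of the square of fibre maps. -/
theorem fiberMap_comm_aux (f : X ⟶ Y) (g : Y ⟶ S) (f' : X' ⟶ Y') (g' : Y' ⟶ S')
    (h : S' ⟶ S) (gY : Y' ⟶ Y) (gX : X' ⟶ X) (w : gX ≫ f = f' ≫ gY) (s' : S')
    (ΦX : (f' ≫ g').fiber s' ⟶ (f ≫ g).fiber (h s')) (ΦY : g'.fiber s' ⟶ g.fiber (h s'))
    (a3 : ΦX ≫ (f ≫ g).fiberι (h s') = (f' ≫ g').fiberι s' ≫ gX)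
    (b3 : ΦX ≫ (f ≫ g).fiberToSpecResidueField (h s') =
      (f' ≫ g').fiberToSpecResidueField s' ≫ Spec.map (h.residueFieldMap s'))
    (a4 : ΦY ≫ g.fiberι (h s') = g'.fiberι s' ≫ gY)
    (b4 : ΦY ≫ g.fiberToSpecResidueField (h s') =
      g'.fiberToSpecResidueField s' ≫ Spec.map (h.residueFieldMap s')) :
    ΦX ≫ MoreMor.fiberMap f g (h s') = MoreMor.fiberMap f' g' s' ≫ ΦY := by
  have a1 : MoreMor.fiberMap f g (h s') ≫ g.fiberι (h s') = (f ≫ g).fiberι (h s') ≫ f :=
    pullback.lift_fst _ _ _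
  have a2 : MoreMor.fiberMap f' g' s' ≫ g'.fiberι s' = (f' ≫ g').fiberι s' ≫ f' :=
    pullback.lift_fst _ _ _
  have b1 : MoreMor.fiberMap f g (h s') ≫ g.fiberToSpecResidueField (h s') =
      (f ≫ g).fiberToSpecResidueField (h s') := pullback.lift_snd _ _ _
  have b2 : MoreMor.fiberMap f' g' s' ≫ g'.fiberToSpecResidueField s' =
      (f' ≫ g').fiberToSpecResidueField s' := pullback.lift_snd _ _ _
  refine pullback.hom_ext (f := g) (g := S.fromSpecResidueField (h s')) ?_ ?_
  · change (ΦX ≫ MoreMor.fiberMap f g (h s')) ≫ g.fiberι (h s') =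
      (MoreMor.fiberMap f' g' s' ≫ ΦY) ≫ g.fiberι (h s')
    calc (ΦX ≫ MoreMor.fiberMap f g (h s')) ≫ g.fiberι (h s')
        = ΦX ≫ (MoreMor.fiberMap f g (h s') ≫ g.fiberι (h s')) := Category.assoc _ _ _
      _ = ΦX ≫ ((f ≫ g).fiberι (h s') ≫ f) := ΦX ≫= a1
      _ = (ΦX ≫ (f ≫ g).fiberι (h s')) ≫ f := (Category.assoc _ _ _).symm
      _ = ((f' ≫ g').fiberι s' ≫ gX) ≫ f := a3 =≫ f
      _ = (f' ≫ g').fiberι s' ≫ (gX ≫ f) := Category.assoc _ _ _
      _ = (f' ≫ g').fiberι s' ≫ (f' ≫ gY) := (f' ≫ g').fiberι s' ≫= w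
      _ = ((f' ≫ g').fiberι s' ≫ f') ≫ gY := (Category.assoc _ _ _).symm
      _ = (MoreMor.fiberMap f' g' s' ≫ g'.fiberι s') ≫ gY := a2.symm =≫ gY
      _ = MoreMor.fiberMap f' g' s' ≫ (g'.fiberι s' ≫ gY) := Category.assoc _ _ _
      _ = MoreMor.fiberMap f' g' s' ≫ (ΦY ≫ g.fiberι (h s')) :=
        MoreMor.fiberMap f' g' s' ≫= a4.symm
      _ = (MoreMor.fiberMap f' g' s' ≫ ΦY) ≫ g.fiberι (h s') := (Category.assoc _ _ _).symm
  · change (ΦX ≫ MoreMor.fiberMap f g (h s')) ≫ g.fiberToSpecResidueField (h s') =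
      (MoreMor.fiberMap f' g' s' ≫ ΦY) ≫ g.fiberToSpecResidueField (h s')
    calc (ΦX ≫ MoreMor.fiberMap f g (h s')) ≫ g.fiberToSpecResidueField (h s')
        = ΦX ≫ (MoreMor.fiberMap f g (h s') ≫ g.fiberToSpecResidueField (h s')) :=
          Category.assoc _ _ _
      _ = ΦX ≫ (f ≫ g).fiberToSpecResidueField (h s') := ΦX ≫= b1
      _ = (f' ≫ g').fiberToSpecResidueField s' ≫ Spec.map (h.residueFieldMap s') := b3
      _ = (MoreMor.fiberMap f' g' s' ≫ g'.fiberToSpecResidueField s') ≫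
          Spec.map (h.residueFieldMap s') := b2.symm =≫ _
      _ = MoreMor.fiberMap f' g' s' ≫
          (g'.fiberToSpecResidueField s' ≫ Spec.map (h.residueFieldMap s')) :=
        Category.assoc _ _ _
      _ = MoreMor.fiberMap f' g' s' ≫ (ΦY ≫ g.fiberToSpecResidueField (h s')) :=
        MoreMor.fiberMap f' g' s' ≫= b4.symm
      _ = (MoreMor.fiberMap f' g' s' ≫ ΦY) ≫ g.fiberToSpecResidueField (h s') :=
        (Category.assoc _ _ _).symm

/-- For a base change `X' = X ×_S S'`, `Y' = Y ×_S S'`, the morphisms of fibres over `s'` and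
`h s'` form a cartesian square. -/
theorem isPullback_fiberMap_of_isPullback (f : X ⟶ Y) (g : Y ⟶ S) (f' : X' ⟶ Y') (g' : Y' ⟶ S')
    (h : S' ⟶ S) (gY : Y' ⟶ Y) (gX : X' ⟶ X)
    (hY : IsPullback gY g' g h) (hX : IsPullback gX (f' ≫ g') (f ≫ g) h)
    (w : gX ≫ f = f' ≫ gY) (s' : S') :
    IsPullback
      (pullback.map (f' ≫ g') (S'.fromSpecResidueField s') (f ≫ g)
        (S.fromSpecResidueField (h s')) gX (Spec.map (h.residueFieldMap s')) h hX.w.symm (by simp))
      (MoreMor.fiberMap f' g' s') (MoreMor.fiberMap f g (h s'))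
      (pullback.map g' (S'.fromSpecResidueField s') g
        (S.fromSpecResidueField (h s')) gY (Spec.map (h.residueFieldMap s')) h hY.w.symm
        (by simp)) := by
  have hXs := isPullback_fiberToSpecResidueField_of_isPullback hX s'
  have hYs := isPullback_fiberToSpecResidueField_of_isPullback hY s'
  have e1 : MoreMor.fiberMap f' g' s' ≫ g'.fiberToSpecResidueField s' =
      (f' ≫ g').fiberToSpecResidueField s' := pullback.lift_snd _ _ _
  have e2 : MoreMor.fiberMap f g (h s') ≫ g.fiberToSpecResidueField (h s') =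
      (f ≫ g).fiberToSpecResidueField (h s') := pullback.lift_snd _ _ _
  exact isPullback_of_bot_of_eq hXs e1 e2
    (fiberMap_comm_aux f g f' g' h gY gX w s' _ _ (pullback.lift_fst _ _ _)
      (pullback.lift_snd _ _ _) (pullback.lift_fst _ _ _) (pullback.lift_snd _ _ _)) hYs

set_option maxHeartbeats 1600000 in
/-- Core of `isFlatOverAt_of_isFlatOverAt_pullback`, with the comparison maps of fibres abstract. -/
theorem isFlatOverAt_of_isFlatOverAt_pullback_core (f : X ⟶ Y) (g : Y ⟶ S)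
    [LocallyOfFinitePresentation (f ≫ g)] [LocallyOfFiniteType g]
    (F : X.Modules) (hq : Coh.IsQCoh F) (hfp : CohB1.IsFP F)
    (f' : X' ⟶ Y') (g' : Y' ⟶ S') (h : S' ⟶ S) (gX : X' ⟶ X) (s' : S')
    (ΦX : (f' ≫ g').fiber s' ⟶ (f ≫ g).fiber (h s')) (ΦY : g'.fiber s' ⟶ g.fiber (h s'))
    (hsq : IsPullback ΦX (MoreMor.fiberMap f' g' s') (MoreMor.fiberMap f g (h s')) ΦY)
    (hΦY : Flat ΦY)
    (a3 : ΦX ≫ (f ≫ g).fiberι (h s') = (f' ≫ g').fiberι s' ≫ gX)
    (y'' : ((f' ≫ g').fiber s' : Scheme.{u}))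
    (hS : FlatMod.IsFlatOverAt (f ≫ g) F (gX ((f' ≫ g').fiberι s' y'')))
    (hx' : FlatMod.IsFlatOverAt f' ((Scheme.Modules.pullback gX).obj F)
      ((f' ≫ g').fiberι s' y'')) :
    FlatMod.IsFlatOverAt f F (gX ((f' ≫ g').fiberι s' y'')) := by
  haveI hqc : F.IsQuasicoherent := hq
  haveI hqc' : ((Scheme.Modules.pullback gX).obj F).IsQuasicoherent :=
    Groth.Agent.H8.isQuasicoherent_pullback gX F
  -- (a) flatness on the fibre of the base change
  have hA := isFlatOverAt_fiberMap_of_isFlatOverAt f' g'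
    ((Scheme.Modules.pullback gX).obj F) s' y'' hx'
  -- (b) compare the modules
  haveI : ((Scheme.Modules.pullback ((f ≫ g).fiberι (h s'))).obj F).IsQuasicoherent :=
    Groth.Agent.H8.isQuasicoherent_pullback _ F
  haveI : ((Scheme.Modules.pullback ((f' ≫ g').fiberι s')).obj
      ((Scheme.Modules.pullback gX).obj F)).IsQuasicoherent :=
    Groth.Agent.H8.isQuasicoherent_pullback _ _
  haveI : ((Scheme.Modules.pullback ΦX).obj
      ((Scheme.Modules.pullback ((f ≫ g).fiberι (h s'))).obj F)).IsQuasicoherent :=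
    Groth.Agent.H8.isQuasicoherent_pullback _ _
  have hB := Groth.Agent.H57.isFlatOverAt_of_iso (MoreMor.fiberMap f' g' s')
    (Groth.Agent.H57.pullbackPullbackIso₂ ((f' ≫ g').fiberι s') gX ΦX
      ((f ≫ g).fiberι (h s')) a3.symm F) y'' hA
  -- (c) descend along the flat base change of fibres
  haveI := hΦY
  have hC := isFlatOverAt_of_isPullback_of_flat
    (MoreMor.fiberMap f g (h s')) (MoreMor.fiberMap f' g' s') ΦX ΦY hsq
    ((Scheme.Modules.pullback ((f ≫ g).fiberι (h s'))).obj F) y'' hB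
  -- (d) the fibre criterion on `X / Y / S`
  have hpt : (f ≫ g).fiberι (h s') (ΦX y'') = gX ((f' ≫ g').fiberι s' y'') := by
    have := congr(($a3) y'')
    exact this
  have hD := isFlatOverAt_of_isFlatOverAt_fiberMap f g F hq hfp (h s') (ΦX y'')
    (by rw [hpt]; exact hS) hC
  rw [hpt] at hD
  exact hD

/-- **Invariance of relative flatness under base change of `S`** (direction needing the fibre
criterion): let `X ⟶ Y ⟶ S` with `X` locally of finite presentation and `Y` locally of finite type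
over `S`, `F` finitely presented quasi-coherent on `X`, and `X' ⟶ Y' ⟶ S'` the base change along
`h : S' ⟶ S`. If `F` is flat over `S` at `gX x'` and `gX^* F` is flat over `Y'` at `x'`, then `F`
is flat over `Y` at `gX x'`. -/
theorem isFlatOverAt_of_isFlatOverAt_pullback (f : X ⟶ Y) (g : Y ⟶ S)
    [LocallyOfFinitePresentation (f ≫ g)] [LocallyOfFiniteType g]
    (F : X.Modules) (hq : Coh.IsQCoh F) (hfp : CohB1.IsFP F)
    (f' : X' ⟶ Y') (g' : Y' ⟶ S') (h : S' ⟶ S) (gY : Y' ⟶ Y) (gX : X' ⟶ X)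
    (hY : IsPullback gY g' g h) (hX : IsPullback gX (f' ≫ g') (f ≫ g) h)
    (w : gX ≫ f = f' ≫ gY) (x' : X')
    (hS : FlatMod.IsFlatOverAt (f ≫ g) F (gX x'))
    (hx' : FlatMod.IsFlatOverAt f' ((Scheme.Modules.pullback gX).obj F) x') :
    FlatMod.IsFlatOverAt f F (gX x') := by
  have hy'' : (f' ≫ g').fiberι ((f' ≫ g') x') ((f' ≫ g').asFiber x') = x' :=
    (f' ≫ g').fiberι_asFiber x'
  have key := isFlatOverAt_of_isFlatOverAt_pullback_core f g F hq hfp f' g' h gX ((f' ≫ g') x')
    _ _ (isPullback_fiberMap_of_isPullback f g f' g' h gY gX hY hX w ((f' ≫ g') x'))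
    (MorphismProperty.of_isPullback
      (isPullback_fiberToSpecResidueField_of_isPullback hY ((f' ≫ g') x')).flip
      (flat_specMap_residueFieldMap h ((f' ≫ g') x')))
    (pullback.lift_fst _ _ _) ((f' ≫ g').asFiber x')
    (by rw [hy'']; exact hS) (by rw [hy'']; exact hx')
  rw [hy''] at key
  exact key

end Fibre

end Groth.Agent.H57.FibCmp
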