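import Mathlib
import Groth.Agent.H57.FibCmp2
import Groth.Agent.H17.ReflSheaf
import Groth.Agent.H49.NearFibre

/-!
# Nonvanishing of the fibre of a module at a point, and its base change

* `smul_top_ne_top_iff_nontrivial_stalk`: for `u : X ⟶ Y`, `F` quasi-coherent on `X` and a point
  `x̃` of the fibre `X_s` with image `x`, `m_{u x} F_x ≠ F_x` iff the stalk at `x̃` of the pullback
  of `F` to the fibre is nontrivial.
* `exists_smul_top_ne_top_pullback`: if `m_y F_x ≠ F_x` and `y' ↦ y` under `g : Y' ⟶ Y`, then
  there is a point `x'` of `X ×_Y Y'` over `y'` with `m_{y'} (p^*F)_{x'} ≠ (p^*F)_{x'}`.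
-/

set_option autoImplicit false
set_option linter.style.haveILetI false

universe u

open AlgebraicGeometry CategoryTheory Limits TensorProduct

namespace Groth.Agent.H57.FibCmp

/-- `I • M` for `M` viewed as a `B`-module through `β : B → C` is `(I C) • M`. -/
theorem mem_smul_top_compHom_iff {B C M : Type u} [CommRing B] [CommRing C] (β : B →+* C)
    (I : Ideal B) [AddCommGroup M] [Module C M] (m : M) :
    (letI : Module B M := Module.compHom M β; m ∈ I • (⊤ : Submodule B M)) ↔
      m ∈ (I.map β) • (⊤ : Submodule C M) := by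
  letI : Module B M := Module.compHom M β
  have hP : ∀ c ∈ I.map β, ∀ n : M, c • n ∈ I • (⊤ : Submodule B M) := by
    intro c hc
    refine Submodule.span_induction
      (p := fun c _ => ∀ n : M, c • n ∈ I • (⊤ : Submodule B M)) ?_ ?_ ?_ ?_ hc
    · rintro _ ⟨r, hr, rfl⟩ n
      have h1 : β r • n = r • n := rfl
      rw [h1]
      exact Submodule.smul_mem_smul hr trivial
    · intro n
      rw [zero_smul]
      exact zero_mem _
    · intro x y _ _ hx hy n
      rw [add_smul]
      exact add_mem (hx n) (hy n)
    · intro a x _ hx n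
      rw [smul_eq_mul, mul_comm, mul_smul]
      exact hx (a • n)
  constructor
  · intro hm
    refine Submodule.smul_induction_on hm ?_ ?_
    · intro r hr n _
      have h1 : r • n = β r • n := rfl
      rw [h1]
      exact Submodule.smul_mem_smul (Ideal.mem_map_of_mem β hr) trivial
    · intro x y hx hy
      exact add_mem hx hy
  · intro hm
    refine Submodule.smul_induction_on hm ?_ ?_
    · intro c hc n _
      exact hP c hc n
    · intro x y hx hy
      exact add_mem hx hy

variable {X Y : Scheme.{u}}

set_option maxHeartbeats 1600000 in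
/-- Nonvanishing of `F_x / m_{u x} F_x` in terms of the stalk of the pullback of `F` to the
fibre. -/
theorem smul_top_ne_top_iff_nontrivial_stalk (v : X ⟶ Y) (F : X.Modules) [F.IsQuasicoherent]
    (s : Y) (xt : (v.fiber s : Scheme.{u})) (x : X) (hx : (v.fiberι s) xt = x) :
    (letI := FlatMod.moduleStalkOver v F x;
      IsLocalRing.maximalIdeal (Y.presheaf.stalk (v x)) •
        (⊤ : Submodule (Y.presheaf.stalk (v x)) (F.presheaf.stalk x)) ≠ ⊤) ↔
    Nontrivial (((Scheme.Modules.pullback (v.fiberι s)).obj F).presheaf.stalk xt) := by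
  subst hx
  have hfib := Groth.Agent.H9.stalkMap_fiberι_surjective_and_ker_eq v s xt
  obtain ⟨E⟩ := Groth.Agent.H8.nonempty_stalk_pullback_equiv (v.fiberι s) F xt
  letI aCE : Algebra (X.presheaf.stalk ((v.fiberι s) xt)) ((v.fiber s).presheaf.stalk xt) :=
    ((v.fiberι s).stalkMap xt).hom.toAlgebra
  letI mBM := FlatMod.moduleStalkOver v F ((v.fiberι s) xt)
  have hs : Function.Surjective (algebraMap (X.presheaf.stalk ((v.fiberι s) xt))
      ((v.fiber s).presheaf.stalk xt)) := hfib.1
  have hk : RingHom.ker (algebraMap (X.presheaf.stalk ((v.fiberι s) xt))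
      ((v.fiber s).presheaf.stalk xt)) =
      Ideal.map (v.stalkMap ((v.fiberι s) xt)).hom
        (IsLocalRing.maximalIdeal (Y.presheaf.stalk (v ((v.fiberι s) xt)))) := hfib.2
  rw [← not_subsingleton_iff_nontrivial]
  refine not_congr ?_
  constructor
  · intro htop
    have h0 : ∀ t : TensorProduct (X.presheaf.stalk ((v.fiberι s) xt))
        ((v.fiber s).presheaf.stalk xt) (F.presheaf.stalk ((v.fiberι s) xt)), t = 0 := by
      intro t
      obtain ⟨m, rfl⟩ := exists_one_tmul hs t
      rw [one_tmul_eq_zero_iff hs, hk]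
      have h1 : m ∈ (IsLocalRing.maximalIdeal (Y.presheaf.stalk (v ((v.fiberι s) xt))) •
          (⊤ : Submodule (Y.presheaf.stalk (v ((v.fiberι s) xt)))
            (F.presheaf.stalk ((v.fiberι s) xt)))) := by
        rw [htop]
        exact Submodule.mem_top
      exact (mem_smul_top_compHom_iff (v.stalkMap ((v.fiberι s) xt)).hom _ m).mp h1
    exact ⟨fun a b => E.injective (by rw [h0 (E a), h0 (E b)])⟩
  · intro hsub
    rw [eq_top_iff]
    intro m _
    have h1 : (1 : (v.fiber s).presheaf.stalk xt) ⊗ₜ[X.presheaf.stalk ((v.fiberι s) xt)] m = 0 :=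
      E.symm.injective (Subsingleton.elim _ _)
    rw [one_tmul_eq_zero_iff hs, hk] at h1
    exact (mem_smul_top_compHom_iff (v.stalkMap ((v.fiberι s) xt)).hom _ m).mpr h1

variable {Y' : Scheme.{u}}

set_option maxHeartbeats 3200000 in
/-- Core of `exists_smul_top_ne_top_pullback` with the comparison map of fibres abstract. -/
theorem exists_smul_top_ne_top_pullback_core (f : X ⟶ Y) (g : Y' ⟶ Y) (F : X.Modules)
    [F.IsQuasicoherent] (y' : Y') (x : X) (hxy : f x = g y')
    (hP : letI := FlatMod.moduleStalkOver f F x;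
      IsLocalRing.maximalIdeal (Y.presheaf.stalk (f x)) •
        (⊤ : Submodule (Y.presheaf.stalk (f x)) (F.presheaf.stalk x)) ≠ ⊤)
    (Φ : (pullback.snd f g).fiber y' ⟶ f.fiber (g y'))
    (hsq : IsPullback Φ ((pullback.snd f g).fiberToSpecResidueField y')
      (f.fiberToSpecResidueField (g y')) (Spec.map (g.residueFieldMap y')))
    (a3 : Φ ≫ f.fiberι (g y') = (pullback.snd f g).fiberι y' ≫ pullback.fst f g) :
    ∃ x' : ↥(pullback f g), (pullback.snd f g) x' = y' ∧ (pullback.fst f g) x' = x ∧
      (letI := FlatMod.moduleStalkOver (pullback.snd f g)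
          ((Scheme.Modules.pullback (pullback.fst f g)).obj F) x';
        IsLocalRing.maximalIdeal (Y'.presheaf.stalk ((pullback.snd f g) x')) •
          (⊤ : Submodule (Y'.presheaf.stalk ((pullback.snd f g) x'))
            (((Scheme.Modules.pullback (pullback.fst f g)).obj F).presheaf.stalk x')) ≠ ⊤) := by
  -- the point of the fibre of `f` over `g y'`
  let xt : (f.fiber (g y') : Scheme.{u}) := (f.fiberHomeo (g y')).symm ⟨x, hxy⟩
  have hxt : (f.fiberι (g y')) xt = x := f.fiberι_fiberHomeo_symm (g y') ⟨x, hxy⟩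
  have hN : Nontrivial (((Scheme.Modules.pullback (f.fiberι (g y'))).obj F).presheaf.stalk xt) :=
    (smul_top_ne_top_iff_nontrivial_stalk f F (g y') xt x hxt).mp hP
  have hfl1 : Flat (Spec.map (g.residueFieldMap y')) := flat_specMap_residueFieldMap g y'
  have hΦfl : Flat Φ := MorphismProperty.of_isPullback hsq.flip hfl1
  -- a point over `xt`
  obtain ⟨b⟩ : Nonempty ↥(Spec (Y'.residueField y')) :=
    inferInstanceAs (Nonempty (PrimeSpectrum (Y'.residueField y')))
  haveI : Subsingleton ↥(Spec (Y.residueField (g y'))) :=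
    inferInstanceAs (Subsingleton (PrimeSpectrum (Y.residueField (g y'))))
  obtain ⟨xtt, hxtt, -⟩ := Groth.Agent.H49.NearFibre.exists_preimage_of_isPullback hsq xt b
    (Subsingleton.elim _ _)
  refine ⟨((pullback.snd f g).fiberι y') xtt, ?_, ?_, ?_⟩
  · have h1 : ((pullback.snd f g).fiberι y') xtt ∈ Set.range ((pullback.snd f g).fiberι y') :=
      Set.mem_range_self xtt
    rw [Scheme.Hom.range_fiberι] at h1
    exact h1
  · have h1 := congr(($a3) xtt)
    have h2 : (pullback.fst f g) (((pullback.snd f g).fiberι y') xtt) =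
        (f.fiberι (g y')) (Φ xtt) := h1.symm
    rw [h2, hxtt, hxt]
  · haveI hqc' : ((Scheme.Modules.pullback (pullback.fst f g)).obj F).IsQuasicoherent :=
      Groth.Agent.H8.isQuasicoherent_pullback _ F
    refine (smul_top_ne_top_iff_nontrivial_stalk (pullback.snd f g)
      ((Scheme.Modules.pullback (pullback.fst f g)).obj F) y' xtt _ rfl).mpr ?_
    haveI : ((Scheme.Modules.pullback (f.fiberι (g y'))).obj F).IsQuasicoherent :=
      Groth.Agent.H8.isQuasicoherent_pullback _ F
    -- the stalk of `Φ^* (fiberι^* F)` at `xtt`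
    obtain ⟨E⟩ := Groth.Agent.H8.nonempty_stalk_pullback_equiv Φ
      ((Scheme.Modules.pullback (f.fiberι (g y'))).obj F) xtt
    letI : Algebra ((f.fiber (g y')).presheaf.stalk (Φ xtt))
        (((pullback.snd f g).fiber y').presheaf.stalk xtt) := (Φ.stalkMap xtt).hom.toAlgebra
    haveI : Module.FaithfullyFlat ((f.fiber (g y')).presheaf.stalk (Φ xtt))
        (((pullback.snd f g).fiber y').presheaf.stalk xtt) :=
      @Module.FaithfullyFlat.of_flat_of_isLocalHom _ _ _ _ _ _ _
        (Flat.stalkMap Φ xtt) (Φ.toLRSHom.prop xtt)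
    haveI : Nontrivial (((Scheme.Modules.pullback (f.fiberι (g y'))).obj F).presheaf.stalk
        (Φ xtt)) := by
      rw [hxtt]
      exact hN
    haveI hN2 : Nontrivial (((Scheme.Modules.pullback Φ).obj
        ((Scheme.Modules.pullback (f.fiberι (g y'))).obj F)).presheaf.stalk xtt) :=
      E.toEquiv.nontrivial
    -- compare the two pullbacks
    let e := Groth.Agent.H57.pullbackPullbackIso₂ ((pullback.snd f g).fiberι y')
      (pullback.fst f g) Φ (f.fiberι (g y')) a3.symm F
    have hb := Groth.Agent.H17.ReflSheaf.stalkMap_bijective_of_isIso e.hom xtt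
    exact (Equiv.ofBijective _ hb).nontrivial

/-- Base change of the nonvanishing of the fibre of a module at a point. -/
theorem exists_smul_top_ne_top_pullback (f : X ⟶ Y) (g : Y' ⟶ Y) (F : X.Modules)
    [F.IsQuasicoherent] (y' : Y') (x : X) (hxy : f x = g y')
    (hP : letI := FlatMod.moduleStalkOver f F x;
      IsLocalRing.maximalIdeal (Y.presheaf.stalk (f x)) •
        (⊤ : Submodule (Y.presheaf.stalk (f x)) (F.presheaf.stalk x)) ≠ ⊤) :
    ∃ x' : ↥(pullback f g), (pullback.snd f g) x' = y' ∧ (pullback.fst f g) x' = x ∧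
      (letI := FlatMod.moduleStalkOver (pullback.snd f g)
          ((Scheme.Modules.pullback (pullback.fst f g)).obj F) x';
        IsLocalRing.maximalIdeal (Y'.presheaf.stalk ((pullback.snd f g) x')) •
          (⊤ : Submodule (Y'.presheaf.stalk ((pullback.snd f g) x'))
            (((Scheme.Modules.pullback (pullback.fst f g)).obj F).presheaf.stalk x')) ≠ ⊤) :=
  exists_smul_top_ne_top_pullback_core f g F y' x hxy hP _
    (isPullback_fiberToSpecResidueField_of_isPullback (IsPullback.of_hasPullback f g) y')
    (pullback.lift_fst _ _ _)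

end Groth.Agent.H57.FibCmp
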