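import Mathlib
import Groth.Agent.H7.AssTensorFlat
import Groth.Agent.H57.FibNontriv
import Groth.Agent.H57.FlatModIso
import Groth.Agent.H17.StalkSeq
import Groth.Agent.H2.ConnComp
import Groth.Agent.H8.StructureCoh
import Groth.Prelude.Def_MoreMor

/-!
# The relative assassin and base change

Bridges between the Prelude's `MoreMor.relAss`, helper7's `FibAss`/`HasSocle` and the stalks of the
pullback of a module to a fibre; behaviour under flat pullback.
-/

set_option autoImplicit false
set_option linter.style.haveILetI false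

universe u

open AlgebraicGeometry CategoryTheory Limits TensorProduct IsLocalRing

namespace Groth.Agent.H57.RelAssBC

open Groth.Agent.H7.SocleFlat Groth.Agent.H7.AssTensorFlat

/-- Over a local ring `A` with an ideal `J` killing `M` such that `A ⧸ J` is Noetherian, the
maximal ideal is an associated prime of `M` (in the radical sense) iff `M` has a socle. -/
theorem isAssociatedPrime_maximalIdeal_iff' (A : Type*) [CommRing A] [IsLocalRing A]
    (J : Ideal A) [IsNoetherianRing (A ⧸ J)]
    (M : Type*) [AddCommGroup M] [Module A M] (hJ : ∀ r ∈ J, ∀ m : M, r • m = 0) :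
    IsAssociatedPrime (maximalIdeal A) M ↔ HasSocle A M := by
  constructor
  · rintro ⟨-, x, hx⟩
    have hJle : J ≤ (⊥ : Submodule A M).colon {x} := fun r hr => by
      rw [Submodule.mem_colon_singleton, Submodule.mem_bot]; exact hJ r hr x
    have hx0 : x ≠ 0 := by
      rintro rfl
      have h1 : (⊥ : Submodule A M).colon {(0 : M)} = ⊤ := by
        rw [Ideal.eq_top_iff_one, Submodule.mem_colon_singleton, smul_zero]
        exact Submodule.zero_mem _
      rw [h1, Ideal.radical_top] at hx
      exact (maximalIdeal.isMaximal A).ne_top hx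
    obtain ⟨n, hn⟩ : ∃ n : ℕ, maximalIdeal A ^ n ≤ (⊥ : Submodule A M).colon {x} := by
      let K : Ideal (A ⧸ J) := ((⊥ : Submodule A M).colon {x}).map (Ideal.Quotient.mk J)
      obtain ⟨n, hn⟩ := K.exists_radical_pow_le_of_fg (IsNoetherian.noetherian _)
      have hcomap : K.comap (Ideal.Quotient.mk J) = (⊥ : Submodule A M).colon {x} := by
        rw [Ideal.comap_map_of_surjective _ Ideal.Quotient.mk_surjective,
          ← RingHom.ker_eq_comap_bot, Ideal.mk_ker]
        exact sup_eq_left.mpr hJle
      refine ⟨n, ?_⟩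
      calc maximalIdeal A ^ n = (K.radical.comap (Ideal.Quotient.mk J)) ^ n := by
            rw [Ideal.comap_radical, hcomap, ← hx]
        _ ≤ (K.radical ^ n).comap (Ideal.Quotient.mk J) := Ideal.le_comap_pow _ _
        _ ≤ K.comap (Ideal.Quotient.mk J) := Ideal.comap_mono hn
        _ = (⊥ : Submodule A M).colon {x} := hcomap
    classical
    have hP : ∃ n : ℕ, maximalIdeal A ^ n ≤ (⊥ : Submodule A M).colon {x} := ⟨n, hn⟩
    have hmin := @Nat.find_min _ _ hP
    have hspec := Nat.find_spec hP
    cases hk : Nat.find hP with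
    | zero =>
      exfalso
      rw [hk, pow_zero, Ideal.one_eq_top] at hspec
      have h1 : (1 : A) ∈ (⊥ : Submodule A M).colon {x} := hspec Submodule.mem_top
      rw [Submodule.mem_colon_singleton, one_smul, Submodule.mem_bot] at h1
      exact hx0 h1
    | succ k =>
      have hk' : ¬ maximalIdeal A ^ k ≤ (⊥ : Submodule A M).colon {x} :=
        hmin (by rw [hk]; exact Nat.lt_succ_self k)
      rw [hk] at hspec
      obtain ⟨r, hr, hrx⟩ := SetLike.not_le_iff_exists.mp hk'
      refine ⟨r • x, ?_, fun b hb => ?_⟩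
      · intro h0
        apply hrx
        rw [Submodule.mem_colon_singleton, Submodule.mem_bot]
        exact h0
      · have hbr : b * r ∈ (⊥ : Submodule A M).colon {x} :=
          hspec (by rw [pow_succ']; exact Ideal.mul_mem_mul hb hr)
        rw [Submodule.mem_colon_singleton, Submodule.mem_bot, mul_smul] at hbr
        exact hbr
  · rintro ⟨x, hx0, hx⟩
    refine ⟨inferInstance, x, ?_⟩
    have hle : maximalIdeal A ≤ (⊥ : Submodule A M).colon {x} := fun r hr => by
      rw [Submodule.mem_colon_singleton, Submodule.mem_bot]; exact hx r hr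
    have hne : (⊥ : Submodule A M).colon {x} ≠ ⊤ := by
      intro h
      have h1 : (1 : A) ∈ (⊥ : Submodule A M).colon {x} := by rw [h]; exact Submodule.mem_top
      rw [Submodule.mem_colon_singleton, Submodule.mem_bot, one_smul] at h1
      exact hx0 h1
    rw [← le_antisymm hle (le_maximalIdeal hne)]
    exact ((maximalIdeal.isMaximal A).isPrime.radical).symm

variable {X Y : Scheme.{u}}

/-- The fibres of a morphism locally of finite type are locally Noetherian. -/
theorem isLocallyNoetherian_fiber (f : X ⟶ Y) [LocallyOfFiniteType f] (y : Y) :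
    IsLocallyNoetherian (f.fiber y : Scheme.{u}) := by
  haveI : LocallyOfFiniteType (f.fiberToSpecResidueField y) :=
    MorphismProperty.of_isPullback (IsPullback.of_hasPullback f (Y.fromSpecResidueField y))
      inferInstance
  exact LocallyOfFiniteType.isLocallyNoetherian (f.fiberToSpecResidueField y)

/-- The Prelude's relative assassin in terms of `FibAss`, at a point of a fibre. -/
theorem mem_relAss_iff (f : X ⟶ Y) [LocallyOfFiniteType f] (F : X.Modules) (y : Y)
    (a : ↥(f.fiber y)) :
    f.fiberι y a ∈ MoreMor.relAss f F ↔ FibAss f F (f.fiberι y a) := by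
  obtain ⟨hsurj, hker⟩ := Groth.Agent.H9.stalkMap_fiberι_surjective_and_ker_eq f y a
  haveI := isLocallyNoetherian_fiber f y
  haveI hN : IsNoetherianRing (X.presheaf.stalk (f.fiberι y a) ⧸
      Ideal.map (f.stalkMap (f.fiberι y a)).hom
        (maximalIdeal (Y.presheaf.stalk (f (f.fiberι y a))))) :=
    isNoetherianRing_of_ringEquiv _
      ((RingHom.quotientKerEquivOfSurjective hsurj).symm.trans (Ideal.quotEquivOfEq hker))
  show IsAssociatedPrime _ _ ↔ _
  rw [isAssociatedPrime_maximalIdeal_iff' _ (Ideal.map (f.stalkMap (f.fiberι y a)).hom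
        (maximalIdeal (Y.presheaf.stalk (f (f.fiberι y a)))))]
  · constructor
    · rintro ⟨q, hq0, hq⟩
      obtain ⟨n, rfl⟩ := Submodule.Quotient.mk_surjective _ q
      refine ⟨n, fun hn => hq0 ((Submodule.Quotient.mk_eq_zero _).mpr hn), fun b hb => ?_⟩
      have := hq b hb
      rwa [← Submodule.Quotient.mk_smul, Submodule.Quotient.mk_eq_zero] at this
    · rintro ⟨n, hn, hn'⟩
      refine ⟨Submodule.Quotient.mk n,
        fun h0 => hn ((Submodule.Quotient.mk_eq_zero _).mp h0), fun b hb => ?_⟩
      rw [← Submodule.Quotient.mk_smul, Submodule.Quotient.mk_eq_zero]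
      exact hn' b hb
  · intro r hr q
    obtain ⟨n, rfl⟩ := Submodule.Quotient.mk_surjective _ q
    rw [← Submodule.Quotient.mk_smul, Submodule.Quotient.mk_eq_zero]
    exact Submodule.smul_mem_smul hr Submodule.mem_top

/-- `FibAss` at a point of the fibre in terms of the stalk of the pullback to the fibre. -/
theorem fibAss_iff_hasSocle (f : X ⟶ Y) (F : X.Modules) [F.IsQuasicoherent] (y : Y)
    (a : ↥(f.fiber y)) :
    FibAss f F (f.fiberι y a) ↔ HasSocle ((f.fiber y).presheaf.stalk a)
      (((Scheme.Modules.pullback (f.fiberι y)).obj F).presheaf.stalk a) := by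
  obtain ⟨hsurj, hker⟩ := Groth.Agent.H9.stalkMap_fiberι_surjective_and_ker_eq f y a
  letI alg : Algebra (X.presheaf.stalk (f.fiberι y a)) ((f.fiber y).presheaf.stalk a) :=
    ((f.fiberι y).stalkMap a).hom.toAlgebra
  obtain ⟨e2⟩ := Groth.Agent.H8.nonempty_stalk_pullback_equiv (f.fiberι y) F a
  rw [hasSocle_congr e2,
    hasSocle_iff_of_surjective (B := X.presheaf.stalk (f.fiberι y a)) hsurj]
  exact (hasSocle_baseChange_iff (F.presheaf.stalk (f.fiberι y a)) hsurj _ hker).symm

section Flat

variable {W W' : Scheme.{u}}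

/-- Socles of the stalks of a flat pullback (EGA IV 3.3.1, pointwise). -/
theorem hasSocle_pullback_iff (Φ : W' ⟶ W) [Flat Φ] [IsLocallyNoetherian W] (E : W.Modules)
    [E.IsQuasicoherent] (w' : W') :
    HasSocle (W'.presheaf.stalk w') (((Scheme.Modules.pullback Φ).obj E).presheaf.stalk w') ↔
      HasSocle (W.presheaf.stalk (Φ w')) (E.presheaf.stalk (Φ w')) ∧
      (letI := (Φ.stalkMap w').hom.toAlgebra;
        FibreSocle (W.presheaf.stalk (Φ w')) (W'.presheaf.stalk w') (W'.presheaf.stalk w')) := by
  obtain ⟨e⟩ := Groth.Agent.H8.nonempty_stalk_pullback_equiv Φ E w'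
  letI := (Φ.stalkMap w').hom.toAlgebra
  haveI : IsLocalHom (algebraMap (W.presheaf.stalk (Φ w')) (W'.presheaf.stalk w')) :=
    (inferInstance : IsLocalHom (Φ.stalkMap w').hom)
  haveI : Module.Flat (W.presheaf.stalk (Φ w')) (W'.presheaf.stalk w') := Flat.stalkMap Φ w'
  rw [hasSocle_congr e]
  exact hasSocle_tensor_iff (A := W.presheaf.stalk (Φ w')) (B := W'.presheaf.stalk w')
    (W'.presheaf.stalk w') (E.presheaf.stalk (Φ w'))

/-- Membership in `J • ⊤` is invariant under linear equivalences. -/
theorem mem_smul_top_iff_of_linearEquiv {R M₁ M₂ : Type*} [CommRing R] [AddCommGroup M₁]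
    [Module R M₁] [AddCommGroup M₂] [Module R M₂] (e : M₁ ≃ₗ[R] M₂) (J : Ideal R) (m : M₁) :
    e m ∈ J • (⊤ : Submodule R M₂) ↔ m ∈ J • (⊤ : Submodule R M₁) := by
  have h : (J • (⊤ : Submodule R M₁)).map e.toLinearMap = J • (⊤ : Submodule R M₂) := by
    rw [Submodule.map_smul'', Submodule.map_top, LinearEquiv.range]
  rw [← h]
  constructor
  · rintro ⟨m', hm', he⟩
    have : m' = m := e.injective he
    rw [← this]
    exact hm'
  · intro hm
    exact ⟨m, hm, rfl⟩

/-- Every point of a locally Noetherian scheme `W'` over `W` has a generization in its fibre at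
which the fibre ring has a socle. -/
theorem exists_fibreSocle (Φ : W' ⟶ W) [IsLocallyNoetherian W'] (w₀ : W') :
    ∃ w' : W', Φ w' = Φ w₀ ∧
      (letI := (Φ.stalkMap w').hom.toAlgebra;
        FibreSocle (W.presheaf.stalk (Φ w')) (W'.presheaf.stalk w') (W'.presheaf.stalk w')) := by
  have hcoh := Groth.Agent.H8.isCoh_structureModule W'
  have hsupp : w₀ ∈ CohB1.support (Coh.structureModule W') := by
    intro hsub
    haveI := hsub
    have : Subsingleton (W'.presheaf.stalk w₀) :=
      (LinearEquiv.ofBijective (Groth.Agent.H2.ConnComp.L W' w₀)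
        (Groth.Agent.H2.ConnComp.L_bijective W' w₀)).toEquiv.subsingleton
    exact not_subsingleton _ this
  obtain ⟨x₀, -, hx₀, n, hn, hn'⟩ :=
    exists_fibAss_generization Φ (Coh.structureModule W') hcoh w₀ hsupp
  refine ⟨x₀, hx₀, ?_⟩
  letI := (Φ.stalkMap x₀).hom.toAlgebra
  let Le := LinearEquiv.ofBijective (Groth.Agent.H2.ConnComp.L W' x₀)
    (Groth.Agent.H2.ConnComp.L_bijective W' x₀)
  refine ⟨Le.symm n, ?_, ?_⟩
  · intro hmem
    apply hn
    have := (mem_smul_top_iff_of_linearEquiv Le _ (Le.symm n)).mpr hmem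
    rwa [LinearEquiv.apply_symm_apply] at this
  · intro b hb
    have h1 := hn' b hb
    have h2 : Le (b • Le.symm n) = b • n := by
      rw [map_smul, LinearEquiv.apply_symm_apply]
    rw [← h2] at h1
    exact (mem_smul_top_iff_of_linearEquiv Le _ _).mp h1

end Flat

section BaseChange

variable {X S X' S' : Scheme.{u}}

/-- Membership of a point of a fibre in the relative assassin in terms of the stalk of the pullback
to the fibre. -/
theorem mem_relAss_iff_hasSocle (f : X ⟶ S) [LocallyOfFiniteType f] (F : X.Modules)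
    [F.IsQuasicoherent] (y : S) (a : ↥(f.fiber y)) :
    f.fiberι y a ∈ MoreMor.relAss f F ↔ HasSocle ((f.fiber y).presheaf.stalk a)
      (((Scheme.Modules.pullback (f.fiberι y)).obj F).presheaf.stalk a) :=
  (mem_relAss_iff f F y a).trans (fibAss_iff_hasSocle f F y a)

set_option maxHeartbeats 1600000 in
/-- The relative assassin and base change, on the level of fibres (EGA IV 4.2.7 / 3.3.1): with
`Φ : X'_{s'} ⟶ X_s` the comparison map of fibres, `Ass(F'|X'_{s'})` maps onto `Ass(F|X_s)`. -/
theorem relAss_baseChange_core (f : X ⟶ S) [LocallyOfFiniteType f] (F : X.Modules)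
    [F.IsQuasicoherent] (g : S' ⟶ S) (f' : X' ⟶ S') [LocallyOfFiniteType f'] (g' : X' ⟶ X)
    (s' : S') (Φ : f'.fiber s' ⟶ f.fiber (g s'))
    (hsq : IsPullback Φ (f'.fiberToSpecResidueField s') (f.fiberToSpecResidueField (g s'))
      (Spec.map (g.residueFieldMap s')))
    (a3 : Φ ≫ f.fiberι (g s') = f'.fiberι s' ≫ g') :
    (∀ w' : ↥(f'.fiber s'),
        f'.fiberι s' w' ∈ MoreMor.relAss f' ((Scheme.Modules.pullback g').obj F) →
        f.fiberι (g s') (Φ w') ∈ MoreMor.relAss f F) ∧
    (∀ w : ↥(f.fiber (g s')), f.fiberι (g s') w ∈ MoreMor.relAss f F →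
        ∃ w' : ↥(f'.fiber s'), Φ w' = w ∧
          f'.fiberι s' w' ∈ MoreMor.relAss f' ((Scheme.Modules.pullback g').obj F)) := by
  have hfl1 : Flat (Spec.map (g.residueFieldMap s')) :=
    Groth.Agent.H57.FibCmp.flat_specMap_residueFieldMap g s'
  haveI hΦfl : Flat Φ := MorphismProperty.of_isPullback hsq.flip hfl1
  haveI := isLocallyNoetherian_fiber f (g s')
  haveI := isLocallyNoetherian_fiber f' s'
  haveI hqc' : ((Scheme.Modules.pullback g').obj F).IsQuasicoherent :=
    Groth.Agent.H8.isQuasicoherent_pullback _ F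
  haveI hqcE : ((Scheme.Modules.pullback (f.fiberι (g s'))).obj F).IsQuasicoherent :=
    Groth.Agent.H8.isQuasicoherent_pullback _ F
  have key : ∀ w' : ↥(f'.fiber s'),
      f'.fiberι s' w' ∈ MoreMor.relAss f' ((Scheme.Modules.pullback g').obj F) ↔
      HasSocle ((f'.fiber s').presheaf.stalk w') (((Scheme.Modules.pullback Φ).obj
        ((Scheme.Modules.pullback (f.fiberι (g s'))).obj F)).presheaf.stalk w') := by
    intro w'
    rw [mem_relAss_iff_hasSocle f' _ s' w']
    let e := Groth.Agent.H57.pullbackPullbackIso₂ (f'.fiberι s') g' Φ (f.fiberι (g s')) a3.symm F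
    exact hasSocle_congr (LinearEquiv.ofBijective (Groth.Agent.H17.StalkSeq.stalkMapₗ e.hom w')
      (Groth.Agent.H17.ReflSheaf.stalkMap_bijective_of_isIso e.hom w'))
  refine ⟨fun w' hw' => ?_, fun w hw => ?_⟩
  · rw [mem_relAss_iff_hasSocle f F (g s') (Φ w')]
    exact ((hasSocle_pullback_iff Φ _ w').mp ((key w').mp hw')).1
  · rw [mem_relAss_iff_hasSocle f F (g s') w] at hw
    obtain ⟨b⟩ : Nonempty ↥(Spec (S'.residueField s')) :=
      inferInstanceAs (Nonempty (PrimeSpectrum (S'.residueField s')))
    haveI : Subsingleton ↥(Spec (S.residueField (g s'))) :=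
      inferInstanceAs (Subsingleton (PrimeSpectrum (S.residueField (g s'))))
    obtain ⟨w'₀, hw'₀, -⟩ := Groth.Agent.H49.NearFibre.exists_preimage_of_isPullback hsq w b
      (Subsingleton.elim _ _)
    obtain ⟨w', hw'1, hw'2⟩ := exists_fibreSocle Φ w'₀
    have hw'w : Φ w' = w := hw'1.trans hw'₀
    subst hw'w
    exact ⟨w', rfl, (key w').mpr ((hasSocle_pullback_iff Φ _ w').mpr ⟨hw, hw'2⟩)⟩

end BaseChange

end Groth.Agent.H57.RelAssBC
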