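import Mathlib
import Groth.Agent.H57.FlatAtBC

/-!
# Flatness of a module at the primes above a closed set, along a flat ring map

`M` is a `B'`-module and `N = C' ⊗[B'] M` its base change along a flat map `B' → C'`; both rings are
`A'`-algebras. We compare flatness over `A'` of the localizations of `M` at primes of `B'` and of
`N` at primes of `C'`.
-/

universe u

open TensorProduct

namespace Groth.Agent.H57

/-- flat base change of kernels, in `IsBaseChange` form. -/
theorem mem_span_image_ker_of_flat {A A' : Type u} [CommRing A] [CommRing A'] [Algebra A A']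
    [Module.Flat A A']
    {X Y X' Y' : Type u} [AddCommGroup X] [Module A X] [AddCommGroup Y] [Module A Y]
    [AddCommGroup X'] [Module A X'] [Module A' X'] [IsScalarTower A A' X']
    [AddCommGroup Y'] [Module A Y'] [Module A' Y'] [IsScalarTower A A' Y']
    {g : X →ₗ[A] X'} (hg : IsBaseChange A' g) {h : Y →ₗ[A] Y'} (hh : IsBaseChange A' h)
    (θ : X →ₗ[A] Y) (θ' : X' →ₗ[A'] Y') (hθ : ∀ x, θ' (g x) = h (θ x))
    (x' : X') (hx' : θ' x' = 0) :
    x' ∈ Submodule.span A' (g '' (LinearMap.ker θ : Set X)) := by
  have hcomm : ∀ z : A' ⊗[A] X,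
      θ' (hg.equiv z) = hh.equiv (AlgebraTensorModule.lTensor A' A' θ z) := by
    intro z
    induction z using TensorProduct.induction_on with
    | zero => simp
    | tmul a x => simp [IsBaseChange.equiv_tmul, hθ]
    | add a b ha hb => simp only [map_add, ha, hb]
  have hz : hg.equiv.symm x' ∈ LinearMap.ker (AlgebraTensorModule.lTensor A' A' θ) := by
    rw [LinearMap.mem_ker]
    apply hh.equiv.injective
    rw [← hcomm, LinearEquiv.apply_symm_apply, hx', map_zero]
  rw [Module.Flat.ker_lTensor_eq A' A' θ] at hz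
  obtain ⟨w, hw⟩ := hz
  have hx'w : x' = hg.equiv (AlgebraTensorModule.lTensor A' A' (LinearMap.ker θ).subtype w) := by
    rw [hw, LinearEquiv.apply_symm_apply]
  rw [hx'w]
  clear hx'w hw
  induction w using TensorProduct.induction_on with
  | zero => simp
  | tmul a k =>
    simp only [AlgebraTensorModule.lTensor_tmul, Submodule.subtype_apply, IsBaseChange.equiv_tmul]
    exact Submodule.smul_mem _ _ (Submodule.subset_span ⟨k, k.2, rfl⟩)
  | add a b ha hb =>
    rw [map_add, map_add]
    exact Submodule.add_mem _ ha hb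

theorem algLTensor_apply {R S : Type u} [CommRing R] [CommRing S] [Algebra R S]
    (M : Type u) [AddCommGroup M] [Module R M] [Module S M] [IsScalarTower R S M]
    {P Q : Type u} [AddCommGroup P] [Module R P] [AddCommGroup Q] [Module R Q]
    (u : P →ₗ[R] Q) (z : M ⊗[R] P) :
    AlgebraTensorModule.lTensor S M u z = u.lTensor M z := by
  induction z using TensorProduct.induction_on with
  | zero => simp
  | tmul m p => simp
  | add a b ha hb => simp only [map_add, ha, hb]

section FlatCase

variable {A' B' C' : Type u} [CommRing A'] [CommRing B'] [CommRing C'] [Algebra A' B']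
  [Algebra A' C'] [Algebra B' C'] [IsScalarTower A' B' C'] [Module.Flat B' C']
  (M : Type u) [AddCommGroup M] [Module A' M] [Module B' M] [IsScalarTower A' B' M]
  (N : Type u) [AddCommGroup N] [Module A' N] [Module B' N] [Module C' N]
  [IsScalarTower A' B' N] [IsScalarTower A' C' N] [IsScalarTower B' C' N]
  (ψ : M →ₗ[B'] N)

omit [Module.Flat B' C'] in
theorem iota_naturality {P Q : Type u} [AddCommGroup P] [Module A' P] [AddCommGroup Q]
    [Module A' Q] (u : P →ₗ[A'] Q) (z : M ⊗[A'] P) :
    AlgebraTensorModule.lTensor C' N u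
      (AlgebraTensorModule.map ψ (LinearMap.id (R := A') (M := P)) z) =
    AlgebraTensorModule.map ψ (LinearMap.id (R := A') (M := Q))
      (AlgebraTensorModule.lTensor B' M u z) := by
  induction z using TensorProduct.induction_on with
  | zero => simp
  | tmul m p => simp
  | add a b ha hb => simp only [map_add, ha, hb]

variable (hψ : IsBaseChange C' ψ)
include hψ

theorem flatAbove_of_flatAbove_base_flat (IB : Ideal B') (IC : Ideal C')
    (h1 : IB.map (algebraMap B' C') ≤ IC)
    (h : ∀ (q : Ideal B') [q.IsPrime], IB ≤ q →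
      Module.Flat A' (LocalizedModule q.primeCompl M))
    (r : Ideal C') [r.IsPrime] (hr : IC ≤ r) :
    Module.Flat A' (LocalizedModule r.primeCompl N) := by
  have hq : IB ≤ r.comap (algebraMap B' C') := by
    rw [← Ideal.map_le_iff_le_comap]; exact h1.trans hr
  have hflat := h (r.comap (algebraMap B' C')) hq
  refine flat_localizedModule_of_forall (A := A') r.primeCompl N ?_
  intro P Q _ _ _ _ u hu x' hx'
  have hιP : IsBaseChange C' (AlgebraTensorModule.map ψ (LinearMap.id (R := A') (M := P))) :=
    isBaseChange_tensorProduct_map (R := A') (P := P) C' hψ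
  have hιQ : IsBaseChange C' (AlgebraTensorModule.map ψ (LinearMap.id (R := A') (M := Q))) :=
    isBaseChange_tensorProduct_map (R := A') (P := Q) C' hψ
  have hx'' : AlgebraTensorModule.lTensor C' N u x' = 0 := by
    rw [algLTensor_apply]; exact hx'
  have hmem := mem_span_image_ker_of_flat (A := B') (A' := C') hιP hιQ
    (AlgebraTensorModule.lTensor B' M u) (AlgebraTensorModule.lTensor C' N u)
    (iota_naturality M N ψ u) x' hx''
  refine Submodule.span_induction (p := fun y _ => ∃ t : r.primeCompl, t • y = 0) ?_ ?_ ?_ ?_ hmem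
  · rintro _ ⟨k, hk, rfl⟩
    have hk' : u.lTensor M k = 0 := by
      rw [← algLTensor_apply (S := B')]; exact hk
    obtain ⟨t, ht⟩ := exists_smul_eq_zero_of_lTensor_injective (A := A')
      (r.comap (algebraMap B' C')).primeCompl M u
      (Module.Flat.lTensor_preserves_injective_linearMap u hu) k hk'
    refine ⟨⟨algebraMap B' C' t, fun hmem => t.2 hmem⟩, ?_⟩
    show algebraMap B' C' (t : B') • (AlgebraTensorModule.map ψ LinearMap.id k) = 0
    have ht' : (t : B') • k = 0 := ht
    rw [algebraMap_smul, ← map_smul, ht', map_zero]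
  · exact ⟨1, smul_zero _⟩
  · rintro y z _ _ ⟨s, hs⟩ ⟨t, ht⟩
    refine ⟨s * t, ?_⟩
    rw [smul_add, mul_smul s t z, ht, smul_zero, add_zero, mul_comm, mul_smul, hs, smul_zero]
  · rintro a y _ ⟨t, ht⟩
    refine ⟨t, ?_⟩
    have ht' : (t : C') • y = 0 := ht
    show (t : C') • a • y = 0
    rw [smul_comm, ht', smul_zero]

theorem flatAbove_base_of_flatAbove_flat (IB : Ideal B') (IC : Ideal C')
    (h3 : ∀ (q : Ideal B') [q.IsPrime], IB ≤ q → q.map (algebraMap B' C') ⊔ IC ≠ ⊤)
    (h : ∀ (r : Ideal C') [r.IsPrime], IC ≤ r →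
      Module.Flat A' (LocalizedModule r.primeCompl N))
    (q : Ideal B') [q.IsPrime] (hq : IB ≤ q) :
    Module.Flat A' (LocalizedModule q.primeCompl M) := by
  refine flat_localizedModule_of_forall (A := A') q.primeCompl M ?_
  intro P Q _ _ _ _ u hu x hx
  by_contra hcon
  have hcon' : ∀ t : q.primeCompl, t • x ≠ 0 := fun t ht => hcon ⟨t, ht⟩
  obtain ⟨r, hrmax, hr⟩ := Ideal.exists_le_maximal _ (h3 q hq)
  haveI : r.IsPrime := hrmax.isPrime
  have hflat := h r (le_sup_right.trans hr)
  have hιP : IsBaseChange C' (AlgebraTensorModule.map ψ (LinearMap.id (R := A') (M := P))) :=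
    isBaseChange_tensorProduct_map (R := A') (P := P) C' hψ
  have hx' : u.lTensor N (AlgebraTensorModule.map ψ (LinearMap.id (R := A') (M := P)) x) = 0 := by
    rw [← algLTensor_apply (S := C'), iota_naturality, algLTensor_apply, hx, map_zero]
  obtain ⟨c, hc⟩ := exists_smul_eq_zero_of_lTensor_injective (A := A') r.primeCompl N u
    (Module.Flat.lTensor_preserves_injective_linearMap u hu) _ hx'
  have hc' : (c : C') • (AlgebraTensorModule.map ψ (LinearMap.id (R := A') (M := P)) x) = 0 := hc
  have hφ : ∀ b : B', (LinearMap.toSpanSingleton C' (N ⊗[A'] P)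
      (AlgebraTensorModule.map ψ (LinearMap.id (R := A') (M := P)) x))
      (Algebra.linearMap B' C' b) =
      AlgebraTensorModule.map ψ (LinearMap.id (R := A') (M := P))
        (LinearMap.toSpanSingleton B' (M ⊗[A'] P) x b) := by
    intro b
    rw [LinearMap.toSpanSingleton_apply, LinearMap.toSpanSingleton_apply, Algebra.linearMap_apply,
      algebraMap_smul, map_smul]
  have hmem := mem_span_image_ker_of_flat (A := B') (A' := C') (IsBaseChange.linearMap B' C') hιP
    (LinearMap.toSpanSingleton B' (M ⊗[A'] P) x)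
    (LinearMap.toSpanSingleton C' (N ⊗[A'] P)
      (AlgebraTensorModule.map ψ (LinearMap.id (R := A') (M := P)) x)) hφ (c : C')
    (by rw [LinearMap.toSpanSingleton_apply]; exact hc')
  have hle : Submodule.span C' ((Algebra.linearMap B' C') ''
      (LinearMap.ker (LinearMap.toSpanSingleton B' (M ⊗[A'] P) x) : Set B')) ≤
      q.map (algebraMap B' C') := by
    refine Submodule.span_le.mpr ?_
    rintro _ ⟨b, hb, rfl⟩
    refine Ideal.mem_map_of_mem _ ?_
    by_contra hbq
    refine hcon' ⟨b, hbq⟩ ?_
    have hb' : LinearMap.toSpanSingleton B' (M ⊗[A'] P) x b = 0 := hb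
    rw [LinearMap.toSpanSingleton_apply] at hb'
    exact hb'
  exact c.2 (hr (Ideal.mem_sup_left (hle hmem)))

end FlatCase

end Groth.Agent.H57
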