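import Mathlib
import Groth.Agent.H25.TensorFieldsAss
import Groth.Agent.H7.SocleFlat

/-!
# A localized form of "no embedded primes"

`NoEmbLoc R`: every prime `Q` of `R` such that `R_Q` has a socle element is a minimal prime. This
form needs no Noetherian hypothesis on `R`, holds for flat integral algebras over domains, hence
for tensor products of fields (following helper25's `TensorFieldsAss`).
-/

set_option autoImplicit false
set_option linter.style.haveILetI false

universe u

open TensorProduct IsLocalRing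

namespace Groth.Agent.H57.NoEmbLoc

open Groth.Agent.H7.SocleFlat

/-- Every prime `Q` such that some `r/1 ≠ 0` of `R_Q` is killed by `Q R_Q` is a minimal prime. -/
def NoEmbLoc (R : Type*) [CommRing R] : Prop :=
  ∀ (Q : Ideal R), Q.IsPrime → ∀ r : R, (∀ u : R, u ∉ Q → u * r ≠ 0) →
    (∀ q ∈ Q, ∃ u : R, u ∉ Q ∧ u * q * r = 0) → Q ∈ minimalPrimes R

/-- A flat integral algebra over a domain satisfies `NoEmbLoc`. -/
theorem noEmbLoc_of_flat_integral (D R : Type*) [CommRing D] [IsDomain D] [CommRing R]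
    [Algebra D R] [Module.Flat D R] [Algebra.IsIntegral D R] : NoEmbLoc R := by
  intro Q hQ r h1 h2
  haveI := hQ
  have hbot : Q.comap (algebraMap D R) = ⊥ := by
    rw [eq_bot_iff]
    intro d hd
    rw [Ideal.mem_bot]
    by_contra hd0
    obtain ⟨u, hu, hu0⟩ := h2 (algebraMap D R d) hd
    have hreg : IsSMulRegular R d :=
      Module.Flat.isSMulRegular_of_nonZeroDivisors (mem_nonZeroDivisors_of_ne_zero hd0)
    have h3 : d • (u * r) = d • (0 : R) := by
      rw [Algebra.smul_def, smul_zero, ← hu0]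
      ring
    exact h1 u hu (hreg h3)
  refine ⟨⟨hQ, bot_le⟩, ?_⟩
  rintro P ⟨hPprime, -⟩ hPQ
  by_contra hne
  have hlt : P < Q := lt_of_le_of_ne hPQ (fun h => hne h.ge)
  haveI := hPprime
  have h3 := Ideal.IsIntegral.comap_lt_comap (R := D) hlt
  rw [hbot] at h3
  exact not_lt_bot h3

/-- `NoEmbLoc` is invariant under ring isomorphisms. -/
theorem noEmbLoc_of_ringEquiv {R S : Type*} [CommRing R] [CommRing S] (e : R ≃+* S)
    (h : NoEmbLoc S) : NoEmbLoc R := by
  intro Q hQ r h1 h2
  haveI := hQ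
  have hQ' : (Q.comap e.symm.toRingHom).IsPrime := Ideal.comap_isPrime _ _
  have hA : ∀ u' : S, u' ∉ Q.comap e.symm.toRingHom → u' * e r ≠ 0 := by
    intro u' hu' h0
    refine h1 (e.symm u') (fun hmem => hu' ?_) ?_
    · rw [Ideal.mem_comap]
      exact hmem
    · apply e.injective
      rw [map_mul, RingEquiv.apply_symm_apply, h0, map_zero]
  have hB : ∀ q' ∈ Q.comap e.symm.toRingHom,
      ∃ u' : S, u' ∉ Q.comap e.symm.toRingHom ∧ u' * q' * e r = 0 := by
    intro q' hq'
    rw [Ideal.mem_comap] at hq'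
    obtain ⟨u, hu, hu0⟩ := h2 (e.symm q') hq'
    refine ⟨e u, fun hmem => hu ?_, ?_⟩
    · rw [Ideal.mem_comap] at hmem
      have h3 : e.symm (e u) ∈ Q := hmem
      rwa [RingEquiv.symm_apply_apply] at h3
    · have h3 := congrArg e hu0
      rwa [map_mul, map_mul, RingEquiv.apply_symm_apply, map_zero] at h3
  have hmin := h (Q.comap e.symm.toRingHom) hQ' (e r) hA hB
  refine ⟨⟨hQ, bot_le⟩, ?_⟩
  rintro P ⟨hPprime, -⟩ hPQ
  haveI := hPprime
  have h3 : Q.comap e.symm.toRingHom ≤ P.comap e.symm.toRingHom :=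
    hmin.2 ⟨Ideal.comap_isPrime _ _, bot_le⟩ (Ideal.comap_mono hPQ)
  intro a ha
  have h4 : e a ∈ Q.comap e.symm.toRingHom := by
    rw [Ideal.mem_comap]
    show e.symm (e a) ∈ Q
    rw [RingEquiv.symm_apply_apply]
    exact ha
  have h5 := h3 h4
  rw [Ideal.mem_comap] at h5
  have h6 : e.symm (e a) ∈ P := h5
  rwa [RingEquiv.symm_apply_apply] at h6

/-- If `K/F` is algebraic and `F ⊗[k] L` is a domain then `K ⊗[k] L` satisfies `NoEmbLoc`. -/
theorem noEmbLoc_tensor_of_isDomain (k F K L : Type u) [Field k] [Field F] [Field K]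
    [Field L] [Algebra k F] [Algebra F K] [Algebra k K] [IsScalarTower k F K] [Algebra k L]
    [Algebra.IsAlgebraic F K] (hD : IsDomain (F ⊗[k] L)) : NoEmbLoc (K ⊗[k] L) := by
  haveI : Algebra.IsIntegral F K := Algebra.IsAlgebraic.isIntegral
  let e : (F ⊗[k] L) ⊗[F] K ≃+* K ⊗[k] L :=
    ((Algebra.TensorProduct.comm F (F ⊗[k] L) K).trans
      (Algebra.TensorProduct.cancelBaseChange k F F K L)).toRingEquiv
  exact noEmbLoc_of_ringEquiv e.symm
    (noEmbLoc_of_flat_integral (F ⊗[k] L) ((F ⊗[k] L) ⊗[F] K))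

/-- The tensor product of two field extensions satisfies `NoEmbLoc`. -/
theorem noEmbLoc_tensor_fields (k K L : Type u) [Field k] [Field K] [Field L]
    [Algebra k K] [Algebra k L] : NoEmbLoc (K ⊗[k] L) := by
  obtain ⟨ι, x, hx⟩ := exists_isTranscendenceBasis' k K
  haveI halg : Algebra.IsAlgebraic (IntermediateField.adjoin k (Set.range x)) K :=
    hx.isAlgebraic_field
  have hD : IsDomain ((IntermediateField.adjoin k (Set.range x)) ⊗[k] L) := by
    haveI := Groth.Agent.H25.TensorFieldsAss.isDomain_fractionRing_mvPolynomial_tensor k L ι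
    let ψ : (IntermediateField.adjoin k (Set.range x)) ⊗[k] L ≃ₐ[k]
        FractionRing (MvPolynomial ι k) ⊗[k] L :=
      Algebra.TensorProduct.congr hx.1.aevalEquivField.symm AlgEquiv.refl
    exact Groth.Agent.H25.TensorFieldsAss.isDomain_of_ringEquiv
      (A := (IntermediateField.adjoin k (Set.range x)) ⊗[k] L)
      (B := FractionRing (MvPolynomial ι k) ⊗[k] L) ψ.toRingEquiv
  exact noEmbLoc_tensor_of_isDomain k (IntermediateField.adjoin k (Set.range x)) K L hD

/-- The same with the field structures given as `IsField` hypotheses on commutative rings. -/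
theorem noEmbLoc_tensor_of_isField (k K L : Type u) [CommRing k] [CommRing K] [CommRing L]
    [Algebra k K] [Algebra k L] (hk : IsField k) (hK : IsField K) (hL : IsField L) :
    NoEmbLoc (K ⊗[k] L) := by
  letI := hk.toField
  letI := hK.toField
  letI := hL.toField
  exact @noEmbLoc_tensor_fields k K L _ _ _ ‹Algebra k K› ‹Algebra k L›

/-- If the localization of `R` at `Q` has a socle and `R` satisfies `NoEmbLoc`, then `Q` is a
minimal prime. -/
theorem mem_minimalPrimes_of_hasSocle {R : Type*} [CommRing R] (hR : NoEmbLoc R) (Q : Ideal R)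
    [Q.IsPrime] (A : Type*) [CommRing A] [Algebra R A] [IsLocalization.AtPrime A Q]
    [IsLocalRing A] (h : HasSocle A A) : Q ∈ minimalPrimes R := by
  obtain ⟨c, hc0, hc⟩ := h
  obtain ⟨r, t, rfl⟩ := IsLocalization.exists_mk'_eq Q.primeCompl c
  refine hR Q inferInstance r ?_ ?_
  · intro u hu h0
    apply hc0
    rw [IsLocalization.mk'_eq_zero_iff]
    exact ⟨⟨u, hu⟩, h0⟩
  · intro q hq
    have hq' : algebraMap R A q ∈ maximalIdeal A := by
      rw [mem_maximalIdeal, mem_nonunits_iff, IsLocalization.AtPrime.isUnit_to_map_iff A Q q]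
      exact fun hmem => hmem hq
    have h1 := hc _ hq'
    rw [smul_eq_mul, IsLocalization.mul_mk'_eq_mk'_of_mul, IsLocalization.mk'_eq_zero_iff] at h1
    obtain ⟨m, hm⟩ := h1
    exact ⟨m.1, m.2, by rw [mul_assoc]; exact hm⟩

/-- If a power of the maximal ideal lies in the proper ideal `J`, then the quotient by `J` has a
socle. -/
theorem exists_socle_mod {B : Type*} [CommRing B] [IsLocalRing B] (J : Ideal B) (hJ : J ≠ ⊤)
    (n : ℕ) (hn : maximalIdeal B ^ n ≤ J) :
    ∃ r : B, r ∉ J ∧ ∀ b ∈ maximalIdeal B, b * r ∈ J := by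
  classical
  have hP : ∃ n : ℕ, maximalIdeal B ^ n ≤ J := ⟨n, hn⟩
  have hmin := @Nat.find_min _ _ hP
  have hspec := Nat.find_spec hP
  cases hk : Nat.find hP with
  | zero =>
    exfalso
    rw [hk, pow_zero, Ideal.one_eq_top] at hspec
    exact hJ (top_le_iff.mp hspec)
  | succ k =>
    have hk' : ¬ maximalIdeal B ^ k ≤ J := hmin (by rw [hk]; exact Nat.lt_succ_self k)
    rw [hk] at hspec
    obtain ⟨r, hr, hrJ⟩ := SetLike.not_le_iff_exists.mp hk'
    exact ⟨r, hrJ, fun b hb => hspec (by rw [pow_succ']; exact Ideal.mul_mem_mul hb hr)⟩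

/-- The socle condition of a local ring over itself is invariant under ring isomorphisms. -/
theorem hasSocle_self_of_ringEquiv {A B : Type*} [CommRing A] [CommRing B] [IsLocalRing A]
    [IsLocalRing B] (e : A ≃+* B) (h : HasSocle B B) : HasSocle A A := by
  obtain ⟨c, hc0, hc⟩ := h
  refine ⟨e.symm c, fun h0 => hc0 ?_, fun a ha => ?_⟩
  · have := congrArg e h0
    rwa [RingEquiv.apply_symm_apply, map_zero] at this
  · have ha' : e a ∈ maximalIdeal B := by
      rw [mem_maximalIdeal, mem_nonunits_iff] at ha ⊢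
      intro hu
      apply ha
      have := hu.map e.symm
      rwa [RingEquiv.symm_apply_apply] at this
    have h1 := hc _ ha'
    rw [smul_eq_mul] at h1 ⊢
    apply e.injective
    rw [map_mul, RingEquiv.apply_symm_apply, h1, map_zero]

end Groth.Agent.H57.NoEmbLoc
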