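import Mathlib
import Groth.Agent.H57.RelAssBC
import Groth.Agent.H57.NoEmbLoc
import Groth.Prelude.Def_CurvBase

/-!
# Associated points of fibres under base change (EGA IV 4.2.7 type statements)

* `hasSocle_fibre_baseChange_iff`: socle of the stalk of `F'|X'_{s'}` at `w'` iff socle of
  `F|X_s` at `Φ w'` and a socle of the fibre ring of `Φ : X'_{s'} ⟶ X_s` at `w'`.
* `eq_of_specializes_of_fibreSocle` / `fibreSocle_of_forall_eq`: for `Φ` a base change of an
  extension of fields, the fibre ring of `Φ` at `w'` has a socle iff `w'` is maximal under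
  generization in its `Φ`-fibre.
* `isAssPoint_baseChange_iff_core`: the resulting description of the associated points of
  `F'|X'_{s'}`.
-/

set_option autoImplicit false
set_option linter.style.haveILetI false

universe u

open AlgebraicGeometry CategoryTheory Limits TensorProduct IsLocalRing

namespace Groth.Agent.H57.RelAssBC

open Groth.Agent.H7.SocleFlat Groth.Agent.H7.AssTensorFlat Groth.Agent.H57.NoEmbLoc

section Core

variable {X S X' S' : Scheme.{u}}

set_option maxHeartbeats 1600000 in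
/-- Socles of the stalks of the restriction to fibres, under base change. -/
theorem hasSocle_fibre_baseChange_iff (f : X ⟶ S) [LocallyOfFiniteType f] (F : X.Modules)
    [F.IsQuasicoherent] (g : S' ⟶ S) (f' : X' ⟶ S') (g' : X' ⟶ X)
    (s' : S') (Φ : f'.fiber s' ⟶ f.fiber (g s'))
    (hsq : IsPullback Φ (f'.fiberToSpecResidueField s') (f.fiberToSpecResidueField (g s'))
      (Spec.map (g.residueFieldMap s')))
    (a3 : Φ ≫ f.fiberι (g s') = f'.fiberι s' ≫ g') (w' : ↥(f'.fiber s')) :
    HasSocle ((f'.fiber s').presheaf.stalk w')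
        (((Scheme.Modules.pullback (f'.fiberι s')).obj
          ((Scheme.Modules.pullback g').obj F)).presheaf.stalk w') ↔
      HasSocle ((f.fiber (g s')).presheaf.stalk (Φ w'))
          (((Scheme.Modules.pullback (f.fiberι (g s'))).obj F).presheaf.stalk (Φ w')) ∧
        (letI := (Φ.stalkMap w').hom.toAlgebra;
          FibreSocle ((f.fiber (g s')).presheaf.stalk (Φ w')) ((f'.fiber s').presheaf.stalk w')
            ((f'.fiber s').presheaf.stalk w')) := by
  have hfl1 : Flat (Spec.map (g.residueFieldMap s')) :=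
    Groth.Agent.H57.FibCmp.flat_specMap_residueFieldMap g s'
  haveI hΦfl : Flat Φ := MorphismProperty.of_isPullback hsq.flip hfl1
  haveI := isLocallyNoetherian_fiber f (g s')
  haveI hqcE : ((Scheme.Modules.pullback (f.fiberι (g s'))).obj F).IsQuasicoherent :=
    Groth.Agent.H8.isQuasicoherent_pullback _ F
  let e := Groth.Agent.H57.pullbackPullbackIso₂ (f'.fiberι s') g' Φ (f.fiberι (g s')) a3.symm F
  rw [hasSocle_congr (LinearEquiv.ofBijective (Groth.Agent.H17.StalkSeq.stalkMapₗ e.hom w')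
      (Groth.Agent.H17.ReflSheaf.stalkMap_bijective_of_isIso e.hom w'))]
  exact hasSocle_pullback_iff Φ _ w'

end Core

section FibreMax

variable {W W' : Scheme.{u}}

/-- A socle of the fibre ring `O_{W',w'} / m_w O_{W',w'}` gives a socle of the local ring of the
fibre of `Φ` at the corresponding point. -/
theorem hasSocle_fiber_stalk_of_fibreSocle (Φ : W' ⟶ W) (w : W) (a' : ↥(Φ.fiber w))
    (h : letI := (Φ.stalkMap (Φ.fiberι w a')).hom.toAlgebra;
      FibreSocle (W.presheaf.stalk (Φ (Φ.fiberι w a'))) (W'.presheaf.stalk (Φ.fiberι w a'))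
        (W'.presheaf.stalk (Φ.fiberι w a'))) :
    HasSocle ((Φ.fiber w).presheaf.stalk a') ((Φ.fiber w).presheaf.stalk a') := by
  obtain ⟨hsurj, hker⟩ := Groth.Agent.H9.stalkMap_fiberι_surjective_and_ker_eq Φ w a'
  letI := (Φ.stalkMap (Φ.fiberι w a')).hom.toAlgebra
  obtain ⟨n, hn, hn'⟩ := h
  have hmem : ∀ b : W'.presheaf.stalk (Φ.fiberι w a'),
      b ∈ (Ideal.map (algebraMap (W.presheaf.stalk (Φ (Φ.fiberι w a')))
          (W'.presheaf.stalk (Φ.fiberι w a')))
        (maximalIdeal (W.presheaf.stalk (Φ (Φ.fiberι w a'))))) •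
          (⊤ : Submodule (W'.presheaf.stalk (Φ.fiberι w a'))
            (W'.presheaf.stalk (Φ.fiberι w a'))) ↔
      ((Φ.fiberι w).stalkMap a').hom b = 0 := by
    intro b
    have hk : RingHom.ker ((Φ.fiberι w).stalkMap a').hom =
        Ideal.map (algebraMap (W.presheaf.stalk (Φ (Φ.fiberι w a')))
          (W'.presheaf.stalk (Φ.fiberι w a')))
        (maximalIdeal (W.presheaf.stalk (Φ (Φ.fiberι w a')))) := hker
    rw [← hk, Ideal.smul_eq_mul, Ideal.mul_top, RingHom.mem_ker]
  refine ⟨((Φ.fiberι w).stalkMap a').hom n, fun h0 => hn ((hmem n).mpr h0), fun c hc => ?_⟩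
  obtain ⟨b, rfl⟩ := hsurj c
  have hb : b ∈ maximalIdeal (W'.presheaf.stalk (Φ.fiberι w a')) := by
    rw [mem_maximalIdeal, mem_nonunits_iff] at hc ⊢
    exact fun hu => hc (hu.map _)
  rw [smul_eq_mul, ← map_mul]
  exact (hmem _).mp (hn' b hb)

/-- On a scheme isomorphic to the spectrum of a ring with `NoEmbLoc`, a point whose local ring
has a socle has no proper generization. -/
theorem eq_of_specializes_of_hasSocle_of_iso {Z : Scheme.{u}} (E : Type u) [CommRing E]
    (hE : NoEmbLoc E) (i : Z ≅ Spec (CommRingCat.of E)) (a' : Z)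
    (h : HasSocle (Z.presheaf.stalk a') (Z.presheaf.stalk a')) (a'' : Z) (hspec : a'' ⤳ a') :
    a'' = a' := by
  let Q : ↥(Spec (CommRingCat.of E)) := i.hom a'
  let e : (Spec (CommRingCat.of E)).presheaf.stalk (i.hom a') ≃+* Z.presheaf.stalk a' :=
    (asIso (i.hom.stalkMap a')).commRingCatIsoToRingEquiv
  have h1 : HasSocle ((Spec (CommRingCat.of E)).presheaf.stalk Q)
      ((Spec (CommRingCat.of E)).presheaf.stalk Q) := hasSocle_self_of_ringEquiv e h
  letI : Algebra E ((Spec (CommRingCat.of E)).presheaf.stalk Q) :=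
    StructureSheaf.stalkAlgebra E Q
  haveI hQprime : Q.asIdeal.IsPrime := Q.isPrime
  haveI : IsLocalization.AtPrime ((Spec (CommRingCat.of E)).presheaf.stalk Q) Q.asIdeal :=
    StructureSheaf.IsLocalization.to_stalk E Q
  have hmin : Q.asIdeal ∈ minimalPrimes E :=
    mem_minimalPrimes_of_hasSocle hE Q.asIdeal _ h1
  have h2 : i.hom a'' ⤳ i.hom a' := hspec.map i.hom.continuous
  have hle : (i.hom a'').asIdeal ≤ Q.asIdeal := (PrimeSpectrum.le_iff_specializes _ _).mpr h2
  have hge : Q.asIdeal ≤ (i.hom a'').asIdeal := hmin.2 ⟨(i.hom a'').isPrime, bot_le⟩ hle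
  have heq : i.hom a'' = i.hom a' := PrimeSpectrum.ext (le_antisymm hle hge)
  exact i.hom.isOpenEmbedding.injective heq

/-- The fibres of a base change of an extension of fields are spectra of tensor products of
fields, which satisfy `NoEmbLoc`. -/
theorem exists_fiber_iso_spec_noEmbLoc {k k' : CommRingCat.{u}} (hk : IsField k)
    (hk' : IsField k') (Φ : W' ⟶ W) (p' : W' ⟶ Spec k') (p : W ⟶ Spec k) (ρ : k ⟶ k')
    (hsq : IsPullback Φ p' p (Spec.map ρ)) (w : W) :
    ∃ (E : Type u) (_ : CommRing E), NoEmbLoc E ∧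
      Nonempty ((Φ.fiber w : Scheme.{u}) ≅ Spec (CommRingCat.of E)) := by
  let θ : k ⟶ W.residueField w := Spec.preimage (W.fromSpecResidueField w ≫ p)
  have hθ : Spec.map θ = W.fromSpecResidueField w ≫ p := Spec.map_preimage _
  have hZ : IsPullback (Φ.fiberι w) (Φ.fiberToSpecResidueField w) Φ
      (W.fromSpecResidueField w) := IsPullback.of_hasPullback _ _
  have hZ' : IsPullback (Φ.fiberι w ≫ p') (Φ.fiberToSpecResidueField w) (Spec.map ρ)
      (Spec.map θ) := by
    rw [hθ]
    exact hZ.paste_horiz hsq.flip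
  letI : Algebra k k' := ρ.hom.toAlgebra
  letI : Algebra k (W.residueField w) := θ.hom.toAlgebra
  have hK : IsField (W.residueField w) := Field.toIsField _
  exact ⟨k' ⊗[k] (W.residueField w), inferInstance,
    noEmbLoc_tensor_of_isField k k' (W.residueField w) hk hk' hK,
    ⟨hZ'.isoPullback ≪≫ pullbackSpecIso k k' (W.residueField w)⟩⟩

/-- For `Φ` a base change of an extension of fields: if the fibre ring of `Φ` at `w'` has a socle,
then `w'` is maximal under generization in its `Φ`-fibre. -/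
theorem eq_of_specializes_of_fibreSocle {k k' : CommRingCat.{u}} (hk : IsField k)
    (hk' : IsField k') (Φ : W' ⟶ W) (p' : W' ⟶ Spec k') (p : W ⟶ Spec k) (ρ : k ⟶ k')
    (hsq : IsPullback Φ p' p (Spec.map ρ)) (w' : W')
    (h : letI := (Φ.stalkMap w').hom.toAlgebra;
      FibreSocle (W.presheaf.stalk (Φ w')) (W'.presheaf.stalk w') (W'.presheaf.stalk w'))
    (w'' : W') (h1 : Φ w'' = Φ w') (h2 : w'' ⤳ w') : w'' = w' := by
  have key : ∀ (w : W) (a' : ↥(Φ.fiber w)) (w₁ : W'), Φ.fiberι w a' = w₁ →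
      (letI := (Φ.stalkMap w₁).hom.toAlgebra;
        FibreSocle (W.presheaf.stalk (Φ w₁)) (W'.presheaf.stalk w₁) (W'.presheaf.stalk w₁)) →
      ∀ w₂ : W', Φ w₂ = Φ w₁ → w₂ ⤳ w₁ → w₂ = w₁ := by
    intro w a' w₁ e
    subst e
    intro hs w₂ h1 h2
    have hw : Φ (Φ.fiberι w a') = w := by
      have h3 : Φ.fiberι w a' ∈ Set.range (Φ.fiberι w) := Set.mem_range_self a'
      rw [Scheme.Hom.range_fiberι] at h3
      exact h3
    obtain ⟨a'', ha''⟩ : ∃ a'' : ↥(Φ.fiber w), Φ.fiberι w a'' = w₂ :=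
      ⟨(Φ.fiberHomeo w).symm ⟨w₂, h1.trans hw⟩,
        Φ.fiberι_fiberHomeo_symm w ⟨w₂, h1.trans hw⟩⟩
    subst ha''
    have h3 : a'' ⤳ a' := (Φ.fiberι w).isEmbedding.isInducing.specializes_iff.mp h2
    obtain ⟨E, _, hE, ⟨i⟩⟩ := exists_fiber_iso_spec_noEmbLoc hk hk' Φ p' p ρ hsq w
    have h4 := eq_of_specializes_of_hasSocle_of_iso E hE i a'
      (hasSocle_fiber_stalk_of_fibreSocle Φ w a' hs) a'' h3
    rw [h4]
  exact key (Φ w') (Φ.asFiber w') w' (Φ.fiberι_asFiber w') h w'' h1 h2

/-- If `w'` is maximal under generization in its `Φ`-fibre, the fibre ring of `Φ` at `w'` has a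
socle (`W'` locally Noetherian). -/
theorem fibreSocle_of_forall_eq (Φ : W' ⟶ W) [IsLocallyNoetherian W'] (w' : W')
    (hmax : ∀ w'' : W', Φ w'' = Φ w' → w'' ⤳ w' → w'' = w') :
    (letI := (Φ.stalkMap w').hom.toAlgebra;
      FibreSocle (W.presheaf.stalk (Φ w')) (W'.presheaf.stalk w') (W'.presheaf.stalk w')) := by
  letI := (Φ.stalkMap w').hom.toAlgebra
  obtain ⟨J, hJdef⟩ : ∃ J : Ideal (W'.presheaf.stalk w'),
      J = Ideal.map (algebraMap (W.presheaf.stalk (Φ w')) (W'.presheaf.stalk w'))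
        (maximalIdeal (W.presheaf.stalk (Φ w'))) := ⟨_, rfl⟩
  have hloc : ∀ a ∈ maximalIdeal (W.presheaf.stalk (Φ w')),
      (Φ.stalkMap w').hom a ∈ maximalIdeal (W'.presheaf.stalk w') := by
    intro a ha
    rw [mem_maximalIdeal, mem_nonunits_iff] at ha ⊢
    exact fun hu => ha (isUnit_of_map_unit (Φ.stalkMap w').hom a hu)
  have hJle : J ≤ maximalIdeal (W'.presheaf.stalk w') := by
    rw [hJdef, Ideal.map_le_iff_le_comap]
    intro a ha
    exact hloc a ha
  have hprime : ∀ P : Ideal (W'.presheaf.stalk w'), P.IsPrime → J ≤ P →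
      P = maximalIdeal (W'.presheaf.stalk w') := by
    intro P hP hJP
    let Pt : ↥(Spec (W'.presheaf.stalk w')) := ⟨P, hP⟩
    have hgen : W'.fromSpecStalk w' Pt ⤳ w' := by
      have h3 : W'.fromSpecStalk w' Pt ∈ Set.range (W'.fromSpecStalk w') := Set.mem_range_self Pt
      rw [Scheme.range_fromSpecStalk] at h3
      exact h3
    have hcomap : Spec.map (Φ.stalkMap w') Pt = closedPoint (W.presheaf.stalk (Φ w')) := by
      apply PrimeSpectrum.ext
      have hle : maximalIdeal (W.presheaf.stalk (Φ w')) ≤ Ideal.comap (Φ.stalkMap w').hom P := by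
        rw [hJdef] at hJP
        exact Ideal.map_le_iff_le_comap.mp hJP
      exact ((maximalIdeal.isMaximal _).eq_of_le (Ideal.comap_ne_top _ hP.ne_top) hle).symm
    have hΦ : Φ (W'.fromSpecStalk w' Pt) = Φ w' := by
      have h4 := congr(($(Scheme.SpecMap_stalkMap_fromSpecStalk (f := Φ) (x := w'))) Pt)
      have h5 : Φ (W'.fromSpecStalk w' Pt) =
          W.fromSpecStalk (Φ w') (Spec.map (Φ.stalkMap w') Pt) := h4.symm
      rw [h5, hcomap]
      exact Scheme.fromSpecStalk_closedPoint
    have heq := hmax _ hΦ hgen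
    have h6 : Pt = closedPoint (W'.presheaf.stalk w') :=
      (W'.fromSpecStalk w').isEmbedding.injective
        (heq.trans Scheme.fromSpecStalk_closedPoint.symm)
    exact congrArg PrimeSpectrum.asIdeal h6
  have hrad : J.radical = maximalIdeal (W'.presheaf.stalk w') := by
    rw [Ideal.radical_eq_sInf]
    apply le_antisymm
    · exact sInf_le ⟨hJle, (maximalIdeal.isMaximal _).isPrime⟩
    · apply le_sInf
      rintro P ⟨hJP, hP⟩
      rw [hprime P hP hJP]
  obtain ⟨n, hn⟩ := J.exists_radical_pow_le_of_fg (IsNoetherian.noetherian _)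
  rw [hrad] at hn
  have hJtop : J ≠ ⊤ := fun h =>
    (maximalIdeal.isMaximal (W'.presheaf.stalk w')).ne_top (top_le_iff.mp (h ▸ hJle))
  obtain ⟨r, hr, hr'⟩ := exists_socle_mod J hJtop n hn
  have hJtop' : J • (⊤ : Submodule (W'.presheaf.stalk w') (W'.presheaf.stalk w')) = J := by
    rw [Ideal.smul_eq_mul, Ideal.mul_top]
  refine ⟨r, ?_, fun b hb => ?_⟩
  · rw [← hJdef, hJtop']
    exact hr
  · rw [← hJdef, hJtop', smul_eq_mul]
    exact hr' b hb

end FibreMax

section Main

variable {X S X' S' : Scheme.{u}}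

/-- Transport of associated points of fibres along an equality of base points. -/
theorem isAssPoint_fiber_congr (f : X ⟶ S) (F : X.Modules) (s₁ s₂ : S) (h : s₁ = s₂)
    (a₁ : ↥(f.fiber s₁)) (a₂ : ↥(f.fiber s₂)) (ha : f.fiberι s₁ a₁ = f.fiberι s₂ a₂) :
    Curv2.IsAssPoint ((Scheme.Modules.pullback (f.fiberι s₁)).obj F) a₁ ↔
      Curv2.IsAssPoint ((Scheme.Modules.pullback (f.fiberι s₂)).obj F) a₂ := by
  subst h
  have h1 : a₁ = a₂ := (f.fiberι s₁).isEmbedding.injective ha
  subst h1
  exact Iff.rfl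

set_option maxHeartbeats 1600000 in
/-- Associated points of the fibres of a base change (EGA IV 4.2.7): `w'` is an associated point
of `F'|X'_{s'}` iff its image is an associated point of `F|X_s` and `w'` is maximal under
generization among the points of `X'` over `s'` with the same image in `X`. -/
theorem isAssPoint_baseChange_iff_core (f : X ⟶ S) [LocallyOfFiniteType f] (F : X.Modules)
    [F.IsQuasicoherent] (g : S' ⟶ S) (f' : X' ⟶ S') [LocallyOfFiniteType f'] (g' : X' ⟶ X)
    (s' : S') (Φ : f'.fiber s' ⟶ f.fiber (g s'))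
    (hsq : IsPullback Φ (f'.fiberToSpecResidueField s') (f.fiberToSpecResidueField (g s'))
      (Spec.map (g.residueFieldMap s')))
    (a3 : Φ ≫ f.fiberι (g s') = f'.fiberι s' ≫ g') (w' : ↥(f'.fiber s')) :
    Curv2.IsAssPoint ((Scheme.Modules.pullback (f'.fiberι s')).obj
        ((Scheme.Modules.pullback g').obj F)) w' ↔
      Curv2.IsAssPoint ((Scheme.Modules.pullback (f.fiberι (g s'))).obj F) (Φ w') ∧
        ∀ x'' : X', f' x'' = s' → g' x'' = g' (f'.fiberι s' w') →
          x'' ⤳ f'.fiberι s' w' → x'' = f'.fiberι s' w' := by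
  haveI := isLocallyNoetherian_fiber f (g s')
  haveI := isLocallyNoetherian_fiber f' s'
  have hcomm : ∀ v : ↥(f'.fiber s'), g' (f'.fiberι s' v) = f.fiberι (g s') (Φ v) :=
    fun v => (congr(($a3) v)).symm
  have hfib' : ∀ v : ↥(f'.fiber s'), f' (f'.fiberι s' v) = s' := by
    intro v
    have h1 : f'.fiberι s' v ∈ Set.range (f'.fiberι s') := Set.mem_range_self v
    rw [Scheme.Hom.range_fiberι] at h1
    exact h1
  have hL : Curv2.IsAssPoint ((Scheme.Modules.pullback (f'.fiberι s')).obj
        ((Scheme.Modules.pullback g').obj F)) w' ↔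
      HasSocle ((f'.fiber s').presheaf.stalk w')
        (((Scheme.Modules.pullback (f'.fiberι s')).obj
          ((Scheme.Modules.pullback g').obj F)).presheaf.stalk w') :=
    isAssociatedPrime_maximalIdeal_iff _ _
  have hR : Curv2.IsAssPoint ((Scheme.Modules.pullback (f.fiberι (g s'))).obj F) (Φ w') ↔
      HasSocle ((f.fiber (g s')).presheaf.stalk (Φ w'))
        (((Scheme.Modules.pullback (f.fiberι (g s'))).obj F).presheaf.stalk (Φ w')) :=
    isAssociatedPrime_maximalIdeal_iff _ _
  rw [hL, hasSocle_fibre_baseChange_iff f F g f' g' s' Φ hsq a3 w', ← hR]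
  refine and_congr_right (fun _ => ?_)
  constructor
  · intro hs x'' h1 h2 h3
    obtain ⟨w'', hw''⟩ : ∃ w'' : ↥(f'.fiber s'), f'.fiberι s' w'' = x'' :=
      ⟨(f'.fiberHomeo s').symm ⟨x'', h1⟩, f'.fiberι_fiberHomeo_symm s' ⟨x'', h1⟩⟩
    subst hw''
    have h4 : Φ w'' = Φ w' := (f.fiberι (g s')).isEmbedding.injective
      ((hcomm w'').symm.trans (h2.trans (hcomm w')))
    have h5 : w'' ⤳ w' := (f'.fiberι s').isEmbedding.isInducing.specializes_iff.mp h3
    have h6 := eq_of_specializes_of_fibreSocle (Field.toIsField _) (Field.toIsField _) Φ _ _ _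
      hsq w' hs w'' h4 h5
    rw [h6]
  · intro hmax
    apply fibreSocle_of_forall_eq Φ w'
    intro w'' h1 h2
    have h3 : f'.fiberι s' w'' = f'.fiberι s' w' :=
      hmax (f'.fiberι s' w'') (hfib' w'')
        ((hcomm w'').trans ((congrArg (fun z => f.fiberι (g s') z) h1).trans (hcomm w').symm))
        (h2.map (f'.fiberι s').continuous)
    exact (f'.fiberι s').isEmbedding.injective h3

end Main

end Groth.Agent.H57.RelAssBC
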