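import Mathlib
import Groth.Prelude.Def_FlatCA

/-!
# Pasting abstract pushout squares of algebras (squad lemmas for S12243, requested by helper20)

* `isPushout_paste` (P5)
* `isBaseChange_restrictScalars_of_isPushout` (P7)
* `smooth_geomIrred_of_isPushout` (P2)
-/

set_option autoImplicit false
set_option linter.style.haveILetI false

universe u

open TensorProduct

namespace Groth.Agent.H57.PushoutPaste

/-- (P5) pasting of pushout squares, and permanence of surjectivity / finite presentation /
finiteness along the new square. -/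
theorem isPushout_paste (R R' B B' A A' : Type u) [CommRing R] [CommRing R'] [CommRing B]
    [CommRing B'] [CommRing A] [CommRing A']
    [Algebra R R'] [Algebra R B] [Algebra R' B'] [Algebra B B'] [Algebra R B']
    [IsScalarTower R R' B'] [IsScalarTower R B B'] [Algebra.IsPushout R R' B B']
    [Algebra R A] [Algebra R' A'] [Algebra A A'] [Algebra R A']
    [IsScalarTower R R' A'] [IsScalarTower R A A'] [Algebra.IsPushout R R' A A']
    [Algebra B A] [Algebra B' A'] [Algebra B A'] [IsScalarTower R B A] [IsScalarTower R' B' A']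
    [IsScalarTower B B' A'] [IsScalarTower B A A'] :
    Algebra.IsPushout B B' A A' ∧
      (Function.Surjective (algebraMap B A) → Function.Surjective (algebraMap B' A')) ∧
      (Algebra.FinitePresentation B A → Algebra.FinitePresentation B' A') ∧
      (Module.Finite B A → Module.Finite B' A') := by
  haveI hRB'A' : IsScalarTower R B' A' := .of_algebraMap_eq fun x => by
    rw [IsScalarTower.algebraMap_apply R R' A', IsScalarTower.algebraMap_apply R' B' A',
      ← IsScalarTower.algebraMap_apply R R' B']
  haveI h1 : Algebra.IsPushout R B R' B' := Algebra.IsPushout.symm inferInstance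
  have h2 : Algebra.IsPushout R A R' A' := Algebra.IsPushout.symm inferInstance
  have h3 : Algebra.IsPushout B A B' A' := (Algebra.IsPushout.comp_iff R B R' B').mp h2
  haveI hPO : Algebra.IsPushout B B' A A' := Algebra.IsPushout.symm h3
  refine ⟨hPO, ?_, ?_, ?_⟩
  · intro hsurj x
    have hbc : IsBaseChange B' (IsScalarTower.toAlgHom B A A').toLinearMap := hPO.out
    refine hbc.inductionOn x (fun x => ∃ a, (algebraMap B' A') a = x) ?_ ?_ ?_ ?_
    · exact ⟨0, map_zero _⟩
    · intro a
      obtain ⟨b, rfl⟩ := hsurj a
      refine ⟨algebraMap B B' b, ?_⟩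
      show algebraMap B' A' (algebraMap B B' b) = algebraMap A A' (algebraMap B A b)
      rw [← IsScalarTower.algebraMap_apply B B' A', ← IsScalarTower.algebraMap_apply B A A']
    · rintro s n ⟨b', rfl⟩
      exact ⟨s * b', by rw [map_mul, Algebra.smul_def]⟩
    · rintro n₁ n₂ ⟨b₁, rfl⟩ ⟨b₂, rfl⟩
      exact ⟨b₁ + b₂, map_add _ _ _⟩
  · intro hfp
    exact Algebra.FinitePresentation.equiv (Algebra.IsPushout.equiv B B' A A')
  · intro hfin
    exact Module.Finite.equiv (Algebra.IsPushout.equiv B B' A A').toLinearEquiv

/-- (P7) a base change along `A → A'` of an `A`-module is a base change along `B → B'` when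
`A' = B' ⊗[B] A`. -/
theorem isBaseChange_restrictScalars_of_isPushout (B B' A A' : Type u) [CommRing B] [CommRing B']
    [CommRing A] [CommRing A'] [Algebra B B'] [Algebra B A] [Algebra B' A'] [Algebra A A']
    [Algebra B A'] [IsScalarTower B B' A'] [IsScalarTower B A A'] [Algebra.IsPushout B B' A A']
    (M M' : Type u) [AddCommGroup M] [Module A M] [Module B M] [IsScalarTower B A M]
    [AddCommGroup M'] [Module A' M'] [Module A M'] [IsScalarTower A A' M'] [Module B' M']
    [IsScalarTower B' A' M'] [Module B M'] [IsScalarTower B B' M'] [IsScalarTower B A M']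
    (g : M →ₗ[A] M') (hg : IsBaseChange A' g) : IsBaseChange B' (g.restrictScalars B) := by
  let e1 : A' ⊗[A] M ≃ₗ[B'] B' ⊗[B] M := Algebra.IsPushout.cancelBaseChange B B' A A' M
  let e2 : A' ⊗[A] M ≃ₗ[B'] M' := hg.equiv.restrictScalars B'
  refine IsBaseChange.of_equiv (e1.symm ≪≫ₗ e2) fun m => ?_
  show e2 (e1.symm (1 ⊗ₜ[B] m)) = g m
  have h1 : e1.symm (1 ⊗ₜ[B] m) = algebraMap B' A' 1 ⊗ₜ[A] m :=
    Algebra.IsPushout.cancelBaseChange_symm_tmul B B' A A' M 1 m
  rw [h1, map_one]
  show hg.equiv (1 ⊗ₜ[A] m) = g m
  rw [IsBaseChange.equiv_tmul, one_smul]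

/-- (P2) smoothness and geometric irreducibility of the fibres pass to an abstract pushout. -/
theorem smooth_geomIrred_of_isPushout (R B R' B' : Type u) [CommRing R] [CommRing B] [CommRing R']
    [CommRing B'] [Algebra R B] [Algebra R R'] [Algebra R' B'] [Algebra B B'] [Algebra R B']
    [IsScalarTower R R' B'] [IsScalarTower R B B'] [Algebra.IsPushout R R' B B']
    [Algebra.Smooth R B] (hirr : FlatCA.GeomIrredFibres R B) :
    Algebra.Smooth R' B' ∧ FlatCA.GeomIrredFibres R' B' := by
  refine ⟨Algebra.Smooth.of_equiv (Algebra.IsPushout.equiv R R' B B'), ?_⟩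
  have sq := CommRingCat.isPushout_of_isPushout R R' B B'
  have hpb := AlgebraicGeometry.isPullback_SpecMap_of_isPushout _ _ _ _ sq
  exact CategoryTheory.MorphismProperty.of_isPullback
    (P := @AlgebraicGeometry.GeometricallyIrreducible) hpb.flip hirr

end Groth.Agent.H57.PushoutPaste
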