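import Mathlib
import Groth.Agent.S0389

/-!
# (DOM) reduce to a domain (helper57, squad piece for helper38's S0419 cluster)
-/

set_option autoImplicit false
universe u
open TensorProduct

namespace Groth.Agent.H57.IrrDOM

/-- (H) base change of a surjection with nil kernel is a homeomorphism on spectra. -/
theorem isHomeomorph_comap_map_of_nil {A B B1 : Type u} [CommRing A] [CommRing B] [CommRing B1]
    [Algebra A B] [Algebra A B1] (q : B →ₐ[A] B1) (hq : Function.Surjective q)
    (hker : RingHom.ker q ≤ nilradical B) (K : Type u) [CommRing K] [Algebra A K] :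
    IsHomeomorph (PrimeSpectrum.comap
      (Algebra.TensorProduct.map (AlgHom.id A K) q).toRingHom) := by
  apply PrimeSpectrum.isHomeomorph_comap
  · intro x
    obtain ⟨y, rfl⟩ : ∃ y, (Algebra.TensorProduct.map (AlgHom.id A K) q) y = x :=
      (LinearMap.lTensor_surjective K (g := q.toLinearMap) hq) x
    exact ⟨1, one_pos, y, by simp⟩
  · intro x hx
    have hx' : x ∈ RingHom.ker (Algebra.TensorProduct.map (AlgHom.id A K) q) := hx
    rw [Algebra.TensorProduct.lTensor_ker (A := K) q hq] at hx'
    have hle : (RingHom.ker q).map
        (Algebra.TensorProduct.includeRight : B →ₐ[A] K ⊗[A] B) ≤ nilradical (K ⊗[A] B) := by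
      rw [Ideal.map_le_iff_le_comap]
      intro b hb
      have hb' : IsNilpotent b := mem_nilradical.mp (hker hb)
      rw [Ideal.mem_comap, mem_nilradical]
      exact hb'.map _
    exact hle hx'

/-- (E) inverting an element that is already a unit does nothing after base change. -/
theorem nonempty_tensor_away_ringEquiv {A : Type u} [CommRing A] (f : A) (K : Type u) [CommRing K]
    [Algebra A K] (hu : IsUnit (algebraMap A K f)) (C : Type u) [CommRing C] [Algebra A C] :
    Nonempty (K ⊗[A] (Localization.Away f ⊗[A] C) ≃+* K ⊗[A] C) := by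
  have hunits : Algebra.algebraMapSubmonoid K (Submonoid.powers f) ≤ IsUnit.submonoid K := by
    rintro _ ⟨_, ⟨n, rfl⟩, rfl⟩
    rw [map_pow]
    exact hu.pow n
  let eb : K ≃ₐ[K] K ⊗[A] Localization.Away f :=
    IsLocalization.atUnits K (Algebra.algebraMapSubmonoid K (Submonoid.powers f)) hunits
  let ea := (Algebra.TensorProduct.assoc A A A K (Localization.Away f) C).symm
  let ec := Algebra.TensorProduct.congr (eb.symm.restrictScalars A) (AlgEquiv.refl (R := A) (A₁ := C))
  exact ⟨(ea.trans ec).toRingEquiv⟩

/-- a reduced ring with irreducible spectrum is a domain -/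
theorem isDomain_of_irreducibleSpace (D : Type u) [CommRing D] [IsReduced D]
    [h : IrreducibleSpace (PrimeSpectrum D)] : IsDomain D := by
  have h1 : (nilradical D).IsPrime := PrimeSpectrum.irreducibleSpace_iff_isPrime_nilradical.mp h
  rw [nilradical_eq_zero] at h1
  have : (⊥ : Ideal D).IsPrime := h1
  exact IsDomain.of_bot_isPrime D

theorem irreducibleSpace_of_homeomorph {X Y : Type u} [TopologicalSpace X] [TopologicalSpace Y]
    (e : X ≃ₜ Y) [IrreducibleSpace X] : IrreducibleSpace Y := by
  have h1 : IsIrreducible (Set.univ : Set X) := (irreducibleSpace_def X).mp inferInstance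
  have h2 := h1.image e e.continuous.continuousOn
  rw [Set.image_univ, e.surjective.range_eq] at h2
  exact (irreducibleSpace_def Y).mpr h2

/-- (DOM) reduce to a domain. -/
theorem exists_domain_model {A B : Type u} [CommRing A] [IsDomain A] [CommRing B] [Algebra A B]
    [Algebra.FiniteType A B]
    (h : IrreducibleSpace (PrimeSpectrum (FractionRing A ⊗[A] B))) :
    ∃ (B' : Type u) (_ : CommRing B') (_ : IsDomain B') (_ : Algebra A B')
      (_ : Algebra.FiniteType A B'), Function.Injective (algebraMap A B') ∧
      ∃ a : A, a ≠ 0 ∧ ∀ (K : Type u) [Field K] [Algebra A K], algebraMap A K a ≠ 0 →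
        Nonempty (PrimeSpectrum (K ⊗[A] B') ≃ₜ PrimeSpectrum (K ⊗[A] B)) := by
  classical
  let B1 := B ⧸ nilradical B
  let q : B →ₐ[A] B1 := Ideal.Quotient.mkₐ A (nilradical B)
  have hq : Function.Surjective q := Ideal.Quotient.mkₐ_surjective A _
  have hker : RingHom.ker q ≤ nilradical B := by
    intro x hx
    have : (Ideal.Quotient.mk (nilradical B)) x = 0 := hx
    exact Ideal.Quotient.eq_zero_iff_mem.mp this
  have hft1 : Algebra.FiniteType A B1 := Algebra.FiniteType.of_surjective q hq
  have hred : IsReduced B1 :=
    (Ideal.isRadical_iff_quotient_reduced _).mp (Ideal.radical_isRadical _)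
  obtain ⟨f, hf0, -, hfree, -, -⟩ := Groth.Agent.S0389.result (R := A) (S := B1) (M := B1)
  -- the generic fibre of `B1` is a domain
  have hD : IsDomain (FractionRing A ⊗[A] B1) := by
    have e1 := (isHomeomorph_comap_map_of_nil q hq hker (FractionRing A)).homeomorph
    have hirr : IrreducibleSpace (PrimeSpectrum (FractionRing A ⊗[A] B1)) :=
      irreducibleSpace_of_homeomorph e1.symm
    have hred1 : IsReduced (B1 ⊗[A] FractionRing A) :=
      isReduced_localizationPreserves
        (Algebra.algebraMapSubmonoid B1 (nonZeroDivisors A)) _ hred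
    have hred2 : IsReduced (FractionRing A ⊗[A] B1) :=
      isReduced_of_injective (Algebra.TensorProduct.comm A (FractionRing A) B1).toRingEquiv.toRingHom
        (Algebra.TensorProduct.comm A (FractionRing A) B1).injective
    exact isDomain_of_irreducibleSpace _
  have hfrac_unit : IsUnit (algebraMap A (FractionRing A) f) :=
    IsUnit.mk0 _ (by
      rw [Ne, map_eq_zero_iff _ (IsFractionRing.injective A (FractionRing A))]
      exact hf0)
  have hflatL : Module.Flat (Localization.Away f) ((Localization.Away f) ⊗[A] B1) :=
    Module.Flat.of_free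
  have hflatA : Module.Flat A ((Localization.Away f) ⊗[A] B1) := Module.Flat.trans A (Localization.Away f) ((Localization.Away f) ⊗[A] B1)
  -- `B'` is a domain
  have hB' : IsDomain ((Localization.Away f) ⊗[A] B1) := by
    obtain ⟨e⟩ := nonempty_tensor_away_ringEquiv f (FractionRing A) hfrac_unit B1
    have hinj : Function.Injective
        (Algebra.TensorProduct.includeRight : (Localization.Away f) ⊗[A] B1 →ₐ[A] FractionRing A ⊗[A] ((Localization.Away f) ⊗[A] B1)) :=
      Algebra.TensorProduct.includeRight_injective (IsFractionRing.injective A (FractionRing A))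
    exact Function.Injective.isDomain
      (e.toRingHom.comp (Algebra.TensorProduct.includeRight :
        (Localization.Away f) ⊗[A] B1 →ₐ[A] FractionRing A ⊗[A] ((Localization.Away f) ⊗[A] B1)).toRingHom)
      (e.injective.comp hinj)
  have hftL : Algebra.FiniteType A (Localization.Away f) := IsLocalization.finiteType_of_monoid_fg (Submonoid.powers f) (Localization.Away f)
  have hft' : Algebra.FiniteType A ((Localization.Away f) ⊗[A] B1) :=
    Algebra.FiniteType.trans hftL inferInstance
  have hinjAL : Function.Injective (algebraMap A (Localization.Away f)) :=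
    IsLocalization.injective (Localization.Away f) (powers_le_nonZeroDivisors_of_noZeroDivisors hf0)
  have hinjLB : Function.Injective (algebraMap (Localization.Away f) ((Localization.Away f) ⊗[A] B1)) :=
    FaithfulSMul.algebraMap_injective (Localization.Away f) ((Localization.Away f) ⊗[A] B1)
  refine ⟨(Localization.Away f) ⊗[A] B1, inferInstance, hB', inferInstance, hft', ?_, f, hf0, ?_⟩
  · rw [IsScalarTower.algebraMap_eq A (Localization.Away f) ((Localization.Away f) ⊗[A] B1)]
    exact hinjLB.comp hinjAL
  · intro K _ _ hK
    obtain ⟨e⟩ := nonempty_tensor_away_ringEquiv f K (IsUnit.mk0 _ hK) B1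
    exact ⟨(PrimeSpectrum.homeomorphOfRingEquiv e).trans
      (isHomeomorph_comap_map_of_nil q hq hker K).homeomorph⟩

end Groth.Agent.H57.IrrDOM
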