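import Groth.Agent.H57.FlatPt5

/-! Flat locus of a module in the spectrum of an intermediate algebra `A → B → C` (helper57). -/

set_option autoImplicit false

universe u

open TensorProduct

namespace Groth.Agent.H57.FlatPt

section Tower

variable {A B C : Type u} [CommRing A] [CommRing B] [CommRing C] [Algebra A B] [Algebra B C]
  [Algebra A C] [IsScalarTower A B C]
  (M : Type u) [AddCommGroup M] [Module C M] [Module B M] [Module A M]
  [IsScalarTower B C M] [IsScalarTower A C M] [IsScalarTower A B M]

omit [IsScalarTower A B C] in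
/-- Flatness of `M_q` (`q` a prime of `B`) passes to `M_r` for primes `r` of `C` whose contraction
is contained in `q`. -/
theorem flat_localizedModule_of_comap_le (q : Ideal B) [q.IsPrime] (r : Ideal C) [r.IsPrime]
    (hle : r.comap (algebraMap B C) ≤ q)
    (hf : Module.Flat A (LocalizedModule q.primeCompl M)) :
    Module.Flat A (LocalizedModule r.primeCompl M) := by
  refine Groth.Agent.H57.flat_localizedModule_of_forall r.primeCompl M
    (fun X Y _ _ _ _ v hv x hx => ?_)
  obtain ⟨t, ht⟩ := Groth.Agent.H57.exists_smul_eq_zero_of_lTensor_injective q.primeCompl M v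
    (Module.Flat.lTensor_preserves_injective_linearMap v hv) x hx
  refine ⟨⟨algebraMap B C t.1, fun h => t.2 (hle (Ideal.mem_comap.mpr h))⟩, ?_⟩
  show algebraMap B C t.1 • x = 0
  rw [← smul_eq_algebraMap_smul]
  exact ht

omit [IsScalarTower A B C] in
/-- Conversely, `M_q` is flat over `A` as soon as all `M_r` are, `r` running over the primes of `C`
whose contraction is contained in `q`. -/
theorem flat_localizedModule_of_forall_comap_le (q : Ideal B) [q.IsPrime]
    (h : ∀ (r : Ideal C) [r.IsPrime], r.comap (algebraMap B C) ≤ q →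
      Module.Flat A (LocalizedModule r.primeCompl M)) :
    Module.Flat A (LocalizedModule q.primeCompl M) := by
  refine Groth.Agent.H57.flat_localizedModule_of_forall q.primeCompl M
    (fun X Y _ _ _ _ v hv x hx => ?_)
  by_contra hcon
  push Not at hcon
  let I : Ideal C := LinearMap.ker (LinearMap.toSpanSingleton C (M ⊗[A] X) x)
  have hI : ∀ c : C, c ∈ I ↔ c • x = 0 := fun c => by
    show c ∈ LinearMap.ker (LinearMap.toSpanSingleton C (M ⊗[A] X) x) ↔ _
    rw [LinearMap.mem_ker, LinearMap.toSpanSingleton_apply]
  have hdisj : Disjoint (I : Set C)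
      ((Submonoid.map (algebraMap B C) q.primeCompl : Submonoid C) : Set C) := by
    rw [Set.disjoint_left]
    rintro c hc ⟨b, hb, rfl⟩
    refine hcon ⟨b, hb⟩ ?_
    show b • x = 0
    rw [smul_eq_algebraMap_smul (S := C)]
    exact (hI _).mp hc
  obtain ⟨r, hr, hIr, hrdisj⟩ := Ideal.exists_le_prime_disjoint I _ hdisj
  have hle : r.comap (algebraMap B C) ≤ q := by
    intro b hb
    by_contra hbq
    exact Set.disjoint_left.mp hrdisj (Ideal.mem_comap.mp hb) ⟨b, hbq, rfl⟩
  have hfl := h r hle
  obtain ⟨t, ht⟩ := Groth.Agent.H57.exists_smul_eq_zero_of_lTensor_injective r.primeCompl M v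
    (Module.Flat.lTensor_preserves_injective_linearMap v hv) x hx
  exact t.2 (hIr ((hI t.1).mpr ht))

/-- **Openness of the flat locus in the spectrum of an intermediate algebra.** -/
theorem isOpen_flat_module_locus_tower [Algebra.FinitePresentation A B]
    [Algebra.FinitePresentation B C] [Module.FinitePresentation C M] :
    IsOpen {q : PrimeSpectrum B | Module.Flat A (LocalizedModule q.asIdeal.primeCompl M)} := by
  haveI : Algebra.FinitePresentation A C := Algebra.FinitePresentation.trans A B C
  have hopen : IsOpen {r : PrimeSpectrum C |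
      Module.Flat A (LocalizedModule r.asIdeal.primeCompl M)} := isOpen_flat_module_locus
  let J : Ideal C := PrimeSpectrum.vanishingIdeal {r : PrimeSpectrum C |
      Module.Flat A (LocalizedModule r.asIdeal.primeCompl M)}ᶜ
  have hJ : PrimeSpectrum.zeroLocus (J : Set C) = {r : PrimeSpectrum C |
      Module.Flat A (LocalizedModule r.asIdeal.primeCompl M)}ᶜ := by
    rw [PrimeSpectrum.zeroLocus_vanishingIdeal_eq_closure, hopen.isClosed_compl.closure_eq]
  have heq : {q : PrimeSpectrum B | Module.Flat A (LocalizedModule q.asIdeal.primeCompl M)} =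
      (PrimeSpectrum.zeroLocus ((J.comap (algebraMap B C) : Ideal B) : Set B))ᶜ := by
    ext q
    constructor
    · intro hq hJq
      rw [PrimeSpectrum.mem_zeroLocus] at hJq
      have hdisj : Disjoint (J : Set C)
          ((Submonoid.map (algebraMap B C) q.asIdeal.primeCompl : Submonoid C) : Set C) := by
        rw [Set.disjoint_left]
        rintro c hc ⟨b, hb, rfl⟩
        exact hb (hJq (Ideal.mem_comap.mpr hc))
      obtain ⟨r, hr, hJr, hrdisj⟩ := Ideal.exists_le_prime_disjoint J _ hdisj
      have hle : r.comap (algebraMap B C) ≤ q.asIdeal := by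
        intro b hb
        by_contra hbq
        exact Set.disjoint_left.mp hrdisj (Ideal.mem_comap.mp hb) ⟨b, hbq, rfl⟩
      have hfl := flat_localizedModule_of_comap_le M q.asIdeal r hle hq
      have hmem : (⟨r, hr⟩ : PrimeSpectrum C) ∈ PrimeSpectrum.zeroLocus (J : Set C) := by
        rw [PrimeSpectrum.mem_zeroLocus]
        exact hJr
      rw [hJ] at hmem
      exact hmem hfl
    · intro hnot
      rw [Set.mem_compl_iff, PrimeSpectrum.mem_zeroLocus, Set.not_subset] at hnot
      obtain ⟨b, hbJ, hbq⟩ := hnot
      refine flat_localizedModule_of_forall_comap_le (C := C) M q.asIdeal (fun r _ hle => ?_)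
      by_contra hnf
      have hmem : (⟨r, inferInstance⟩ : PrimeSpectrum C) ∈ {r : PrimeSpectrum C |
          Module.Flat A (LocalizedModule r.asIdeal.primeCompl M)}ᶜ := hnf
      rw [← hJ, PrimeSpectrum.mem_zeroLocus] at hmem
      exact hbq (hle (Ideal.mem_comap.mpr (hmem (Ideal.mem_comap.mp hbJ))))
  rw [heq]
  exact (PrimeSpectrum.isClosed_zeroLocus _).isOpen_compl

end Tower

end Groth.Agent.H57.FlatPt
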