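import Mathlib
import Groth.Agent.H30.NilFlat2
import Groth.Agent.H57.FlatAtBC

/-! Fibrewise criterion for local freeness (no Noetherian hypotheses): a finitely presented module
over `B`, flat over `A`, whose fibres over `A` are projective is projective (helper57).
(EGA IV 11.3.10 flavour, projective case; used for `pd_B M = sup_p pd (M ⊗ κ(p))`.) -/

set_option autoImplicit false

universe u

open TensorProduct

namespace Groth.Agent.H57.FibPD

section T

variable {A R : Type u} [CommRing A] [CommRing R] [Algebra A R]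
  {N : Type u} [AddCommGroup N] [Module A N] [Module R N] [IsScalarTower A R N]

/-- the bi-additive map underlying `psi`. -/
noncomputable def psiAux (𝔭 : Ideal A) :
    ↥𝔭 →+ N →+ (↥(𝔭.map (algebraMap A R)) ⊗[R] N) :=
  AddMonoidHom.mk'
    (fun a => AddMonoidHom.mk'
      (fun n => (⟨algebraMap A R a.1, Ideal.mem_map_of_mem _ a.2⟩ :
        ↥(𝔭.map (algebraMap A R))) ⊗ₜ[R] n)
      (fun x y => TensorProduct.tmul_add _ x y))
    (fun a b => by
      ext n
      simp only [AddMonoidHom.mk'_apply, AddMonoidHom.add_apply]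
      rw [← TensorProduct.add_tmul]
      refine congrArg (· ⊗ₜ[R] n) (Subtype.ext ?_)
      exact map_add (algebraMap A R) a.1 b.1)

/-- the natural additive map `𝔭 ⊗[A] N → (𝔭 R) ⊗[R] N`. -/
noncomputable def psi (𝔭 : Ideal A) : (↥𝔭 ⊗[A] N) →+ (↥(𝔭.map (algebraMap A R)) ⊗[R] N) :=
  TensorProduct.liftAddHom (psiAux (R := R) (N := N) 𝔭) (fun r a n => by
    show (⟨algebraMap A R (r • a).1, _⟩ : ↥(𝔭.map (algebraMap A R))) ⊗ₜ[R] n =
      (⟨algebraMap A R a.1, _⟩ : ↥(𝔭.map (algebraMap A R))) ⊗ₜ[R] (r • n)
    rw [← algebraMap_smul R r n, ← TensorProduct.smul_tmul]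
    refine congrArg (· ⊗ₜ[R] n) (Subtype.ext ?_)
    show algebraMap A R (r • a.1) = algebraMap A R r • algebraMap A R a.1
    rw [smul_eq_mul, smul_eq_mul, map_mul])

theorem psi_tmul (𝔭 : Ideal A) (a : ↥𝔭) (n : N) :
    psi (R := R) 𝔭 (a ⊗ₜ[A] n) =
      (⟨algebraMap A R a.1, Ideal.mem_map_of_mem _ a.2⟩ : ↥(𝔭.map (algebraMap A R))) ⊗ₜ[R] n :=
  rfl

theorem psi_surjective (𝔭 : Ideal A) : Function.Surjective (psi (R := R) (N := N) 𝔭) := by
  have key : ∀ (i : R) (hi : i ∈ 𝔭.map (algebraMap A R)), ∀ n : N,
      ((⟨i, hi⟩ : ↥(𝔭.map (algebraMap A R))) ⊗ₜ[R] n) ∈ (psi (R := R) (N := N) 𝔭).range := by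
    intro i hi
    refine Submodule.span_induction
      (p := fun i hi => ∀ n : N, ((⟨i, hi⟩ : ↥(𝔭.map (algebraMap A R))) ⊗ₜ[R] n) ∈
        (psi (R := R) (N := N) 𝔭).range) ?_ ?_ ?_ ?_ hi
    · rintro _ ⟨a, ha, rfl⟩ n
      exact ⟨(⟨a, ha⟩ : ↥𝔭) ⊗ₜ[A] n, rfl⟩
    · intro n
      have h0 : ((⟨0, Submodule.zero_mem _⟩ : ↥(𝔭.map (algebraMap A R))) ⊗ₜ[R] n) = 0 :=
        TensorProduct.zero_tmul _ n
      rw [h0]
      exact zero_mem _
    · intro x y hx hy ihx ihy n
      have h1 : ((⟨x + y, add_mem hx hy⟩ : ↥(𝔭.map (algebraMap A R))) ⊗ₜ[R] n) =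
          ((⟨x, hx⟩ : ↥(𝔭.map (algebraMap A R))) ⊗ₜ[R] n) +
            ((⟨y, hy⟩ : ↥(𝔭.map (algebraMap A R))) ⊗ₜ[R] n) :=
        TensorProduct.add_tmul (⟨x, hx⟩ : ↥(𝔭.map (algebraMap A R)))
          (⟨y, hy⟩ : ↥(𝔭.map (algebraMap A R))) n
      rw [h1]
      exact add_mem (ihx n) (ihy n)
    · intro r x hx ihx n
      have h1 : ((⟨r • x, Submodule.smul_mem _ r hx⟩ : ↥(𝔭.map (algebraMap A R))) ⊗ₜ[R] n) =
          ((⟨x, hx⟩ : ↥(𝔭.map (algebraMap A R))) ⊗ₜ[R] (r • n)) :=
        TensorProduct.smul_tmul r (⟨x, hx⟩ : ↥(𝔭.map (algebraMap A R))) n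
      rw [h1]
      exact ihx (r • n)
  intro x
  induction x using TensorProduct.induction_on with
  | zero => exact ⟨0, map_zero _⟩
  | add x y hx hy =>
    obtain ⟨x', rfl⟩ := hx
    obtain ⟨y', rfl⟩ := hy
    exact ⟨x' + y', map_add _ _ _⟩
  | tmul i n =>
    obtain ⟨i, hi⟩ := i
    exact key i hi n

theorem lid_rTensor_psi (𝔭 : Ideal A) (y : ↥𝔭 ⊗[A] N) :
    TensorProduct.lid R N
      (LinearMap.rTensor N (𝔭.map (algebraMap A R)).subtype (psi (R := R) 𝔭 y)) =
    TensorProduct.lid A N (LinearMap.rTensor N 𝔭.subtype y) := by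
  induction y using TensorProduct.induction_on with
  | zero => simp
  | tmul a n =>
    rw [psi_tmul]
    simp [algebraMap_smul]
  | add x y hx hy => simp only [map_add, hx, hy]

/-- **Lemma T**: if `N` is flat over `A` then `(𝔭 R) ⊗[R] N → N` is injective. -/
theorem rTensor_map_subtype_injective [Module.Flat A N] (𝔭 : Ideal A) :
    Function.Injective (LinearMap.rTensor N (𝔭.map (algebraMap A R)).subtype) := by
  rw [injective_iff_map_eq_zero]
  intro x hx
  obtain ⟨y, rfl⟩ := psi_surjective (R := R) (N := N) 𝔭 x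
  have h1 := lid_rTensor_psi (R := R) 𝔭 y
  rw [hx, map_zero] at h1
  have h2 : LinearMap.rTensor N 𝔭.subtype y = 0 :=
    (TensorProduct.lid A N).injective (by rw [← h1, map_zero])
  have h3 : y = 0 :=
    (Module.Flat.rTensor_preserves_injective_linearMap 𝔭.subtype Subtype.val_injective)
      (by rw [h2, map_zero])
  rw [h3, map_zero]

end T

section L

/-- Over a local ring `R`: a finitely presented module `N` such that `I ⊗ N → N` is injective and
`N / I N` is flat over `R / I` for some ideal `I` in the maximal ideal is free. -/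
theorem free_of_flat_quot {R : Type u} [CommRing R] [IsLocalRing R] (I : Ideal R)
    (hI : I ≤ IsLocalRing.maximalIdeal R)
    (N : Type u) [AddCommGroup N] [Module R N] [Module.FinitePresentation R N]
    [Module.Flat (R ⧸ I) ((R ⧸ I) ⊗[R] N)]
    (hinj : Function.Injective (LinearMap.rTensor N I.subtype)) :
    Module.Free R N := by
  apply Module.free_of_maximalIdeal_rTensor_injective
  have hG : Groth.Agent.H30.NilFlat.Good R N (R ⧸ IsLocalRing.maximalIdeal R) :=
    Groth.Agent.H30.NilFlat.good_of_pow_smul_eq_zero I hinj 1 _ (fun a ha x => by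
      obtain ⟨r, rfl⟩ := Submodule.Quotient.mk_surjective _ x
      rw [pow_one] at ha
      rw [← Submodule.Quotient.mk_smul, Submodule.Quotient.mk_eq_zero, smul_eq_mul]
      exact Ideal.mul_mem_right _ _ (hI ha))
  have key : ∀ (J' : Submodule R R), J' = IsLocalRing.maximalIdeal R →
      Function.Injective (LinearMap.rTensor N J'.subtype) →
      Function.Injective (LinearMap.rTensor N (IsLocalRing.maximalIdeal R).subtype) := by
    rintro _ rfl h
    exact h
  exact key _ (Submodule.ker_mkQ _) (hG R (Submodule.mkQ _) (Submodule.mkQ_surjective _))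

end L

section Loc

variable (A : Type u) {B : Type u} [CommRing A] [CommRing B] [Algebra A B]
  (M : Type u) [AddCommGroup M] [Module B M] [Module A M] [IsScalarTower A B M]
  (q : Ideal B) [q.IsPrime]

/-- `p B_q` for `p = q ∩ A`. -/
abbrev locI : Ideal (Localization.AtPrime q) :=
  (q.comap (algebraMap A B)).map (algebraMap A (Localization.AtPrime q))

theorem locI_le : locI A q ≤ IsLocalRing.maximalIdeal (Localization.AtPrime q) := by
  rw [Ideal.map_le_iff_le_comap]
  intro a ha
  rw [Ideal.mem_comap, IsScalarTower.algebraMap_apply A B (Localization.AtPrime q),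
    IsLocalization.AtPrime.to_map_mem_maximal_iff (Localization.AtPrime q) q]
  exact ha

theorem flat_localizedModule [Module.Flat A M] :
    Module.Flat A (LocalizedModule q.primeCompl M) := by
  apply Groth.Agent.H57.flat_localizedModule_of_forall
  intro P Q _ _ _ _ u hu x hx
  refine ⟨1, ?_⟩
  rw [one_smul]
  exact (Module.Flat.lTensor_preserves_injective_linearMap u hu) (by rw [hx, map_zero])

/-- local freeness from flatness of the fibre stalk. -/
theorem free_localizedModule_of_flat_quot [Module.FinitePresentation B M] [Module.Flat A M]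
    [Module.Flat (Localization.AtPrime q ⧸ locI A q)
      ((Localization.AtPrime q ⧸ locI A q) ⊗[Localization.AtPrime q]
        LocalizedModule q.primeCompl M)] :
    Module.Free (Localization.AtPrime q) (LocalizedModule q.primeCompl M) := by
  haveI := flat_localizedModule A M q
  exact free_of_flat_quot (locI A q) (locI_le A q) _
    (rTensor_map_subtype_injective (R := Localization.AtPrime q)
      (N := LocalizedModule q.primeCompl M) (q.comap (algebraMap A B)))

/-- vanishing of the stalk from vanishing of the fibre stalk (Nakayama). -/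
theorem subsingleton_localizedModule_of_quot [Module.FinitePresentation B M]
    (h : Subsingleton ((Localization.AtPrime q ⧸ locI A q) ⊗[Localization.AtPrime q]
        LocalizedModule q.primeCompl M)) :
    Subsingleton (LocalizedModule q.primeCompl M) := by
  have h1 : Subsingleton (LocalizedModule q.primeCompl M ⧸
      (locI A q • (⊤ : Submodule (Localization.AtPrime q) (LocalizedModule q.primeCompl M)))) :=
    (TensorProduct.quotTensorEquivQuotSMul (LocalizedModule q.primeCompl M)
      (locI A q)).symm.injective.subsingleton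
  have h2 : (locI A q • (⊤ : Submodule (Localization.AtPrime q)
      (LocalizedModule q.primeCompl M))) = ⊤ :=
    Submodule.Quotient.subsingleton_iff.mp h1
  have h3 : (⊤ : Submodule (Localization.AtPrime q) (LocalizedModule q.primeCompl M)) = ⊥ :=
    Submodule.eq_bot_of_le_smul_of_le_jacobson_bot (locI A q) ⊤ Module.Finite.fg_top
      (by rw [h2]) (by
        rw [IsLocalRing.jacobson_eq_maximalIdeal ⊥ bot_ne_top]
        exact locI_le A q)
  exact (Submodule.subsingleton_iff (Localization.AtPrime q)).mp
    (subsingleton_iff_bot_eq_top.mp h3.symm)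

/-- transfer from the fibre ring `B ⊗[A] κ(p)` to the fibre stalk `B_q / p B_q`. -/
theorem fibre_transfer :
    (Module.Flat (B ⊗[A] (q.comap (algebraMap A B)).ResidueField)
        ((B ⊗[A] (q.comap (algebraMap A B)).ResidueField) ⊗[B] M) →
      Module.Flat (Localization.AtPrime q ⧸ locI A q)
        ((Localization.AtPrime q ⧸ locI A q) ⊗[Localization.AtPrime q]
          LocalizedModule q.primeCompl M)) ∧
    (Subsingleton ((B ⊗[A] (q.comap (algebraMap A B)).ResidueField) ⊗[B] M) →
      Subsingleton ((Localization.AtPrime q ⧸ locI A q) ⊗[Localization.AtPrime q]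
        LocalizedModule q.primeCompl M)) := by
  have hf₁ : q.comap (algebraMap A B) ≤
      RingHom.ker (Algebra.ofId A (Localization.AtPrime q ⧸ locI A q)) := by
    intro a ha
    rw [RingHom.mem_ker]
    show algebraMap A (Localization.AtPrime q ⧸ locI A q) a = 0
    rw [IsScalarTower.algebraMap_apply A (Localization.AtPrime q)
      (Localization.AtPrime q ⧸ locI A q), Ideal.Quotient.algebraMap_eq,
      Ideal.Quotient.eq_zero_iff_mem]
    exact Ideal.mem_map_of_mem _ ha
  have hf₂ : (q.comap (algebraMap A B)).primeCompl ≤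
      (IsUnit.submonoid (Localization.AtPrime q ⧸ locI A q)).comap
        (Algebra.ofId A (Localization.AtPrime q ⧸ locI A q)) := by
    intro a ha
    show IsUnit (algebraMap A (Localization.AtPrime q ⧸ locI A q) a)
    rw [IsScalarTower.algebraMap_apply A (Localization.AtPrime q)
      (Localization.AtPrime q ⧸ locI A q),
      IsScalarTower.algebraMap_apply A B (Localization.AtPrime q)]
    apply IsUnit.map
    have ha' : algebraMap A B a ∈ q.primeCompl := ha
    exact IsLocalization.map_units (Localization.AtPrime q) (⟨algebraMap A B a, ha'⟩ : q.primeCompl)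
  let g : (q.comap (algebraMap A B)).ResidueField →ₐ[A] (Localization.AtPrime q ⧸ locI A q) :=
    Ideal.ResidueField.liftₐ (q.comap (algebraMap A B))
      (Algebra.ofId A (Localization.AtPrime q ⧸ locI A q)) hf₁ hf₂
  let φ : (B ⊗[A] (q.comap (algebraMap A B)).ResidueField) →ₐ[B]
      (Localization.AtPrime q ⧸ locI A q) :=
    Algebra.TensorProduct.lift (Algebra.ofId B (Localization.AtPrime q ⧸ locI A q)) g
      (fun _ _ => Commute.all _ _)
  letI : Algebra (B ⊗[A] (q.comap (algebraMap A B)).ResidueField)
      (Localization.AtPrime q ⧸ locI A q) := φ.toRingHom.toAlgebra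
  haveI : IsScalarTower B (B ⊗[A] (q.comap (algebraMap A B)).ResidueField)
      (Localization.AtPrime q ⧸ locI A q) :=
    IsScalarTower.of_algebraMap_eq (fun b => (φ.commutes b).symm)
  let e₁ := AlgebraTensorModule.cancelBaseChange B
    (B ⊗[A] (q.comap (algebraMap A B)).ResidueField) (Localization.AtPrime q ⧸ locI A q)
    (Localization.AtPrime q ⧸ locI A q) M
  let e₂ := AlgebraTensorModule.cancelBaseChange B (Localization.AtPrime q)
    (Localization.AtPrime q ⧸ locI A q) (Localization.AtPrime q ⧸ locI A q) M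
  let e₃ : (Localization.AtPrime q ⧸ locI A q) ⊗[Localization.AtPrime q]
        LocalizedModule q.primeCompl M ≃ₗ[Localization.AtPrime q ⧸ locI A q]
      (Localization.AtPrime q ⧸ locI A q) ⊗[Localization.AtPrime q]
        (Localization.AtPrime q ⊗[B] M) :=
    AlgebraTensorModule.congr (LinearEquiv.refl (Localization.AtPrime q ⧸ locI A q)
      (Localization.AtPrime q ⧸ locI A q)) (LocalizedModule.equivTensorProduct q.primeCompl M)
  let e := e₁ ≪≫ₗ e₂.symm ≪≫ₗ e₃.symm
  constructor
  · intro hfl
    exact Module.Flat.of_linearEquiv e.symm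
  · intro hs
    haveI : Subsingleton ((Localization.AtPrime q ⧸ locI A q) ⊗[B ⊗[A]
        (q.comap (algebraMap A B)).ResidueField]
        ((B ⊗[A] (q.comap (algebraMap A B)).ResidueField) ⊗[B] M)) := by
      have h0 : ∀ z : (Localization.AtPrime q ⧸ locI A q) ⊗[B ⊗[A]
          (q.comap (algebraMap A B)).ResidueField]
          ((B ⊗[A] (q.comap (algebraMap A B)).ResidueField) ⊗[B] M), z = 0 := fun z => by
        induction z using TensorProduct.induction_on with
        | zero => rfl
        | tmul c m => rw [Subsingleton.elim m 0, TensorProduct.tmul_zero]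
        | add a b ha hb => rw [ha, hb, add_zero]
      exact ⟨fun x y => by rw [h0 x, h0 y]⟩
    exact e.symm.injective.subsingleton

end Loc

section Glob

variable (A B M : Type u) [CommRing A] [CommRing B] [Algebra A B]
  [AddCommGroup M] [Module B M] [Module A M] [IsScalarTower A B M]
  [Module.FinitePresentation B M] [Module.Flat A M]

/-- **Fibrewise criterion, projective case.** -/
theorem projective_of_fibres
    (h : ∀ p : PrimeSpectrum A, Module.Projective (B ⊗[A] p.asIdeal.ResidueField)
      ((B ⊗[A] p.asIdeal.ResidueField) ⊗[B] M)) : Module.Projective B M := by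
  apply Module.projective_of_localization_maximal
  intro q hq
  haveI := hq.isPrime
  haveI hp : Module.Projective (B ⊗[A] (q.comap (algebraMap A B)).ResidueField)
      ((B ⊗[A] (q.comap (algebraMap A B)).ResidueField) ⊗[B] M) :=
    h ⟨q.comap (algebraMap A B), inferInstance⟩
  haveI := (fibre_transfer A M q).1 inferInstance
  haveI := free_localizedModule_of_flat_quot A M q
  infer_instance

/-- **Fibrewise criterion, zero case.** -/
theorem subsingleton_of_fibres
    (h : ∀ p : PrimeSpectrum A, Subsingleton ((B ⊗[A] p.asIdeal.ResidueField) ⊗[B] M)) :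
    Subsingleton M := by
  apply Module.subsingleton_of_localization_maximal (R := B)
    (fun q => LocalizedModule q.primeCompl M) (fun q => LocalizedModule.mkLinearMap q.primeCompl M)
  intro q hq
  exact subsingleton_localizedModule_of_quot A M q
    ((fibre_transfer A M q).2 (h ⟨q.comap (algebraMap A B), inferInstance⟩))

end Glob

end Groth.Agent.H57.FibPD
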