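import Groth.Agent.H57.FPKer
import Groth.Agent.H82.FinFreeRes

/-! Finite free resolutions of finitely presented modules, flat over the base, over a flat
finitely presented algebra (helper57; the resolution builder is adapted from helper82's
`H82/FinFreeRes.lean`). -/

set_option autoImplicit false
set_option linter.unusedSectionVars false
set_option linter.unusedVariables false
set_option linter.style.haveILetI false
set_option backward.isDefEq.respectTransparency false

universe u

open CategoryTheory CategoryTheory.Limits

namespace Groth.Agent.H57.FPRes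

variable (A B : Type u) [CommRing A] [CommRing B] [Algebra A B] [Algebra.FinitePresentation A B]
  [Module.Flat A B]

/-- A finitely presented `B`-module which is flat over `A`. -/
structure Obj where
  /-- the underlying type -/
  X : Type u
  [grp : AddCommGroup X]
  [modB : Module B X]
  [modA : Module A X]
  [tower : IsScalarTower A B X]
  fp : Module.FinitePresentation B X
  flat : Module.Flat A X

attribute [instance] Obj.grp Obj.modB Obj.modA Obj.tower

variable {A B}

namespace Obj

/-- The rank of the chosen finite free cover. -/
noncomputable def rank (K : Obj A B) : ℕ :=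
  haveI := K.fp
  haveI := K.flat
  (FPKer.exists_surjective_ker_fp A B K.X).choose

/-- The chosen cover. -/
noncomputable def πlin (K : Obj A B) : (Fin K.rank → B) →ₗ[B] K.X :=
  haveI := K.fp
  haveI := K.flat
  (FPKer.exists_surjective_ker_fp A B K.X).choose_spec.choose

theorem πlin_surjective (K : Obj A B) : Function.Surjective K.πlin :=
  haveI := K.fp
  haveI := K.flat
  (FPKer.exists_surjective_ker_fp A B K.X).choose_spec.choose_spec.1

theorem ker_fp (K : Obj A B) : Module.FinitePresentation B (LinearMap.ker K.πlin) :=
  haveI := K.fp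
  haveI := K.flat
  (FPKer.exists_surjective_ker_fp A B K.X).choose_spec.choose_spec.2

/-- The module as an object of `ModuleCat B`. -/
noncomputable def carrier (K : Obj A B) : ModuleCat.{u} B := ModuleCat.of B K.X

/-- The chosen free module. -/
noncomputable def F (K : Obj A B) : ModuleCat.{u} B := ModuleCat.of B (Fin K.rank → B)

/-- The chosen cover as a morphism. -/
noncomputable def π (K : Obj A B) : K.F ⟶ K.carrier := ModuleCat.ofHom K.πlin

/-- The kernel of the chosen cover. -/
noncomputable def next (K : Obj A B) : Obj A B where
  X := LinearMap.ker K.πlin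
  fp := K.ker_fp
  flat :=
    haveI := K.flat
    FPKer.flat_ker K.πlin K.πlin_surjective

/-- The inclusion of the kernel. -/
noncomputable def ι (K : Obj A B) : K.next.carrier ⟶ K.F :=
  ModuleCat.ofHom (LinearMap.ker K.πlin).subtype

/-- The differential. -/
noncomputable def dK (K : Obj A B) : K.next.F ⟶ K.F := K.next.π ≫ K.ι

theorem ι_π (K : Obj A B) : K.ι ≫ K.π = 0 := by
  ext x
  exact x.2

theorem dK_π (K : Obj A B) : K.dK ≫ K.π = 0 := by
  rw [dK, Category.assoc, ι_π, comp_zero]

theorem dK_dK (K : Obj A B) : K.next.dK ≫ K.dK = 0 := by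
  rw [dK, dK, Category.assoc, reassoc_of% (ι_π K.next), zero_comp, comp_zero]

theorem exact_dK_π (K : Obj A B) : (ShortComplex.mk K.dK K.π K.dK_π).Exact := by
  rw [ShortComplex.moduleCat_exact_iff]
  intro x hx
  obtain ⟨y, hy⟩ := K.next.πlin_surjective ⟨x, hx⟩
  refine ⟨y, ?_⟩
  show (K.ι.hom (K.next.π.hom y)) = x
  have : K.next.π.hom y = ⟨x, hx⟩ := hy
  rw [this]
  rfl

theorem exact_dK_dK (K : Obj A B) : (ShortComplex.mk K.next.dK K.dK K.dK_dK).Exact := by
  rw [ShortComplex.moduleCat_exact_iff]
  intro x hx
  have hx' : K.next.πlin x = 0 := by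
    have h1 : K.ι.hom (K.next.π.hom x) = 0 := hx
    have h2 : (LinearMap.ker K.πlin).subtype (K.next.πlin x) = 0 := h1
    exact (LinearMap.ker K.πlin).injective_subtype (by rw [h2, map_zero])
  obtain ⟨y, hy⟩ := K.next.next.πlin_surjective ⟨x, hx'⟩
  refine ⟨y, ?_⟩
  show (K.next.ι.hom (K.next.next.π.hom y)) = x
  have : K.next.next.π.hom y = ⟨x, hx'⟩ := hy
  rw [this]
  rfl

instance (K : Obj A B) : Projective K.F :=
  inferInstanceAs (Projective (ModuleCat.of B (Fin K.rank → B)))

/-- The sequence of syzygies. -/
noncomputable def stage (K : Obj A B) : ℕ → Obj A B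
  | 0 => K
  | n + 1 => (stage K n).next

end Obj

/-- A resolution by finite free modules. -/
noncomputable def finFreeRes (K : Obj A B) : ProjectiveResolution K.carrier :=
  Groth.Agent.H82.FinFreeRes.ofExact (fun n => (K.stage n).F) (fun n => (K.stage n).dK)
    (fun n => (K.stage n).dK_dK)
    K.π K.dK_π ((ModuleCat.epi_iff_surjective _).mpr K.πlin_surjective) K.exact_dK_π
    (fun n => (K.stage n).exact_dK_dK) (fun n => inferInstance)

theorem finFreeRes_finite (K : Obj A B) (n : ℕ) :
    Module.Finite B ((finFreeRes K).complex.X n) :=
  inferInstanceAs (Module.Finite B (Fin (K.stage n).rank → B))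

theorem finFreeRes_free (K : Obj A B) (n : ℕ) :
    Module.Free B ((finFreeRes K).complex.X n) :=
  inferInstanceAs (Module.Free B (Fin (K.stage n).rank → B))

/-- **Finite free resolutions** of finitely presented modules flat over the base, over a flat
finitely presented algebra. -/
theorem exists_finFreeRes (M : Type u) [AddCommGroup M] [Module B M] [Module A M]
    [IsScalarTower A B M] [Module.FinitePresentation B M] [Module.Flat A M] :
    ∃ P : ProjectiveResolution (ModuleCat.of B M),
      ∀ n : ℕ, Module.Finite B (P.complex.X n) ∧ Module.Free B (P.complex.X n) :=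
  ⟨finFreeRes (A := A) ⟨M, inferInstance, inferInstance⟩,
    fun n => ⟨finFreeRes_finite _ n, finFreeRes_free _ n⟩⟩

end Groth.Agent.H57.FPRes
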