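import Groth.Agent.H57.ArtFamLocA

/-!
Both sides localized (`stalk_core_primeAB`), and flatness from a finite injective base change
(EGA IV 11.5-type statement, algebraic core): Artin–Rees + local-global + adic assembly.
-/

set_option autoImplicit false
set_option linter.style.haveILetI false
universe u

open TensorProduct IsLocalRing

namespace Groth.Agent.H57.ArtFamFin

open Groth.Agent.H57 Groth.Agent.H57.ArtFam Groth.Agent.H57.ArtFamLocA

section PrimeAB

variable {R C B₀ E₀ A₀ : Type u} [CommRing R] [CommRing C] [CommRing B₀] [CommRing E₀]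
  [CommRing A₀]
  [Algebra R C] [Algebra R B₀] [Algebra C E₀] [Algebra B₀ E₀] [Algebra R E₀]
  [IsScalarTower R C E₀] [IsScalarTower R B₀ E₀] [Algebra.IsPushout R C B₀ E₀]
  [IsNoetherianRing C]
  (𝔭 : Ideal R) [𝔭.IsPrime] [Algebra R A₀] [IsLocalization.AtPrime A₀ 𝔭] [IsLocalRing A₀]
  [Algebra A₀ B₀] [IsScalarTower R A₀ B₀]
  (p : Ideal C) [p.IsPrime]
  {P : Type u} [AddCommGroup P] [Module C P] [Module.Finite C P]
  [SMulCommClass C B₀ E₀]

set_option maxHeartbeats 3200000 in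
/-- `stalk_core` with the base localized at `𝔭` and the base-change side localized at `𝔮`. -/
theorem stalk_core_primeAB (𝔮 : Ideal B₀) [𝔮.IsPrime]
    (h𝔮 : (maximalIdeal A₀).map (algebraMap A₀ B₀) ≤ 𝔮)
    (Sx : Type u) [CommRing Sx]
    [Algebra C Sx] [IsLocalization.AtPrime Sx p] [Algebra A₀ Sx] [Algebra R Sx]
    [IsScalarTower R A₀ Sx] [IsScalarTower R C Sx]
    {M : Type u} [AddCommGroup M] [Module Sx M] [Module C M] [IsScalarTower C Sx M]
    [Module A₀ M] [IsScalarTower A₀ Sx M]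
    (hp𝔭 : p.comap (algebraMap R C) = 𝔭)
    (l : P →ₗ[C] M) [IsLocalizedModule p.primeCompl l]
    (hfl : ∀ (n : Ideal E₀) [n.IsPrime], n.comap (algebraMap C E₀) = p →
      n.comap (algebraMap B₀ E₀) = 𝔮 →
        Module.Flat B₀ (LocalizedModule n.primeCompl (E₀ ⊗[C] P)))
    {ι : Type*} [Finite ι] (v : ι → M)
    (hv : ∀ (s : Finset ι) (a : ι → A₀),
      ∑ i ∈ s, a i • v i ∈ (maximalIdeal A₀ • ⊤ : Submodule A₀ M) →
        ∀ i ∈ s, a i ∈ maximalIdeal A₀)
    (𝔟 : Ideal (Localization.AtPrime 𝔮)) (h𝔟 : 𝔟 ≠ ⊤) (s : Finset ι) (c : ι → A₀)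
    (hc : ∑ i ∈ s, c i • v i ∈
      ((𝔟.comap (algebraMap A₀ (Localization.AtPrime 𝔮))) • ⊤ : Submodule A₀ M)) :
    ∀ i ∈ s, algebraMap A₀ (Localization.AtPrime 𝔮) (c i) ∈ 𝔟 := by
  classical
  haveI tRBE : IsScalarTower R (Localization.AtPrime 𝔮)
      (Localization (Algebra.algebraMapSubmonoid E₀ 𝔮.primeCompl)) :=
    IsScalarTower.of_algebraMap_eq' (by
      rw [IsScalarTower.algebraMap_eq R B₀
          (Localization (Algebra.algebraMapSubmonoid E₀ 𝔮.primeCompl)),
        IsScalarTower.algebraMap_eq B₀ (Localization.AtPrime 𝔮)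
          (Localization (Algebra.algebraMapSubmonoid E₀ 𝔮.primeCompl)),
        RingHom.comp_assoc, ← IsScalarTower.algebraMap_eq R B₀ (Localization.AtPrime 𝔮)])
  haveI po0 : Algebra.IsPushout B₀ E₀ (Localization.AtPrime 𝔮)
      (Localization (Algebra.algebraMapSubmonoid E₀ 𝔮.primeCompl)) :=
    Algebra.isPushout_of_isLocalization 𝔮.primeCompl _ _ _
  haveI po0' : Algebra.IsPushout B₀ (Localization.AtPrime 𝔮) E₀
      (Localization (Algebra.algebraMapSubmonoid E₀ 𝔮.primeCompl)) := po0.symm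
  haveI po1 : Algebra.IsPushout R B₀ C E₀ := Algebra.IsPushout.symm inferInstance
  haveI po2 : Algebra.IsPushout R (Localization.AtPrime 𝔮) C
      (Localization (Algebra.algebraMapSubmonoid E₀ 𝔮.primeCompl)) :=
    (Algebra.IsPushout.comp_iff (R := R) (S := B₀) (R' := C) (S' := E₀)
      (T := Localization.AtPrime 𝔮)
      (T' := Localization (Algebra.algebraMapSubmonoid E₀ 𝔮.primeCompl))).mpr po0'
  haveI po3 : Algebra.IsPushout R C (Localization.AtPrime 𝔮)
      (Localization (Algebra.algebraMapSubmonoid E₀ 𝔮.primeCompl)) := po2.symm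
  letI c1 : SMulCommClass C (Localization.AtPrime 𝔮)
      (Localization (Algebra.algebraMapSubmonoid E₀ 𝔮.primeCompl)) := ⟨fun c b e => by
    simp only [Algebra.smul_def]; ring⟩
  letI c3 : SMulCommClass C B₀
      (Localization (Algebra.algebraMapSubmonoid E₀ 𝔮.primeCompl)) := ⟨fun c b e => by
    simp only [Algebra.smul_def]; ring⟩
  letI c4 : SMulCommClass C E₀
      (Localization (Algebra.algebraMapSubmonoid E₀ 𝔮.primeCompl)) := ⟨fun c b e => by
    simp only [Algebra.smul_def]; ring⟩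
  haveI hloc : IsLocalHom (algebraMap A₀ (Localization.AtPrime 𝔮)) := by
    refine ⟨fun a ha => ?_⟩
    by_contra hna
    have hmem : a ∈ maximalIdeal A₀ := (IsLocalRing.mem_maximalIdeal a).mpr hna
    have h1 : algebraMap A₀ B₀ a ∈ 𝔮 := h𝔮 (Ideal.mem_map_of_mem _ hmem)
    have h2 : algebraMap B₀ (Localization.AtPrime 𝔮) (algebraMap A₀ B₀ a) ∈
        maximalIdeal (Localization.AtPrime 𝔮) :=
      (IsLocalization.AtPrime.to_map_mem_maximal_iff (Localization.AtPrime 𝔮) 𝔮 _).mpr h1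
    rw [← IsScalarTower.algebraMap_apply] at h2
    exact (IsLocalRing.mem_maximalIdeal _).mp h2 ha
  let f₀ : E₀ ⊗[C] P →ₗ[E₀] (Localization (Algebra.algebraMapSubmonoid E₀ 𝔮.primeCompl)) ⊗[C] P :=
    (TensorProduct.isBaseChange C P E₀).lift
      (TensorProduct.mk C (Localization (Algebra.algebraMapSubmonoid E₀ 𝔮.primeCompl)) P 1)
  have hf₀ : IsBaseChange (Localization (Algebra.algebraMapSubmonoid E₀ 𝔮.primeCompl)) f₀ := by
    refine IsBaseChange.of_comp (TensorProduct.isBaseChange C P E₀) ?_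
    have e : (f₀.restrictScalars C) ∘ₗ (TensorProduct.mk C E₀ P 1) =
        TensorProduct.mk C (Localization (Algebra.algebraMapSubmonoid E₀ 𝔮.primeCompl)) P 1 :=
      (TensorProduct.isBaseChange C P E₀).lift_comp _
    rw [e]
    exact TensorProduct.isBaseChange C P _
  have hflE : ∀ (n : Ideal (Localization (Algebra.algebraMapSubmonoid E₀ 𝔮.primeCompl)))
      [n.IsPrime], n.comap (algebraMap C _) = p →
      n.comap (algebraMap (Localization.AtPrime 𝔮) _) = maximalIdeal (Localization.AtPrime 𝔮) →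
        Module.Flat (Localization.AtPrime 𝔮) (LocalizedModule n.primeCompl
          ((Localization (Algebra.algebraMapSubmonoid E₀ 𝔮.primeCompl)) ⊗[C] P)) := by
    intro n hn h1 h2
    have h1' : (n.comap (algebraMap E₀ _)).comap (algebraMap C E₀) = p := by
      rw [Ideal.comap_comap, ← IsScalarTower.algebraMap_eq]
      exact h1
    have h2' : (n.comap (algebraMap E₀ _)).comap (algebraMap B₀ E₀) = 𝔮 := by
      rw [Ideal.comap_comap, ← IsScalarTower.algebraMap_eq,
        IsScalarTower.algebraMap_eq B₀ (Localization.AtPrime 𝔮), ← Ideal.comap_comap, h2]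
      exact IsLocalization.AtPrime.under_maximalIdeal (Localization.AtPrime 𝔮) 𝔮
    haveI := hfl (n.comap (algebraMap E₀ _)) h1' h2'
    exact flat_localizedModule_baseChange (R := B₀) (S := E₀) (R' := Localization.AtPrime 𝔮)
      (S' := Localization (Algebra.algebraMapSubmonoid E₀ 𝔮.primeCompl)) f₀ hf₀ n
  exact stalk_core_primeA (R := R) (C := C) (B := Localization.AtPrime 𝔮)
    (E := Localization (Algebra.algebraMapSubmonoid E₀ 𝔮.primeCompl)) (A₀ := A₀) 𝔭 p Sx hp𝔭 l
    hflE v hv 𝔟 h𝔟 s c hc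

set_option maxHeartbeats 1600000 in
/-- Flatness of `M = P_p` over `A₀ = R_𝔭` from flatness of the base change to a finite injective
`A₀`-algebra `B₀` at the primes over `p` and over the maximal ideals of `B₀`. -/
theorem flat_of_finite_injective [IsNoetherianRing A₀] [Module.Finite A₀ B₀]
    (hinj : Function.Injective (algebraMap A₀ B₀))
    (Sx : Type u) [CommRing Sx] [IsNoetherianRing Sx]
    [Algebra C Sx] [IsLocalization.AtPrime Sx p] [Algebra A₀ Sx] [Algebra R Sx]
    [IsScalarTower R A₀ Sx] [IsScalarTower R C Sx]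
    {M : Type u} [AddCommGroup M] [Module Sx M] [Module C M] [IsScalarTower C Sx M]
    [Module A₀ M] [IsScalarTower A₀ Sx M] [Module.Finite Sx M]
    (hI : (maximalIdeal A₀).map (algebraMap A₀ Sx) ≤ Ideal.jacobson ⊥)
    (hp𝔭 : p.comap (algebraMap R C) = 𝔭)
    (l : P →ₗ[C] M) [IsLocalizedModule p.primeCompl l]
    (hfl : ∀ (𝔮 : Ideal B₀) [𝔮.IsMaximal] (n : Ideal E₀) [n.IsPrime],
      n.comap (algebraMap C E₀) = p → n.comap (algebraMap B₀ E₀) = 𝔮 →
        Module.Flat B₀ (LocalizedModule n.primeCompl (E₀ ⊗[C] P))) :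
    Module.Flat A₀ M := by
  classical
  refine flat_of_forall_exists_ideal (S := Sx) hI (fun k => ?_)
  obtain ⟨k₀, hk₀⟩ := Ideal.exists_pow_inf_eq_pow_smul (maximalIdeal A₀)
    (LinearMap.range (Algebra.linearMap A₀ B₀))
  refine ⟨((maximalIdeal A₀ ^ (k + k₀ + 1)).map (algebraMap A₀ B₀)).comap (algebraMap A₀ B₀),
    k + k₀ + 1, ?_, Ideal.le_comap_map, ?_⟩
  · intro a ha
    have h1 : algebraMap A₀ B₀ a ∈ (maximalIdeal A₀ ^ (k + k₀ + 1) • ⊤ : Submodule A₀ B₀) ⊓
        LinearMap.range (Algebra.linearMap A₀ B₀) := by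
      refine ⟨?_, ⟨a, rfl⟩⟩
      rw [Ideal.smul_top_eq_map]
      exact ha
    rw [hk₀ (k + k₀ + 1) (by omega)] at h1
    have h2 : (maximalIdeal A₀ ^ (k + k₀ + 1 - k₀) •
        ((maximalIdeal A₀ ^ k₀ • ⊤ : Submodule A₀ B₀) ⊓
          LinearMap.range (Algebra.linearMap A₀ B₀))) ≤
        Submodule.map (Algebra.linearMap A₀ B₀)
          ((maximalIdeal A₀ ^ (k + k₀ + 1 - k₀) : Ideal A₀).restrictScalars A₀) := by
      rw [Submodule.smul_le]
      rintro r hr _ ⟨-, ⟨b, rfl⟩⟩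
      refine ⟨r * b, Ideal.mul_mem_right _ _ hr, ?_⟩
      simp [Algebra.smul_def]
    obtain ⟨a', ha', haa'⟩ := h2 h1
    have haa : a' = a := hinj haa'
    rw [← haa]
    exact Ideal.pow_le_pow_right (by omega : k ≤ k + k₀ + 1 - k₀) ha'
  · intro ι₀ _ v hv s c hc i hi
    rw [Ideal.mem_comap]
    apply Ideal.mem_of_localization_maximal
    intro 𝔮 h𝔮max
    haveI := h𝔮max
    haveI : Algebra.IsIntegral A₀ B₀ := inferInstance
    have hlies : (maximalIdeal A₀).map (algebraMap A₀ B₀) ≤ 𝔮 := by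
      rw [Ideal.map_le_iff_le_comap]
      have hmax : (𝔮.comap (algebraMap A₀ B₀)).IsMaximal :=
        Ideal.isMaximal_comap_of_isIntegral_of_isMaximal 𝔮
      exact (IsLocalRing.eq_maximalIdeal hmax).ge
    have hI'𝔮 : (maximalIdeal A₀ ^ (k + k₀ + 1)).map (algebraMap A₀ B₀) ≤ 𝔮 :=
      (Ideal.map_mono (Ideal.pow_le_self (by omega))).trans hlies
    have h𝔟 : ((maximalIdeal A₀ ^ (k + k₀ + 1)).map (algebraMap A₀ B₀)).map
        (algebraMap B₀ (Localization.AtPrime 𝔮)) ≠ ⊤ := by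
      intro htop
      have h3 : 𝔮.map (algebraMap B₀ (Localization.AtPrime 𝔮)) = ⊤ :=
        top_le_iff.mp (htop ▸ Ideal.map_mono hI'𝔮)
      rw [IsLocalization.AtPrime.map_eq_maximalIdeal] at h3
      exact (IsLocalRing.maximalIdeal.isMaximal _).ne_top h3
    have h4 := stalk_core_primeAB (R := R) (C := C) (B₀ := B₀) (E₀ := E₀) (A₀ := A₀) 𝔭 p 𝔮 hlies
      Sx hp𝔭 l (fun n hn h1 h2 => hfl 𝔮 n h1 h2) v hv _ h𝔟 s c
      (by
        refine Submodule.smul_mono_left ?_ hc
        intro a ha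
        rw [Ideal.mem_comap, IsScalarTower.algebraMap_apply A₀ B₀ (Localization.AtPrime 𝔮)]
        exact Ideal.mem_map_of_mem _ ha) i hi
    rwa [IsScalarTower.algebraMap_apply A₀ B₀ (Localization.AtPrime 𝔮)] at h4

end PrimeAB

end Groth.Agent.H57.ArtFamFin
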