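import Groth.Agent.H57.ArtFam

/-!
Localized variants of `ArtFam.stalk_core`: the base-changed side `B₀` need not be local; we localize
it at a prime `𝔮`.
-/

set_option autoImplicit false
set_option linter.style.haveILetI false
universe u

open TensorProduct IsLocalRing

namespace Groth.Agent.H57.ArtFamLoc

open Groth.Agent.H57 Groth.Agent.H57.ArtFam

section PrimeB

variable {A C B₀ E₀ : Type u} [CommRing A] [CommRing C] [CommRing B₀] [CommRing E₀]
  [Algebra A C] [Algebra A B₀] [Algebra C E₀] [Algebra B₀ E₀] [Algebra A E₀]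
  [IsScalarTower A C E₀] [IsScalarTower A B₀ E₀] [Algebra.IsPushout A C B₀ E₀]
  [IsLocalRing A] [IsNoetherianRing C]
  {P : Type u} [AddCommGroup P] [Module C P] [Module A P] [IsScalarTower A C P]
  [Module.Finite C P] [SMulCommClass C B₀ E₀]
  (p : Ideal C) [p.IsPrime] (𝔮 : Ideal B₀) [𝔮.IsPrime]

set_option maxHeartbeats 3200000 in
/-- `stalk_core` with a non-local `B₀` and a prime `𝔮` of `B₀` over the maximal ideal of `A`:
relations in `P_p` die in `(B₀)_𝔮`. -/
theorem stalk_core_prime (h𝔮 : (maximalIdeal A).map (algebraMap A B₀) ≤ 𝔮)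
    {M : Type u} [AddCommGroup M] [Module C M] [Module A M] [IsScalarTower A C M]
    (l : P →ₗ[C] M) [IsLocalizedModule p.primeCompl l]
    (hfl : ∀ (n : Ideal E₀) [n.IsPrime], n.comap (algebraMap C E₀) = p →
      n.comap (algebraMap B₀ E₀) = 𝔮 →
        Module.Flat B₀ (LocalizedModule n.primeCompl (E₀ ⊗[C] P)))
    {ι : Type*} [Finite ι] (v : ι → M)
    (hv : ∀ (s : Finset ι) (a : ι → A),
      ∑ i ∈ s, a i • v i ∈ (maximalIdeal A • ⊤ : Submodule A M) → ∀ i ∈ s, a i ∈ maximalIdeal A)
    (s : Finset ι) (c : ι → A) (hc : ∑ i ∈ s, c i • v i = 0) :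
    ∀ i ∈ s, ∃ t : B₀, t ∉ 𝔮 ∧ t * algebraMap A B₀ (c i) = 0 := by
  classical
  -- towers
  haveI tABE : IsScalarTower A (Localization.AtPrime 𝔮)
      (Localization (Algebra.algebraMapSubmonoid E₀ 𝔮.primeCompl)) :=
    IsScalarTower.of_algebraMap_eq' (by
      rw [IsScalarTower.algebraMap_eq A B₀
          (Localization (Algebra.algebraMapSubmonoid E₀ 𝔮.primeCompl)),
        IsScalarTower.algebraMap_eq B₀ (Localization.AtPrime 𝔮)
          (Localization (Algebra.algebraMapSubmonoid E₀ 𝔮.primeCompl)),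
        RingHom.comp_assoc, ← IsScalarTower.algebraMap_eq A B₀ (Localization.AtPrime 𝔮)])
  haveI po0 : Algebra.IsPushout B₀ E₀ (Localization.AtPrime 𝔮)
      (Localization (Algebra.algebraMapSubmonoid E₀ 𝔮.primeCompl)) :=
    Algebra.isPushout_of_isLocalization 𝔮.primeCompl _ _ _
  haveI po0' : Algebra.IsPushout B₀ (Localization.AtPrime 𝔮) E₀
      (Localization (Algebra.algebraMapSubmonoid E₀ 𝔮.primeCompl)) := po0.symm
  haveI po1 : Algebra.IsPushout A B₀ C E₀ := Algebra.IsPushout.symm inferInstance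
  haveI po2 : Algebra.IsPushout A (Localization.AtPrime 𝔮) C
      (Localization (Algebra.algebraMapSubmonoid E₀ 𝔮.primeCompl)) :=
    (Algebra.IsPushout.comp_iff (R := A) (S := B₀) (R' := C) (S' := E₀)
      (T := Localization.AtPrime 𝔮)
      (T' := Localization (Algebra.algebraMapSubmonoid E₀ 𝔮.primeCompl))).mpr po0'
  haveI po3 : Algebra.IsPushout A C (Localization.AtPrime 𝔮)
      (Localization (Algebra.algebraMapSubmonoid E₀ 𝔮.primeCompl)) := po2.symm
  -- commutation instances
  letI c1 : SMulCommClass C (Localization.AtPrime 𝔮)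
      (Localization (Algebra.algebraMapSubmonoid E₀ 𝔮.primeCompl)) := ⟨fun c b e => by
    simp only [Algebra.smul_def]; ring⟩
  letI c2 : SMulCommClass C A
      (Localization (Algebra.algebraMapSubmonoid E₀ 𝔮.primeCompl)) := ⟨fun c b e => by
    simp only [Algebra.smul_def]; ring⟩
  letI c3 : SMulCommClass C B₀
      (Localization (Algebra.algebraMapSubmonoid E₀ 𝔮.primeCompl)) := ⟨fun c b e => by
    simp only [Algebra.smul_def]; ring⟩
  letI c4 : SMulCommClass C E₀
      (Localization (Algebra.algebraMapSubmonoid E₀ 𝔮.primeCompl)) := ⟨fun c b e => by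
    simp only [Algebra.smul_def]; ring⟩
  -- local hom
  haveI hloc : IsLocalHom (algebraMap A (Localization.AtPrime 𝔮)) := by
    refine ⟨fun a ha => ?_⟩
    by_contra hna
    have hmem : a ∈ maximalIdeal A := (IsLocalRing.mem_maximalIdeal a).mpr hna
    have h1 : algebraMap A B₀ a ∈ 𝔮 := h𝔮 (Ideal.mem_map_of_mem _ hmem)
    have h2 : algebraMap B₀ (Localization.AtPrime 𝔮) (algebraMap A B₀ a) ∈
        maximalIdeal (Localization.AtPrime 𝔮) :=
      (IsLocalization.AtPrime.to_map_mem_maximal_iff (Localization.AtPrime 𝔮) 𝔮 _).mpr h1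
    rw [← IsScalarTower.algebraMap_apply] at h2
    exact (IsLocalRing.mem_maximalIdeal _).mp h2 ha
  -- the base change map of modules
  let f₀ : E₀ ⊗[C] P →ₗ[E₀] (Localization (Algebra.algebraMapSubmonoid E₀ 𝔮.primeCompl)) ⊗[C] P :=
    (TensorProduct.isBaseChange C P E₀).lift
      (TensorProduct.mk C (Localization (Algebra.algebraMapSubmonoid E₀ 𝔮.primeCompl)) P 1)
  have hf₀ : IsBaseChange (Localization (Algebra.algebraMapSubmonoid E₀ 𝔮.primeCompl)) f₀ := by
    refine IsBaseChange.of_comp (TensorProduct.isBaseChange C P E₀) ?_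
    have e : (f₀.restrictScalars C) ∘ₗ (TensorProduct.mk C E₀ P 1) =
        TensorProduct.mk C (Localization (Algebra.algebraMapSubmonoid E₀ 𝔮.primeCompl)) P 1 :=
      (TensorProduct.isBaseChange C P E₀).lift_comp _
    rw [e]
    exact TensorProduct.isBaseChange C P _
  have hflE : ∀ (n : Ideal (Localization (Algebra.algebraMapSubmonoid E₀ 𝔮.primeCompl)))
      [n.IsPrime], n.comap (algebraMap C _) = p →
      n.comap (algebraMap (Localization.AtPrime 𝔮) _) = maximalIdeal (Localization.AtPrime 𝔮) →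
        Module.Flat (Localization.AtPrime 𝔮) (LocalizedModule n.primeCompl
          ((Localization (Algebra.algebraMapSubmonoid E₀ 𝔮.primeCompl)) ⊗[C] P)) := by
    intro n hn h1 h2
    have h1' : (n.comap (algebraMap E₀ _)).comap (algebraMap C E₀) = p := by
      rw [Ideal.comap_comap, ← IsScalarTower.algebraMap_eq]
      exact h1
    have h2' : (n.comap (algebraMap E₀ _)).comap (algebraMap B₀ E₀) = 𝔮 := by
      rw [Ideal.comap_comap, ← IsScalarTower.algebraMap_eq,
        IsScalarTower.algebraMap_eq B₀ (Localization.AtPrime 𝔮), ← Ideal.comap_comap, h2]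
      exact IsLocalization.AtPrime.under_maximalIdeal (Localization.AtPrime 𝔮) 𝔮
    haveI := hfl (n.comap (algebraMap E₀ _)) h1' h2'
    exact flat_localizedModule_baseChange (R := B₀) (S := E₀) (R' := Localization.AtPrime 𝔮)
      (S' := Localization (Algebra.algebraMapSubmonoid E₀ 𝔮.primeCompl)) f₀ hf₀ n
  have hcore := stalk_core (A := A) (C := C) (B := Localization.AtPrime 𝔮)
    (E := Localization (Algebra.algebraMapSubmonoid E₀ 𝔮.primeCompl)) (P := P)
    (P' := (Localization (Algebra.algebraMapSubmonoid E₀ 𝔮.primeCompl)) ⊗[C] P)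
    (TensorProduct.mk C _ P 1) (TensorProduct.isBaseChange C P _) p l hflE v hv ⊥ bot_ne_top s c
    (by rw [hc]; exact zero_mem _)
  intro i hi
  have h := hcore i hi
  rw [Ideal.mem_bot, IsScalarTower.algebraMap_apply A B₀ (Localization.AtPrime 𝔮),
    IsLocalization.map_eq_zero_iff 𝔮.primeCompl] at h
  obtain ⟨t, ht⟩ := h
  exact ⟨t.1, t.2, ht⟩

end PrimeB

end Groth.Agent.H57.ArtFamLoc
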