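import Mathlib

/-! Zero divisors in a tensor product of two field extensions lie in minimal primes; hence if the
spectrum of `K ⊗[k] L` is irreducible, every zero divisor of `K ⊗[k] L` is nilpotent (helper57). -/

set_option autoImplicit false
set_option linter.style.haveILetI false

universe u

open TensorProduct

namespace Groth.Agent.H57.TensorNZD

/-- Zero divisors of a free integral algebra over a domain lie in minimal primes. -/
theorem exists_minimalPrimes_mem_of_mul_eq_zero {R Λ : Type*} [CommRing R] [IsDomain R]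
    [CommRing Λ] [Algebra R Λ] [Module.Free R Λ] [Algebra.IsIntegral R Λ] (τ y : Λ)
    (h : τ * y = 0) (hy : y ≠ 0) : ∃ 𝔮 ∈ minimalPrimes Λ, τ ∈ 𝔮 := by
  classical
  let I : Ideal Λ := LinearMap.ker (LinearMap.toSpanSingleton Λ Λ y)
  have hI : ∀ t : Λ, t ∈ I ↔ t * y = 0 := fun t => by
    simp [I, LinearMap.mem_ker, LinearMap.toSpanSingleton_apply]
  let S : Submonoid Λ := Algebra.algebraMapSubmonoid Λ (nonZeroDivisors R)
  have hdis : Disjoint (I : Set Λ) (S : Set Λ) := by
    rw [Set.disjoint_left]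
    rintro _ hs ⟨r, hr, rfl⟩
    have h1 : algebraMap R Λ r * y = 0 := (hI _).mp hs
    rw [← Algebra.smul_def] at h1
    have hr0 : r ≠ 0 := nonZeroDivisors.ne_zero hr
    exact hy ((smul_eq_zero.mp h1).resolve_left hr0)
  obtain ⟨𝔮, h𝔮, hle, hd⟩ := Ideal.exists_le_prime_disjoint I S hdis
  obtain ⟨𝔫, h𝔫, h𝔫𝔮⟩ := Ideal.exists_minimalPrimes_le (I := ⊥) (J := 𝔮) bot_le
  have hcomap : 𝔮.comap (algebraMap R Λ) = ⊥ := by
    rw [eq_bot_iff]
    intro r hr
    by_contra hr0
    exact Set.disjoint_left.mp hd hr ⟨r, mem_nonZeroDivisors_of_ne_zero hr0, rfl⟩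
  have heq : 𝔫 = 𝔮 := by
    by_contra hne
    have hlt : 𝔫 < 𝔮 := lt_of_le_of_ne h𝔫𝔮 hne
    obtain ⟨x, hx𝔮, hx𝔫⟩ := SetLike.exists_of_lt hlt
    haveI : 𝔫.IsPrime := h𝔫.1.1
    have := Ideal.comap_lt_comap_of_integral_mem_sdiff h𝔫𝔮 ⟨hx𝔮, hx𝔫⟩
      (Algebra.IsIntegral.isIntegral (R := R) x)
    rw [hcomap] at this
    exact not_lt_bot this
  exact ⟨𝔮, heq ▸ h𝔫, hle ((hI τ).mpr h)⟩

/-- `F ⊗[k] K` is a domain when `F` is the fraction field of a `k`-algebra `A₀` with
`A₀ ⊗[k] K` a domain. -/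
theorem isDomain_tensor_of_isFractionRing {k K : Type*} [Field k] [Field K] [Algebra k K]
    (A₀ F : Type*) [CommRing A₀] [IsDomain A₀] [Field F] [Algebra k A₀] [Algebra k F] [Algebra A₀ F]
    [IsScalarTower k A₀ F] [IsFractionRing A₀ F] [IsDomain (A₀ ⊗[k] K)] : IsDomain (F ⊗[k] K) := by
  letI alg : Algebra (A₀ ⊗[k] K) (F ⊗[k] K) :=
    (Algebra.TensorProduct.map (IsScalarTower.toAlgHom k A₀ F) (AlgHom.id k K)).toRingHom.toAlgebra
  have halg : ∀ t, algebraMap (A₀ ⊗[k] K) (F ⊗[k] K) t =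
      Algebra.TensorProduct.map (IsScalarTower.toAlgHom k A₀ F) (AlgHom.id k K) t := fun _ => rfl
  haveI : IsScalarTower A₀ (A₀ ⊗[k] K) (F ⊗[k] K) := IsScalarTower.of_algebraMap_eq (fun a => by
    rw [halg, Algebra.TensorProduct.algebraMap_apply, Algebra.TensorProduct.algebraMap_apply,
      Algebra.TensorProduct.map_tmul, map_one]
    rfl)
  haveI : IsLocalization (Algebra.algebraMapSubmonoid (A₀ ⊗[k] K) (nonZeroDivisors A₀)) (F ⊗[k] K) :=
    IsLocalization.tensorProduct_tensorProduct k K (nonZeroDivisors A₀) F (by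
      ext b
      simp only [RingHom.coe_comp, Function.comp_apply, AlgHom.toRingHom_eq_coe, RingHom.coe_coe,
        Algebra.TensorProduct.includeRight_apply]
      rw [halg, Algebra.TensorProduct.map_tmul, map_one]
      rfl)
  refine IsLocalization.isDomain_of_le_nonZeroDivisors (R := A₀ ⊗[k] K) (F ⊗[k] K)
    (M := Algebra.algebraMapSubmonoid (A₀ ⊗[k] K) (nonZeroDivisors A₀)) ?_
  rintro _ ⟨a, ha, rfl⟩
  apply mem_nonZeroDivisors_of_ne_zero
  have hinj : Function.Injective
      (Algebra.TensorProduct.includeLeft : A₀ →ₐ[k] A₀ ⊗[k] K) :=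
    Algebra.TensorProduct.includeLeft_injective (FaithfulSMul.algebraMap_injective k K)
  intro h0
  exact nonZeroDivisors.ne_zero ha (hinj (by rw [map_zero]; exact h0))

/-- Abstract form: `k ⊆ F ⊆ L` with `L/F` algebraic and `F ⊗[k] K` a domain: zero divisors of
`K ⊗[k] L` are nilpotent as soon as the spectrum is irreducible. -/
theorem isNilpotent_of_mul_eq_zero_aux {k L K : Type u} [Field k] [Field L] [Field K] [Algebra k L]
    [Algebra k K] (F : Type u) [Field F] [Algebra k F] [Algebra F L] [IsScalarTower k F L]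
    [Algebra.IsIntegral F L] [IsDomain (F ⊗[k] K)]
    (hirr : IrreducibleSpace (PrimeSpectrum (K ⊗[k] L)))
    (τ y : K ⊗[k] L) (h : τ * y = 0) (hy : y ≠ 0) : IsNilpotent τ := by
  classical
  let e : (F ⊗[k] K) ⊗[F] L ≃+* K ⊗[k] L :=
    ((Algebra.TensorProduct.comm F (F ⊗[k] K) L).toRingEquiv.trans
      (Algebra.TensorProduct.cancelBaseChange k F F L K).toRingEquiv).trans
      (Algebra.TensorProduct.comm k L K).toRingEquiv
  have h1 : e.symm τ * e.symm y = 0 := by rw [← map_mul, h, map_zero]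
  have h2 : e.symm y ≠ 0 := fun h0 => hy (by
    have := congrArg e h0
    rwa [RingEquiv.apply_symm_apply, map_zero] at this)
  obtain ⟨𝔮, h𝔮, hτ⟩ := exists_minimalPrimes_mem_of_mul_eq_zero (R := F ⊗[k] K) _ _ h1 h2
  have hN : (nilradical (K ⊗[k] L)).IsPrime :=
    PrimeSpectrum.irreducibleSpace_iff_isPrime_nilradical.mp hirr
  have hNc : ((nilradical (K ⊗[k] L)).comap e.toRingHom).IsPrime := Ideal.comap_isPrime _ _
  have hle : (nilradical (K ⊗[k] L)).comap e.toRingHom ≤ 𝔮 := by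
    intro t ht
    haveI := h𝔮.1.1
    have ht' : IsNilpotent (e t) := ht
    obtain ⟨n, hn⟩ := ht'
    have : t ^ n = 0 := e.injective (by rw [map_pow, hn, map_zero])
    exact Ideal.IsPrime.mem_of_pow_mem inferInstance n (this ▸ 𝔮.zero_mem)
  have hq := h𝔮.2 ⟨hNc, bot_le⟩ hle
  have h3 : e (e.symm τ) ∈ nilradical (K ⊗[k] L) := hq hτ
  rw [RingEquiv.apply_symm_apply] at h3
  exact h3

open IntermediateField IntermediateField.algebraAdjoinAdjoin in
/-- If `Spec (K ⊗[k] L)` is irreducible (`k`, `K`, `L` fields), every zero divisor of `K ⊗[k] L` is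
nilpotent. -/
theorem isNilpotent_of_mul_eq_zero {k L K : Type u} [Field k] [Field L] [Field K] [Algebra k L]
    [Algebra k K] (hirr : IrreducibleSpace (PrimeSpectrum (K ⊗[k] L)))
    (τ y : K ⊗[k] L) (h : τ * y = 0) (hy : y ≠ 0) : IsNilpotent τ := by
  classical
  obtain ⟨ι, x, hx⟩ := exists_isTranscendenceBasis' k L
  haveI : Algebra.IsAlgebraic (IntermediateField.adjoin k (Set.range x)) L := hx.isAlgebraic_field
  haveI : Algebra.IsIntegral (IntermediateField.adjoin k (Set.range x)) L :=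
    Algebra.isAlgebraic_iff_isIntegral.mp inferInstance
  let e₁ : MvPolynomial ι k ≃ₐ[k] Algebra.adjoin k (Set.range x) := hx.1.aevalEquiv
  let e₂ : (Algebra.adjoin k (Set.range x)) ⊗[k] K ≃+* MvPolynomial ι K :=
    ((Algebra.TensorProduct.congr e₁.symm (AlgEquiv.refl (R := k) (A₁ := K))).toRingEquiv.trans
      (Algebra.TensorProduct.comm k (MvPolynomial ι k) K).toRingEquiv).trans
      (MvPolynomial.algebraTensorAlgEquiv k K).toRingEquiv
  haveI : IsDomain ((Algebra.adjoin k (Set.range x)) ⊗[k] K) := e₂.injective.isDomain e₂.toRingHom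
  haveI : IsDomain ((IntermediateField.adjoin k (Set.range x)) ⊗[k] K) :=
    isDomain_tensor_of_isFractionRing (Algebra.adjoin k (Set.range x))
      (IntermediateField.adjoin k (Set.range x))
  exact isNilpotent_of_mul_eq_zero_aux (IntermediateField.adjoin k (Set.range x)) hirr τ y h hy

end Groth.Agent.H57.TensorNZD
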