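import Groth.Agent.H57.ArtFam
import Groth.Agent.H57.TensorNZD

/-!
Variant of `ArtFam.chart_core` / `ArtFam.stalk_core` where flatness is only known at ONE prime `n`
of `E = C ⊗_A B` over `p` and the maximal ideal of `B`, but the residue extension is such that
zero divisors of `κ(B) ⊗_{κ(A)} L₀` are nilpotent (e.g. `κ(p)` primary over `κ(A)`), helper57.
-/

set_option autoImplicit false
set_option linter.style.haveILetI false

universe u

open TensorProduct IsLocalRing

namespace Groth.Agent.H57.ArtFamPrim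

open Groth.Agent.H57 Groth.Agent.H57.ArtFam

section Common

variable {C : Type u} [CommRing C] {V : Type u} [AddCommGroup V] [Module C V]

theorem exists_common {ι : Type*} (p : Ideal C) [hp : p.IsPrime] (N : Submodule C V)
    (s : Finset ι) (v : ι → V) (h : ∀ α ∈ s, ∃ c, c ∉ p ∧ c • v α ∈ N) :
    ∃ d, d ∉ p ∧ ∀ α ∈ s, d • v α ∈ N := by
  classical
  induction s using Finset.induction_on with
  | empty =>
    exact ⟨1, fun h1 => hp.ne_top (p.eq_top_of_isUnit_mem h1 isUnit_one), by simp⟩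
  | insert a s ha ih =>
    obtain ⟨d, hd, hds⟩ := ih (fun α hα => h α (Finset.mem_insert_of_mem hα))
    obtain ⟨c, hc, hca⟩ := h a (Finset.mem_insert_self a s)
    refine ⟨c * d, fun hcd => (hp.mem_or_mem hcd).elim hc hd, ?_⟩
    intro α hα
    rcases Finset.mem_insert.mp hα with rfl | hα
    · rw [mul_comm, mul_smul]; exact N.smul_mem d hca
    · rw [mul_smul]; exact N.smul_mem c (hds α hα)

theorem coe_mem_of_mem_smul_top (I : Ideal C) (N : Submodule C V) (x : N)
    (hx : x ∈ (I • ⊤ : Submodule C N)) : (x : V) ∈ I • N := by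
  refine Submodule.smul_induction_on hx (fun r hr n _ => ?_) (fun a b ha hb => ?_)
  · rw [Submodule.coe_smul]
    exact Submodule.smul_mem_smul hr n.2
  · rw [Submodule.coe_add]
    exact add_mem ha hb

end Common

section Functional

variable {C : Type u} [CommRing C] {L₀ : Type u} [Field L₀] [Algebra C L₀]
  {N : Type u} [AddCommGroup N] [Module C N]

/-- A `C`-semilinear functional to `L₀` not vanishing at an element which is not torsion modulo
`p N`. -/
theorem exists_functional (p : Ideal C) [hp : p.IsPrime]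
    (hγ : ∀ c : C, algebraMap C L₀ c = 0 ↔ c ∈ p) (v₀ : N)
    (hv₀ : ∀ d, d ∉ p → d • v₀ ∉ (p • ⊤ : Submodule C N)) :
    ∃ Λ : N →+ L₀, (∀ (c : C) (q : N), Λ (c • q) = algebraMap C L₀ c * Λ q) ∧ Λ v₀ ≠ 0 := by
  classical
  let O := Localization.AtPrime p
  let Np := LocalizedModule p.primeCompl N
  let mk : N →ₗ[C] Np := LocalizedModule.mkLinearMap p.primeCompl N
  let W := Np ⧸ (maximalIdeal O • ⊤ : Submodule O Np)
  letI : Field (O ⧸ maximalIdeal O) := Ideal.Quotient.field (maximalIdeal O)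
  let w₀ : W := Submodule.Quotient.mk (mk v₀)
  have hw₀ : w₀ ≠ 0 := by
    intro h0
    have h1 : mk v₀ ∈ (maximalIdeal O • ⊤ : Submodule O Np) :=
      (Submodule.Quotient.mk_eq_zero _).mp h0
    rw [← Localization.AtPrime.map_eq_maximalIdeal] at h1
    have h2 : mk v₀ ∈ (p • ⊤ : Submodule C Np) := by
      have h := Ideal.smul_restrictScalars (R := C) (S := O) p (⊤ : Submodule O Np)
      rw [Submodule.restrictScalars_top] at h
      rw [← h]
      exact h1
    obtain ⟨s, hs, hsv⟩ := exists_smul_mem_of_mk_mem p.primeCompl p v₀ h2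
    exact hv₀ s hs hsv
  obtain ⟨lam, hlam⟩ : ∃ lam : Module.Dual (O ⧸ maximalIdeal O) W, lam w₀ ≠ 0 := by
    by_contra h
    push Not at h
    exact hw₀ ((Module.forall_dual_apply_eq_zero_iff (O ⧸ maximalIdeal O) w₀).mp h)
  have hunits : ∀ y : p.primeCompl, IsUnit (algebraMap C L₀ y) := fun y =>
    isUnit_iff_ne_zero.mpr (fun h0 => y.2 ((hγ _).mp h0))
  let θ₀ : O →+* L₀ := IsLocalization.lift (M := p.primeCompl) hunits
  have hθ₀ : ∀ a ∈ maximalIdeal O, θ₀ a = 0 := by
    intro a ha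
    rw [← Localization.AtPrime.map_eq_maximalIdeal] at ha
    have hle : p.map (algebraMap C O) ≤ RingHom.ker θ₀ := by
      rw [Ideal.map_le_iff_le_comap]
      intro c hc
      rw [Ideal.mem_comap, RingHom.mem_ker, IsLocalization.lift_eq]
      exact (hγ c).mpr hc
    exact hle ha
  let θ : O ⧸ maximalIdeal O →+* L₀ := Ideal.Quotient.lift (maximalIdeal O) θ₀ hθ₀
  refine ⟨(θ : O ⧸ maximalIdeal O →+ L₀).comp ((lam : W →+ O ⧸ maximalIdeal O).comp
    (((Submodule.mkQ (maximalIdeal O • ⊤ : Submodule O Np)) : Np →+ W).comp (mk : N →+ Np))),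
    ?_, ?_⟩
  · intro c q
    change θ (lam (Submodule.Quotient.mk (mk (c • q)))) =
      algebraMap C L₀ c * θ (lam (Submodule.Quotient.mk (mk q)))
    have h1 : (Submodule.Quotient.mk (mk (c • q)) : W) =
        (Ideal.Quotient.mk (maximalIdeal O) (algebraMap C O c)) •
          (Submodule.Quotient.mk (mk q) : W) := by
      rw [Module.Quotient.mk_smul_mk, map_smul, algebraMap_smul]
    rw [h1, map_smul, smul_eq_mul, map_mul]
    congr 1
    change θ₀ (algebraMap C O c) = _
    exact IsLocalization.lift_eq _ _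
  · change θ (lam w₀) ≠ 0
    exact fun h0 => hlam ((map_eq_zero θ).mp h0)

end Functional

section InjLoc

variable {A C : Type u} [CommRing A] [CommRing C] [Algebra A C]
  {k₀ K₀ L₀ : Type u} [Field k₀] [Field K₀] [Field L₀] [Algebra A k₀] [Algebra k₀ K₀]
  [Algebra k₀ L₀] [Algebra C L₀] [Algebra A L₀] [IsScalarTower A C L₀] [IsScalarTower A k₀ L₀]
  {V : Type u} [AddCommGroup V] [Module C V] [Module k₀ V] [Module A V] [IsScalarTower A C V]
  [IsScalarTower A k₀ V]
  (hk : Function.Surjective (algebraMap A k₀))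

include hk in
theorem smul_comm_Ck (c : C) (a : k₀) (v : V) : c • a • v = a • c • v := by
  obtain ⟨a', rfl⟩ := hk a
  rw [algebraMap_smul, algebraMap_smul, smul_comm]

/-- Multiplication by `c : C` on `V`, as a `k₀`-linear map. -/
def cV (c : C) : V →ₗ[k₀] V where
  toFun v := c • v
  map_add' := smul_add c
  map_smul' a v := smul_comm_Ck hk c a v

/-- The operator `c ⊗ κ` on `V ⊗ K₀`. -/
noncomputable def op (c : C) (κ : K₀) : V ⊗[k₀] K₀ →ₗ[k₀] V ⊗[k₀] K₀ :=
  TensorProduct.map (cV hk c) (LinearMap.mulLeft k₀ κ)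

theorem op_tmul (c : C) (κ : K₀) (v : V) (x : K₀) :
    op hk c κ (v ⊗ₜ x) = (c • v) ⊗ₜ (κ * x) := rfl

theorem op_comm (c d : C) (κ κ' : K₀) (y : V ⊗[k₀] K₀) :
    op hk c κ (op hk d κ' y) = op hk d κ' (op hk c κ y) := by
  induction y using TensorProduct.induction_on with
  | zero => simp
  | tmul v x =>
    simp only [op_tmul]
    rw [smul_comm c d v, mul_left_comm]
  | add y y' h h' => simp only [map_add, h, h']

set_option maxHeartbeats 1600000 in
/-- Core of `injLoc`: a non-nilpotent symbol cannot kill an element detected by a semilinear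
functional. -/
theorem injLoc_aux (N' : Submodule k₀ V) (hN' : ∀ (c : C) (v : V), v ∈ N' → c • v ∈ N')
    (Λ' : N' →ₗ[k₀] L₀)
    (hΛ' : ∀ (c : C) (q : N'), Λ' ⟨c • q.1, hN' c q.1 q.2⟩ = algebraMap C L₀ c * Λ' q)
    (hNil : ∀ τ y' : K₀ ⊗[k₀] L₀, τ * y' = 0 → y' ≠ 0 → IsNilpotent τ)
    {ι : Type*} (T : Finset ι) (c : ι → C) (κ : ι → K₀)
    (hnn : ¬ IsNilpotent (∑ l ∈ T, κ l ⊗ₜ[k₀] algebraMap C L₀ (c l) : K₀ ⊗[k₀] L₀))
    {ι' : Type*} (bK : Module.Basis ι' k₀ K₀) (s : Finset ι') (w : ι' → N')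
    (hw : ∀ α, α ∉ s → w α = 0) (α₀ : ι') (hα₀ : Λ' (w α₀) ≠ 0)
    (hy : ∑ l ∈ T, op hk (c l) (κ l) (∑ α ∈ s, (w α : V) ⊗ₜ[k₀] bK α) = 0) : False := by
  classical
  let cN : C → (N' →ₗ[k₀] N') := fun c' =>
    (cV (V := V) hk c').restrict (p := N') (q := N') (fun v hv => hN' c' v hv)
  let ΘN : N' ⊗[k₀] K₀ →ₗ[k₀] N' ⊗[k₀] K₀ :=
    ∑ l ∈ T, TensorProduct.map (cN (c l)) (LinearMap.mulLeft k₀ (κ l))
  let ΘV : V ⊗[k₀] K₀ →ₗ[k₀] V ⊗[k₀] K₀ := ∑ l ∈ T, op hk (c l) (κ l)
  let jj : N' ⊗[k₀] K₀ →ₗ[k₀] V ⊗[k₀] K₀ := N'.subtype.rTensor K₀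
  have hcomm : ∀ z, jj (ΘN z) = ΘV (jj z) := by
    intro z
    induction z using TensorProduct.induction_on with
    | zero => simp
    | tmul n x =>
      simp only [ΘN, ΘV, LinearMap.sum_apply, map_sum]
      refine Finset.sum_congr rfl fun l _ => ?_
      rfl
    | add z z' h h' => simp only [map_add, h, h']
  have hjinj : Function.Injective jj :=
    Module.Flat.rTensor_preserves_injective_linearMap N'.subtype N'.injective_subtype
  let yt : N' ⊗[k₀] K₀ := ∑ α ∈ s, w α ⊗ₜ[k₀] bK α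
  have hjy : jj yt = ∑ α ∈ s, (w α : V) ⊗ₜ[k₀] bK α := by
    simp only [yt, map_sum]
    rfl
  have hΘy : ΘN yt = 0 := by
    apply hjinj
    rw [hcomm, hjy, map_zero]
    change (∑ l ∈ T, op hk (c l) (κ l)) (∑ α ∈ s, (w α : V) ⊗ₜ[k₀] bK α) = 0
    rw [LinearMap.sum_apply]
    exact hy
  let ΛK : N' ⊗[k₀] K₀ →ₗ[k₀] K₀ ⊗[k₀] L₀ :=
    (TensorProduct.comm k₀ L₀ K₀).toLinearMap ∘ₗ (TensorProduct.map Λ' LinearMap.id)
  have hΛK : ∀ (n : N') (x : K₀), ΛK (n ⊗ₜ x) = x ⊗ₜ Λ' n := fun n x => rfl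
  set θ : K₀ ⊗[k₀] L₀ := ∑ l ∈ T, κ l ⊗ₜ[k₀] algebraMap C L₀ (c l) with hθ
  have hmul : ∀ z, ΛK (ΘN z) = θ * ΛK z := by
    intro z
    induction z using TensorProduct.induction_on with
    | zero => simp
    | tmul n x =>
      simp only [ΘN, LinearMap.sum_apply, map_sum, hθ, Finset.sum_mul]
      refine Finset.sum_congr rfl fun l _ => ?_
      rw [TensorProduct.map_tmul, hΛK, hΛK, Algebra.TensorProduct.tmul_mul_tmul,
        LinearMap.mulLeft_apply]
      congr 1
      exact hΛ' (c l) n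
    | add z z' h h' => simp only [map_add, h, h', mul_add]
  have hne : ΛK yt ≠ 0 := by
    intro h0
    simp only [yt, map_sum, hΛK] at h0
    let b : ι' →₀ L₀ := Finsupp.onFinset s (fun α => Λ' (w α)) (fun α hα => by
      by_contra hs
      exact hα (by rw [hw α hs, map_zero]))
    have hb : (b.sum fun i n => bK i ⊗ₜ[k₀] n) = 0 := by
      rw [Finsupp.onFinset_sum _ (fun a => by simp)]
      exact h0
    have hb0 := TensorProduct.sum_tmul_basis_left_eq_zero bK b hb
    apply hα₀
    have h1 : b α₀ = 0 := by rw [hb0]; rfl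
    exact h1
  exact hnn (hNil θ (ΛK yt) (by rw [← hmul, hΘy, map_zero]) hne)

set_option maxHeartbeats 1600000 in
/-- Injectivity up to `p`-torsion of operators whose symbol in `K₀ ⊗ L₀` is not nilpotent. -/
theorem injLoc [IsNoetherianRing C] [Module.Finite C V] (p : Ideal C) [hp : p.IsPrime]
    (hγ : ∀ c : C, algebraMap C L₀ c = 0 ↔ c ∈ p)
    (hNil : ∀ τ y' : K₀ ⊗[k₀] L₀, τ * y' = 0 → y' ≠ 0 → IsNilpotent τ)
    {ι : Type*} (T : Finset ι) (c : ι → C) (κ : ι → K₀) (y : V ⊗[k₀] K₀)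
    (hnn : ¬ IsNilpotent (∑ l ∈ T, κ l ⊗ₜ[k₀] algebraMap C L₀ (c l) : K₀ ⊗[k₀] L₀))
    (hy : ∑ l ∈ T, op hk (c l) (κ l) y = 0) :
    ∃ d : C, d ∉ p ∧ op hk d 1 y = 0 := by
  classical
  let bK := Module.Free.chooseBasis k₀ K₀
  obtain ⟨f, rfl⟩ := TensorProduct.eq_repr_basis_right bK y
  by_contra hcon
  have H : ∀ d : C, d ∉ p → ∃ α ∈ f.support, d • f α ≠ 0 := by
    intro d hd
    by_contra h
    push Not at h
    apply hcon
    refine ⟨d, hd, ?_⟩
    rw [Finsupp.sum, map_sum]
    refine Finset.sum_eq_zero fun α hα => ?_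
    rw [op_tmul, h α hα, TensorProduct.zero_tmul]
  have hone : (1 : C) ∉ p := fun h1 => hp.ne_top (p.eq_top_of_isUnit_mem h1 isUnit_one)
  let Qj : ℕ → Prop := fun j =>
    ∃ d : C, d ∉ p ∧ ∀ α ∈ f.support, d • f α ∈ (p ^ j • ⊤ : Submodule C V)
  have hQ0 : Qj 0 := ⟨1, hone, by simp⟩
  have hQall : ¬ ∀ j, Qj j := by
    intro hall
    have h1 : ∀ α ∈ f.support, ∃ c', c' ∉ p ∧ c' • f α ∈ (⊥ : Submodule C V) := by
      intro α hα
      obtain ⟨c', hc', h0⟩ := exists_smul_eq_zero_of_forall_pow p (f α)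
        (fun j => by obtain ⟨d, hd, hdα⟩ := hall j; exact ⟨d, hd, hdα α hα⟩)
      exact ⟨c', hc', by rw [h0]; exact zero_mem _⟩
    obtain ⟨d, hd, hdα⟩ := exists_common p ⊥ f.support f h1
    obtain ⟨α, hα, hne⟩ := H d hd
    exact hne ((Submodule.mem_bot C).mp (hdα α hα))
  obtain ⟨j, hj, hj1⟩ : ∃ j, Qj j ∧ ¬ Qj (j + 1) := by
    by_contra h
    push Not at h
    exact hQall (fun j => Nat.rec hQ0 (fun j ih => h j ih) j)
  obtain ⟨d₁, hd₁, hd₁α⟩ := hj
  obtain ⟨α₀, hα₀, hα₀'⟩ : ∃ α₀ ∈ f.support, ∀ c', c' ∉ p →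
      c' • d₁ • f α₀ ∉ (p ^ (j + 1) • ⊤ : Submodule C V) := by
    by_contra h
    push Not at h
    obtain ⟨d, hd, hdα⟩ := exists_common p (p ^ (j + 1) • ⊤) f.support (fun α => d₁ • f α)
      (fun α hα => by obtain ⟨c', hc', hm⟩ := h α hα; exact ⟨c', hc', hm⟩)
    exact hj1 ⟨d * d₁, fun hdd => (hp.mem_or_mem hdd).elim hd hd₁,
      fun α hα => by rw [mul_smul]; exact hdα α hα⟩
  -- the submodule `N = p^j V`
  let N : Submodule C V := p ^ j • ⊤
  let N' : Submodule k₀ V :=
    { carrier := N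
      add_mem' := N.add_mem
      zero_mem' := N.zero_mem
      smul_mem' := fun a v hv => by
        obtain ⟨a', rfl⟩ := hk a
        rw [algebraMap_smul, ← algebraMap_smul C a' v]
        exact N.smul_mem _ hv }
  have hd₁α₀ : d₁ • f α₀ ∈ N := hd₁α α₀ hα₀
  obtain ⟨Λ, hΛ, hΛ0⟩ := exists_functional (L₀ := L₀) p hγ (N := ↥N)
    (⟨d₁ • f α₀, hd₁α₀⟩ : ↥N) (by
      intro d hd hmem
      have h1 := coe_mem_of_mem_smul_top p N _ hmem
      have h2 : (p • N : Submodule C V) = p ^ (j + 1) • ⊤ := by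
        change p • (p ^ j • ⊤ : Submodule C V) = _
        rw [← Submodule.mul_smul, ← pow_succ']
      rw [h2] at h1
      exact hα₀' d hd h1)
  let Λ' : N' →ₗ[k₀] L₀ :=
    { toFun := fun q => Λ (⟨q.1, q.2⟩ : ↥N)
      map_add' := fun q q' => by
        have : (⟨(q + q').1, (q + q').2⟩ : ↥N) = (⟨q.1, q.2⟩ : ↥N) + (⟨q'.1, q'.2⟩ : ↥N) := rfl
        rw [this, map_add]
      map_smul' := fun a q => by
        obtain ⟨a', rfl⟩ := hk a
        have : (⟨((algebraMap A k₀ a') • q).1, ((algebraMap A k₀ a') • q).2⟩ : ↥N) =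
            (algebraMap A C a') • (⟨q.1, q.2⟩ : ↥N) := by
          apply Subtype.ext
          change (algebraMap A k₀ a') • q.1 = (algebraMap A C a') • q.1
          rw [algebraMap_smul, algebraMap_smul]
        rw [this, hΛ, RingHom.id_apply, Algebra.smul_def,
          ← IsScalarTower.algebraMap_apply A C L₀, IsScalarTower.algebraMap_apply A k₀ L₀] }
  let w' : Module.Free.ChooseBasisIndex k₀ K₀ → N' := fun α =>
    if h : α ∈ f.support then ⟨d₁ • f α, hd₁α α h⟩ else 0
  have hw'α : ∀ α ∈ f.support, ((w' α : N') : V) = d₁ • f α := by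
    intro α hα
    simp only [w', dif_pos hα]
  refine injLoc_aux hk N' (fun c' v hv => N.smul_mem c' hv) Λ'
    (fun c' q => hΛ c' (⟨q.1, q.2⟩ : ↥N)) hNil T c κ hnn bK f.support w'
    (fun α hα => by simp only [w', dif_neg hα]) α₀ ?_ ?_
  · have : w' α₀ = ⟨d₁ • f α₀, hd₁α₀⟩ := by simp only [w', dif_pos hα₀]
    rw [this]
    exact hΛ0
  · have h1 : ∑ α ∈ f.support, ((w' α : N') : V) ⊗ₜ[k₀] bK α =
        op hk d₁ 1 (f.sum fun i m => m ⊗ₜ[k₀] bK i) := by
      rw [Finsupp.sum, map_sum]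
      refine Finset.sum_congr rfl fun α hα => ?_
      rw [op_tmul, one_mul, hw'α α hα]
    rw [h1]
    have h2 : ∀ l ∈ T, op hk (c l) (κ l) (op hk d₁ 1 (f.sum fun i m => m ⊗ₜ[k₀] bK i)) =
        op hk d₁ 1 (op hk (c l) (κ l) (f.sum fun i m => m ⊗ₜ[k₀] bK i)) :=
      fun l _ => op_comm hk _ _ _ _ _
    rw [Finset.sum_congr rfl h2, ← map_sum, hy, map_zero]

theorem op_zero (c : C) (y : V ⊗[k₀] K₀) : op hk c (0 : K₀) y = 0 := by
  induction y using TensorProduct.induction_on with
  | zero => simp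
  | tmul v x => rw [op_tmul, zero_mul, TensorProduct.tmul_zero]
  | add y y' h h' => rw [map_add, h, h', add_zero]

theorem op_op (c : C) (κ : K₀) (y : V ⊗[k₀] K₀) :
    op hk c (1 : K₀) (op hk (1 : C) κ y) = op hk c κ y := by
  induction y using TensorProduct.induction_on with
  | zero => simp
  | tmul v x => rw [op_tmul, op_tmul, op_tmul, one_smul, one_mul]
  | add y y' h h' => simp only [map_add, h, h']

end InjLoc

section Psi

variable {A C B E : Type u} [CommRing A] [CommRing C] [CommRing B] [CommRing E]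
  [Algebra A C] [Algebra A B] [Algebra C E] [Algebra B E] [Algebra A E]
  [IsScalarTower A C E] [IsScalarTower A B E] [Algebra.IsPushout A C B E]
  [IsLocalRing A] [IsLocalRing B] [IsLocalHom (algebraMap A B)]
  {L₀ : Type u} [Field L₀] [Algebra C L₀] [Algebra (ResidueField A) L₀] [Algebra A L₀]
  [IsScalarTower A C L₀] [IsScalarTower A (ResidueField A) L₀]

variable (A C B E L₀) in
/-- The ring homomorphism `E = C ⊗_A B → κ(B) ⊗_{κ(A)} L₀`. -/
theorem exists_psi : ∃ ψ : E →+* ResidueField B ⊗[ResidueField A] L₀,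
    (∀ c : C, ψ (algebraMap C E c) = (1 : ResidueField B) ⊗ₜ[ResidueField A] algebraMap C L₀ c) ∧
    (∀ b : B, ψ (algebraMap B E b) = residue B b ⊗ₜ[ResidueField A] (1 : L₀)) := by
  let T := ResidueField B ⊗[ResidueField A] L₀
  let f : C →ₐ[A] T :=
    { toRingHom := (Algebra.TensorProduct.includeRight :
        L₀ →ₐ[ResidueField A] T).toRingHom.comp (algebraMap C L₀)
      commutes' := fun a => by
        change (1 : ResidueField B) ⊗ₜ[ResidueField A] algebraMap C L₀ (algebraMap A C a) =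
          algebraMap A T a
        rw [Algebra.TensorProduct.algebraMap_apply, ← IsScalarTower.algebraMap_apply A C L₀,
          IsScalarTower.algebraMap_apply A (ResidueField A) L₀,
          IsScalarTower.algebraMap_apply A (ResidueField A) (ResidueField B),
          ← Algebra.TensorProduct.algebraMap_apply', Algebra.TensorProduct.algebraMap_apply] }
  let g' : B →ₐ[A] T := (Algebra.TensorProduct.includeLeft : ResidueField B →ₐ[A] T).comp
    (IsScalarTower.toAlgHom A B (ResidueField B))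
  refine ⟨(Algebra.pushoutDesc E f g' (fun x y => mul_comm _ _)).toRingHom, fun c => ?_,
    fun b => ?_⟩
  · exact Algebra.pushoutDesc_left E f g' _ c
  · exact Algebra.pushoutDesc_right E f g' _ b

variable (A) in
include A in
omit [IsLocalRing A] [IsLocalRing B] [IsLocalHom (algebraMap A B)] in
/-- Every element of the pushout is a finite sum of products. -/
theorem exists_repr (t : E) : ∃ (J : Type) (_ : Fintype J) (cc : J → C) (bb : J → B),
    t = ∑ l, algebraMap C E (cc l) * algebraMap B E (bb l) := by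
  refine (Algebra.IsPushout.out (R := A) (S := C) (R' := B) (S' := E)).inductionOn t
    (fun t => ∃ (J : Type) (_ : Fintype J) (cc : J → C) (bb : J → B),
      t = ∑ l, algebraMap C E (cc l) * algebraMap B E (bb l)) ?_ ?_ ?_ ?_
  · exact ⟨Empty, inferInstance, fun _ => 0, fun _ => 0, by simp⟩
  · intro b
    refine ⟨Unit, inferInstance, fun _ => 1, fun _ => b, ?_⟩
    simp
  · rintro c e ⟨J, _, cc, bb, rfl⟩
    refine ⟨J, inferInstance, fun l => c * cc l, bb, ?_⟩
    rw [Finset.smul_sum]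
    refine Finset.sum_congr rfl fun l _ => ?_
    rw [Algebra.smul_def, map_mul, mul_assoc]
  · rintro e₁ e₂ ⟨J₁, _, c₁, b₁, rfl⟩ ⟨J₂, _, c₂, b₂, rfl⟩
    refine ⟨J₁ ⊕ J₂, inferInstance, Sum.elim c₁ c₂, Sum.elim b₁ b₂, ?_⟩
    rw [Fintype.sum_sum_type]
    simp

theorem mem_span_sup {ι' : Type*} (bK : Module.Basis ι' (ResidueField A) (ResidueField B))
    (β : ι' → B) (hβ : ∀ α, residue B (β α) = bK α) (e : E) :
    e ∈ Submodule.span C (Set.range fun α => algebraMap B E (β α)) ⊔
      ((maximalIdeal B).map (algebraMap B E)).restrictScalars C := by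
  set W' : Submodule C E := Submodule.span C (Set.range fun α => algebraMap B E (β α)) ⊔
      ((maximalIdeal B).map (algebraMap B E)).restrictScalars C with hW'
  have hmB : ∀ b ∈ maximalIdeal B, algebraMap B E b ∈ W' := fun b hb =>
    Submodule.mem_sup_right (Ideal.mem_map_of_mem (algebraMap B E) hb)
  have hsplit : ∀ b b₁ : B, algebraMap B E b = algebraMap B E b₁ + algebraMap B E (b - b₁) := by
    intro b b₁
    rw [← map_add]
    congr 1
    ring
  have hB : ∀ (κ : ResidueField B) (b : B), residue B b = κ → algebraMap B E b ∈ W' := by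
    intro κ
    have hκ : κ ∈ Submodule.span (ResidueField A) (Set.range bK) := by
      rw [bK.span_eq]; trivial
    refine Submodule.span_induction
      (p := fun κ _ => ∀ b : B, residue B b = κ → algebraMap B E b ∈ W') ?_ ?_ ?_ ?_ hκ
    · rintro _ ⟨α, rfl⟩ b hb
      have h1 : b - β α ∈ maximalIdeal B := by
        rw [← residue_eq_zero_iff, map_sub, hb, hβ, sub_self]
      rw [hsplit b (β α)]
      exact add_mem (Submodule.mem_sup_left (Submodule.subset_span ⟨α, rfl⟩)) (hmB _ h1)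
    · intro b hb
      exact hmB b ((residue_eq_zero_iff b).mp hb)
    · intro κ₁ κ₂ _ _ h₁ h₂ b hb
      obtain ⟨b₁, rfl⟩ := residue_surjective κ₁
      have h3 : residue B (b - b₁) = κ₂ := by rw [map_sub, hb, add_sub_cancel_left]
      rw [hsplit b b₁]
      exact add_mem (h₁ b₁ rfl) (h₂ _ h3)
    · intro r κ₁ _ h₁ b hb
      obtain ⟨a, rfl⟩ := residue_surjective r
      obtain ⟨b₁, rfl⟩ := residue_surjective κ₁
      have h3 : b - algebraMap A B a * b₁ ∈ maximalIdeal B := by
        rw [← residue_eq_zero_iff, map_sub, hb, map_mul, sub_eq_zero, Algebra.smul_def,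
          ResidueField.algebraMap_residue]
      have h2 : algebraMap B E (algebraMap A B a * b₁) = algebraMap A C a • algebraMap B E b₁ := by
        rw [Algebra.smul_def, ← IsScalarTower.algebraMap_apply A C E,
          IsScalarTower.algebraMap_apply A B E, ← map_mul]
      rw [hsplit b (algebraMap A B a * b₁), h2]
      exact add_mem (W'.smul_mem _ (h₁ b₁ rfl)) (hmB _ h3)
  refine (Algebra.IsPushout.out (R := A) (S := C) (R' := B) (S' := E)).inductionOn e
    (fun e => e ∈ W') (zero_mem _) (fun b => hB _ b rfl) (fun c e he => W'.smul_mem c he)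
    (fun e₁ e₂ h₁ h₂ => add_mem h₁ h₂)

theorem ker_psi_le (p : Ideal C) (hγ : ∀ c : C, algebraMap C L₀ c = 0 ↔ c ∈ p)
    (ψ : E →+* ResidueField B ⊗[ResidueField A] L₀)
    (hψC : ∀ c : C, ψ (algebraMap C E c) =
      (1 : ResidueField B) ⊗ₜ[ResidueField A] algebraMap C L₀ c)
    (hψB : ∀ b : B, ψ (algebraMap B E b) = residue B b ⊗ₜ[ResidueField A] (1 : L₀))
    (n : Ideal E) (hnC : n.comap (algebraMap C E) = p)
    (hnB : n.comap (algebraMap B E) = maximalIdeal B) :
    RingHom.ker ψ ≤ n := by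
  classical
  intro e he
  let bK := Module.Free.chooseBasis (ResidueField A) (ResidueField B)
  choose β hβ using fun α => residue_surjective (R := B) (bK α)
  have hmem := mem_span_sup (A := A) (C := C) (E := E) bK β hβ e
  obtain ⟨w, hw, r, hr, rfl⟩ := Submodule.mem_sup.mp hmem
  have hr' : r ∈ (maximalIdeal B).map (algebraMap B E) := hr
  have hrn : r ∈ n := by
    have : (maximalIdeal B).map (algebraMap B E) ≤ n := by
      rw [Ideal.map_le_iff_le_comap, hnB]
    exact this hr'
  have hψr : ψ r = 0 := by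
    have : (maximalIdeal B).map (algebraMap B E) ≤ RingHom.ker ψ := by
      rw [Ideal.map_le_iff_le_comap]
      intro b hb
      rw [Ideal.mem_comap, RingHom.mem_ker, hψB, (residue_eq_zero_iff b).mpr hb,
        TensorProduct.zero_tmul]
    exact this hr'
  obtain ⟨f, rfl⟩ := (Finsupp.mem_span_range_iff_exists_finsupp).mp hw
  refine n.add_mem ?_ hrn
  rw [RingHom.mem_ker, map_add, hψr, add_zero] at he
  have h1 : ψ (f.sum fun i a => a • algebraMap B E (β i)) =
      (f.mapRange (algebraMap C L₀) (map_zero _)).sum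
        fun i n => bK i ⊗ₜ[ResidueField A] n := by
    rw [Finsupp.sum_mapRange_index (fun i => by simp), Finsupp.sum, map_sum]
    refine Finset.sum_congr rfl fun i _ => ?_
    rw [Algebra.smul_def, map_mul, hψC, hψB, hβ, Algebra.TensorProduct.tmul_mul_tmul, one_mul,
      mul_one]
  rw [h1] at he
  have h2 := TensorProduct.sum_tmul_basis_left_eq_zero bK _ he
  refine Ideal.sum_mem _ fun i _ => ?_
  have h3 : algebraMap C L₀ (f i) = 0 := by
    have := DFunLike.congr_fun h2 i
    simpa using this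
  change f i • algebraMap B E (β i) ∈ n
  rw [Algebra.smul_def]
  refine n.mul_mem_right _ ?_
  have : f i ∈ n.comap (algebraMap C E) := by rw [hnC]; exact (hγ _).mp h3
  exact this

end Psi

section StepA

variable {A C B E : Type u} [CommRing A] [CommRing C] [CommRing B] [CommRing E]
  [Algebra A C] [Algebra A B] [Algebra C E] [Algebra B E] [Algebra A E]
  [IsScalarTower A C E] [IsScalarTower A B E] [Algebra.IsPushout A C B E]
  [IsLocalRing A] [IsLocalRing B] [IsLocalHom (algebraMap A B)]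
  {P P' : Type u} [AddCommGroup P] [Module C P] [Module A P] [IsScalarTower A C P]
  [AddCommGroup P'] [Module E P'] [Module B P'] [IsScalarTower B E P'] [Module C P']
  [IsScalarTower C E P'] [Module A P'] [IsScalarTower A B P'] [IsScalarTower A C P']
  (g : P →ₗ[C] P') (hg : IsBaseChange E g)
  {V : Type u} [AddCommGroup V] [Module C V] [Module (ResidueField A) V] [Module A V]
  [IsScalarTower A C V] [IsScalarTower A (ResidueField A) V]
  (q : P →ₗ[C] V)

theorem hkA (A : Type u) [CommRing A] [IsLocalRing A] :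
    Function.Surjective (algebraMap A (ResidueField A)) :=
  residue_surjective

variable (A B) in
omit [Algebra C E] [Algebra B E] [Algebra A E] [IsScalarTower A C E] [IsScalarTower A B E]
  [Algebra.IsPushout A C B E] [CommRing E] in
/-- `P ⊗_A B → V ⊗_{κ(A)} κ(B)`. -/
noncomputable def R₀ : P ⊗[A] B →+ V ⊗[ResidueField A] ResidueField B :=
  TensorProduct.liftAddHom
    { toFun := fun x =>
        ((TensorProduct.mk (ResidueField A) V (ResidueField B) (q x)).toAddMonoidHom).comp
          ((residue B : B →+* ResidueField B) : B →+ ResidueField B)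
      map_zero' := by ext b; simp
      map_add' := fun x y => by ext b; simp }
    (fun a x b => by
      change q (a • x) ⊗ₜ[ResidueField A] residue B b = q x ⊗ₜ[ResidueField A] residue B (a • b)
      rw [LinearMap.map_smul_of_tower, ← algebraMap_smul (ResidueField A) a (q x),
        TensorProduct.smul_tmul, Algebra.smul_def a b, map_mul, Algebra.smul_def]
      rfl)

omit [Algebra C E] [Algebra B E] [Algebra A E] [IsScalarTower A C E] [IsScalarTower A B E]
  [Algebra.IsPushout A C B E] [CommRing E] in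
theorem R₀_tmul (x : P) (b : B) :
    R₀ A B q (x ⊗ₜ[A] b) = q x ⊗ₜ[ResidueField A] residue B b := rfl

variable (A B) in
/-- The comparison map `P' → V ⊗_{κ(A)} κ(B)`. -/
noncomputable def Rmap : P' →+ V ⊗[ResidueField A] ResidueField B :=
  (R₀ A B q).comp ((tEquiv A B g hg).symm.toLinearMap.toAddMonoidHom)

theorem Rmap_tEquiv (t : P ⊗[A] B) : Rmap A B g hg q (tEquiv A B g hg t) = R₀ A B q t := by
  change R₀ A B q ((tEquiv A B g hg).symm (tEquiv A B g hg t)) = _
  rw [LinearEquiv.symm_apply_apply]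

theorem Rmap_smul_g (b : B) (x : P) :
    Rmap A B g hg q (b • g x) = q x ⊗ₜ[ResidueField A] residue B b := by
  rw [← tEquiv_tmul A B g hg x b, Rmap_tEquiv, R₀_tmul]

theorem Rmap_smul_C (c : C) (y : P') :
    Rmap A B g hg q (c • y) = op (hkA A) c (1 : ResidueField B) (Rmap A B g hg q y) := by
  obtain ⟨t, rfl⟩ := (tEquiv A B g hg).surjective y
  induction t using TensorProduct.induction_on with
  | zero => simp
  | tmul x b =>
    rw [← map_smul, TensorProduct.smul_tmul', Rmap_tEquiv, Rmap_tEquiv, R₀_tmul, R₀_tmul,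
      op_tmul, one_mul, map_smul]
  | add t t' h h' => simp only [map_add, smul_add, h, h']

theorem Rmap_smul_B (b : B) (y : P') :
    Rmap A B g hg q (b • y) = op (hkA A) (1 : C) (residue B b) (Rmap A B g hg q y) := by
  obtain ⟨t, rfl⟩ := (tEquiv A B g hg).surjective y
  induction t using TensorProduct.induction_on with
  | zero => simp
  | tmul x b' =>
    rw [tEquiv_tmul, smul_smul, Rmap_smul_g, Rmap_smul_g, op_tmul, one_smul, map_mul]
  | add t t' h h' => simp only [map_add, smul_add, h, h']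

theorem Rmap_eq_zero_of_mem (y : P')
    (hy : y ∈ ((maximalIdeal B).map (algebraMap B E) • ⊤ : Submodule E P')) :
    Rmap A B g hg q y = 0 := by
  have key : ∀ t ∈ (maximalIdeal B).map (algebraMap B E), ∀ y : P',
      Rmap A B g hg q (t • y) = 0 := by
    intro t ht
    refine Submodule.span_induction (p := fun t _ => ∀ y : P', Rmap A B g hg q (t • y) = 0)
      ?_ ?_ ?_ ?_ ht
    · rintro _ ⟨b, hb, rfl⟩ y
      rw [algebraMap_smul, Rmap_smul_B, (residue_eq_zero_iff b).mpr hb]
      exact op_zero (hkA A) 1 _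
    · intro y; simp
    · intro t₁ t₂ _ _ h₁ h₂ y
      rw [add_smul, map_add, h₁, h₂, add_zero]
    · intro e t _ h y
      rw [smul_eq_mul, mul_comm, mul_smul]
      exact h _
  refine Submodule.smul_induction_on hy (fun t ht n _ => key t ht n) (fun a b ha hb => ?_)
  rw [map_add, ha, hb, add_zero]

variable {L₀ : Type u} [Field L₀] [Algebra C L₀] [Algebra (ResidueField A) L₀] [Algebra A L₀]
  [IsScalarTower A C L₀] [IsScalarTower A (ResidueField A) L₀]

include hg in
set_option maxHeartbeats 1600000 in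
/-- Step A': independence modulo the maximal ideal of `B`, using flatness at one point only. -/
theorem mem_maximalIdeal_of_smul_mem_prim [IsNoetherianRing C] [Module.Finite C V]
    (p : Ideal C) [p.IsPrime]
    (hγ : ∀ c : C, algebraMap C L₀ c = 0 ↔ c ∈ p)
    (hNil : ∀ τ y : ResidueField B ⊗[ResidueField A] L₀, τ * y = 0 → y ≠ 0 → IsNilpotent τ)
    (hq : ∀ y : P, q y = 0 → y ∈ (maximalIdeal A • ⊤ : Submodule A P))
    (n : Ideal E) [n.IsPrime] (hnC : n.comap (algebraMap C E) = p)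
    (hnB : n.comap (algebraMap B E) = maximalIdeal B)
    {ι : Type*} (x : ι → P)
    (hx : ∀ (s : Finset ι) (a : ι → A),
      (∃ c, c ∉ p ∧ c • ∑ i ∈ s, a i • x i ∈ (maximalIdeal A • ⊤ : Submodule A P)) →
        ∀ i ∈ s, a i ∈ maximalIdeal A)
    (s : Finset ι) (b : ι → B) (t : E) (ht : t ∉ n)
    (hz : t • ∑ i ∈ s, b i • g (x i) ∈
      ((maximalIdeal B).map (algebraMap B E) • ⊤ : Submodule E P')) :
    ∀ i ∈ s, b i ∈ maximalIdeal B := by
  classical
  obtain ⟨ψ, hψC, hψB⟩ := exists_psi A C B E L₀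
  obtain ⟨J, _, cc, bb, htrep⟩ := exists_repr A (C := C) (B := B) t
  set z : P' := ∑ i ∈ s, b i • g (x i) with hzdef
  have h0 : Rmap A B g hg q (t • z) = 0 := Rmap_eq_zero_of_mem g hg q _ hz
  have h1 : Rmap A B g hg q (t • z) =
      ∑ l, op (hkA A) (cc l) (residue B (bb l)) (Rmap A B g hg q z) := by
    rw [htrep, Finset.sum_smul, map_sum]
    refine Finset.sum_congr rfl fun l _ => ?_
    rw [mul_smul, algebraMap_smul, algebraMap_smul, Rmap_smul_C, Rmap_smul_B, op_op]
  have hnn : ¬ IsNilpotent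
      (∑ l, residue B (bb l) ⊗ₜ[ResidueField A] algebraMap C L₀ (cc l) :
        ResidueField B ⊗[ResidueField A] L₀) := by
    have h2 : ψ t = ∑ l, residue B (bb l) ⊗ₜ[ResidueField A] algebraMap C L₀ (cc l) := by
      rw [htrep, map_sum]
      refine Finset.sum_congr rfl fun l _ => ?_
      rw [map_mul, hψC, hψB, Algebra.TensorProduct.tmul_mul_tmul, one_mul, mul_one]
    rw [← h2]
    rintro ⟨m, hm⟩
    rw [← map_pow] at hm
    have : t ^ m ∈ n := ker_psi_le p hγ ψ hψC hψB n hnC hnB hm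
    exact ht (Ideal.IsPrime.mem_of_pow_mem inferInstance m this)
  obtain ⟨d, hd, hdz⟩ := injLoc (hkA A) p hγ hNil Finset.univ cc (fun l => residue B (bb l))
    (Rmap A B g hg q z) hnn (by rw [← h1, h0])
  have hRz : Rmap A B g hg q z = ∑ i ∈ s, q (x i) ⊗ₜ[ResidueField A] residue B (b i) := by
    rw [hzdef, map_sum]
    exact Finset.sum_congr rfl fun i _ => Rmap_smul_g g hg q (b i) (x i)
  have key : ∀ (φ : Module.Dual (ResidueField A) (ResidueField B)) (i : ι), i ∈ s →
      φ (residue B (b i)) = 0 := by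
    intro φ
    choose a ha using fun i => residue_surjective (R := A) (φ (residue B (b i)))
    let Φ : V ⊗[ResidueField A] ResidueField B →ₗ[ResidueField A] V :=
      (TensorProduct.rid (ResidueField A) V).toLinearMap ∘ₗ (LinearMap.lTensor V φ)
    have hΦ : ∀ (v : V) (κ : ResidueField B), Φ (v ⊗ₜ κ) = φ κ • v := fun v κ => by
      simp [Φ]
    have h3 : Φ (op (hkA A) d (1 : ResidueField B) (Rmap A B g hg q z)) =
        q (d • ∑ i ∈ s, a i • x i) := by
      rw [hRz, map_sum, map_sum, map_smul, map_sum, Finset.smul_sum]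
      refine Finset.sum_congr rfl fun i _ => ?_
      rw [op_tmul, one_mul, hΦ, ← ha i, LinearMap.map_smul_of_tower,
        ← algebraMap_smul (ResidueField A) (a i) (q (x i)), smul_comm_Ck (hkA A)]
      rfl
    rw [hdz, map_zero] at h3
    have h4 := hq _ h3.symm
    intro i hi
    have h5 := hx s a ⟨d, hd, h4⟩ i hi
    rw [← ha i]
    exact (residue_eq_zero_iff _).mpr h5
  intro i hi
  have h5 : residue B (b i) = 0 :=
    (Module.forall_dual_apply_eq_zero_iff (ResidueField A) (residue B (b i))).mp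
      (fun φ => key φ i hi)
  exact (residue_eq_zero_iff _).mp h5

end StepA

section Main

variable {A C B E : Type u} [CommRing A] [CommRing C] [CommRing B] [CommRing E]
  [Algebra A C] [Algebra A B] [Algebra C E] [Algebra B E] [Algebra A E]
  [IsScalarTower A C E] [IsScalarTower A B E] [Algebra.IsPushout A C B E]
  [IsLocalRing A] [IsLocalRing B] [IsLocalHom (algebraMap A B)] [IsNoetherianRing C]
  {P P' : Type u} [AddCommGroup P] [Module C P] [Module A P] [IsScalarTower A C P]
  [Module.Finite C P]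
  [AddCommGroup P'] [Module E P'] [Module B P'] [IsScalarTower B E P'] [Module C P']
  [IsScalarTower C E P'] [Module A P'] [IsScalarTower A B P'] [IsScalarTower A C P']
  (g : P →ₗ[C] P') (hg : IsBaseChange E g) (p : Ideal C) [p.IsPrime]
  {L₀ : Type u} [Field L₀] [Algebra C L₀] [Algebra (ResidueField A) L₀] [Algebra A L₀]
  [IsScalarTower A C L₀] [IsScalarTower A (ResidueField A) L₀]

include hg in
set_option maxHeartbeats 1600000 in
/-- Step A' with the concrete choice `V = P ⊗_A κ(A)`. -/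
theorem stepA_prim
    (hγ : ∀ c : C, algebraMap C L₀ c = 0 ↔ c ∈ p)
    (hNil : ∀ τ y : ResidueField B ⊗[ResidueField A] L₀, τ * y = 0 → y ≠ 0 → IsNilpotent τ)
    (n : Ideal E) [n.IsPrime] (hnC : n.comap (algebraMap C E) = p)
    (hnB : n.comap (algebraMap B E) = maximalIdeal B)
    {ι : Type*} (x : ι → P)
    (hx : ∀ (s : Finset ι) (a : ι → A),
      (∃ c, c ∉ p ∧ c • ∑ i ∈ s, a i • x i ∈ (maximalIdeal A • ⊤ : Submodule A P)) →
        ∀ i ∈ s, a i ∈ maximalIdeal A)
    (s : Finset ι) (b : ι → B) (t : E) (ht : t ∉ n)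
    (hz : t • ∑ i ∈ s, b i • g (x i) ∈
      ((maximalIdeal B).map (algebraMap B E) • ⊤ : Submodule E P')) :
    ∀ i ∈ s, b i ∈ maximalIdeal B := by
  have htors : Module.IsTorsionBySet A (P ⊗[A] ResidueField A) (maximalIdeal A) := by
    rintro v ⟨a, ha⟩
    change a • v = 0
    induction v using TensorProduct.induction_on with
    | zero => simp
    | tmul x r =>
      rw [TensorProduct.smul_tmul', TensorProduct.smul_tmul, Algebra.smul_def,
        show algebraMap A (ResidueField A) a = 0 from (residue_eq_zero_iff a).mpr ha, zero_mul,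
        TensorProduct.tmul_zero]
    | add v v' h h' => rw [smul_add, h, h', add_zero]
  letI mk₀ : Module (ResidueField A) (P ⊗[A] ResidueField A) := htors.module
  haveI tk₀ : IsScalarTower A (ResidueField A) (P ⊗[A] ResidueField A) := htors.isScalarTower
  haveI : Module.Finite C (P ⊗[A] ResidueField A) :=
    finite_tensor_residue (ResidueField A) (residue_surjective (R := A))
  let q : P →ₗ[C] P ⊗[A] ResidueField A :=
    { toFun := fun x => x ⊗ₜ (1 : ResidueField A)
      map_add' := fun x y => TensorProduct.add_tmul x y 1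
      map_smul' := fun c x => by rw [TensorProduct.smul_tmul']; rfl }
  have hq : ∀ y : P, q y = 0 → y ∈ (maximalIdeal A • ⊤ : Submodule A P) := by
    intro y hy
    have hker : LinearMap.ker (TensorProduct.mk A (ResidueField A) P 1) = maximalIdeal A • ⊤ :=
      LinearMap.ker_tensorProductMk (R := A) (Q := P) (I := maximalIdeal A)
    rw [← hker, LinearMap.mem_ker, TensorProduct.mk_apply]
    have h2 : y ⊗ₜ[A] (1 : ResidueField A) = 0 := hy
    have := congrArg (TensorProduct.comm A P (ResidueField A)) h2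
    rwa [TensorProduct.comm_tmul, map_zero] at this
  exact mem_maximalIdeal_of_smul_mem_prim g hg q p hγ hNil hq n hnC hnB x hx s b t ht hz

omit [IsScalarTower A B E] [Algebra.IsPushout A C B E] [IsLocalRing A]
  [IsLocalHom (algebraMap A B)] [IsNoetherianRing C] [Module.Finite C P] [IsScalarTower A C E] in
set_option maxHeartbeats 1600000 in
/-- Steps B and C of `ArtFam.chart_core` for a general multiplicative set. -/
theorem chart_core_gen (S : Submonoid E) [Module.Flat B (LocalizedModule S P')]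
    {ι : Type*} (x : ι → P)
    (hA₀ : ∀ (s' : Finset ι) (β : ι → B) (σ : E), σ ∈ S →
      σ • ∑ i ∈ s', β i • g (x i) ∈
        ((maximalIdeal B).map (algebraMap B E) • ⊤ : Submodule E P') →
      ∀ i ∈ s', β i ∈ maximalIdeal B)
    (𝔟 : Ideal B) (h𝔟 : 𝔟 ≠ ⊤) (s : Finset ι) (c : ι → A)
    (hc : ∑ i ∈ s, c i • x i ∈ ((𝔟.comap (algebraMap A B)) • ⊤ : Submodule A P)) :
    ∀ i ∈ s, algebraMap A B (c i) ∈ 𝔟 := by
  classical
  let θ : P' →ₗ[B] LocalizedModule S P' := (LocalizedModule.mkLinearMap S P').restrictScalars B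
  let w : ι → LocalizedModule S P' := fun i => θ (g (x i))
  -- Step A
  have hA : ∀ (s' : Finset ι) (β : ι → B),
      ∑ i ∈ s', β i • w i ∈ (maximalIdeal B • ⊤ : Submodule B (LocalizedModule S P')) →
        ∀ i ∈ s', β i ∈ maximalIdeal B := by
    intro s' β hβ
    have h1 : ∑ i ∈ s', β i • w i =
        LocalizedModule.mkLinearMap S P' (∑ i ∈ s', β i • g (x i)) := by
      change _ = θ _
      rw [map_sum]
      exact Finset.sum_congr rfl fun i _ => (map_smul θ (β i) (g (x i))).symm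
    rw [h1] at hβ
    have h2 : LocalizedModule.mkLinearMap S P' (∑ i ∈ s', β i • g (x i)) ∈
        ((maximalIdeal B).map (algebraMap B E) • ⊤ : Submodule E (LocalizedModule S P')) := by
      have h3 := mem_map_smul_top_of_mem_smul_top (S := E) (maximalIdeal B) 1
        (x := LocalizedModule.mkLinearMap S P' (∑ i ∈ s', β i • g (x i)))
        (by rwa [pow_one])
      rwa [pow_one] at h3
    obtain ⟨σ, hσ, hσz⟩ := exists_smul_mem_of_mk_mem S _ _ h2
    exact hA₀ s' β σ hσ hσz
  -- Step B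
  haveI : Nontrivial (B ⧸ 𝔟) := Ideal.Quotient.nontrivial_iff.mpr h𝔟
  haveI : IsLocalRing (B ⧸ 𝔟) :=
    IsLocalRing.of_surjective' (Ideal.Quotient.mk 𝔟) Ideal.Quotient.mk_surjective
  haveI : IsLocalHom (Ideal.Quotient.mk 𝔟) :=
    IsLocalHom.of_surjective (Ideal.Quotient.mk 𝔟) Ideal.Quotient.mk_surjective
  let w' : ι → (B ⧸ 𝔟) ⊗[B] LocalizedModule S P' := fun i => (1 : B ⧸ 𝔟) ⊗ₜ w i
  have hw' : ∀ (β : B) (i : ι), (Ideal.Quotient.mk 𝔟 β) • w' i =
      (1 : B ⧸ 𝔟) ⊗ₜ[B] (β • w i) := by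
    intro β i
    change (Ideal.Quotient.mk 𝔟 β) • ((1 : B ⧸ 𝔟) ⊗ₜ[B] w i) = _
    rw [TensorProduct.smul_tmul', TensorProduct.tmul_smul, TensorProduct.smul_tmul',
      smul_eq_mul, mul_one, Algebra.smul_def, mul_one]
    rfl
  have hle : 𝔟 ≤ maximalIdeal B := le_maximalIdeal h𝔟
  let fac : (B ⧸ 𝔟) →ₗ[B] ResidueField B := (Ideal.Quotient.factorₐ B hle).toLinearMap
  let π : (B ⧸ 𝔟) ⊗[B] LocalizedModule S P' →ₗ[B] ResidueField B ⊗[B] LocalizedModule S P' :=
    fac.rTensor (LocalizedModule S P')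
  have hkill : ∀ (β : B), β ∈ maximalIdeal B →
      ∀ t : ResidueField B ⊗[B] LocalizedModule S P', β • t = 0 := by
    intro β hβ t
    induction t using TensorProduct.induction_on with
    | zero => simp
    | tmul k n =>
      rw [TensorProduct.smul_tmul']
      have : β • k = 0 := by
        rw [Algebra.smul_def]
        have : algebraMap B (ResidueField B) β = 0 := (residue_eq_zero_iff β).mpr hβ
        rw [this, zero_mul]
      rw [this, TensorProduct.zero_tmul]
    | add t t' ht ht' => rw [smul_add, ht, ht', add_zero]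
  have hπ : ∀ t ∈ (maximalIdeal (B ⧸ 𝔟) • ⊤ :
      Submodule (B ⧸ 𝔟) ((B ⧸ 𝔟) ⊗[B] LocalizedModule S P')), π t = 0 := by
    intro t ht
    refine Submodule.smul_induction_on ht (fun β' hβ' y _ => ?_) (fun a b ha hb => ?_)
    · obtain ⟨β, rfl⟩ := Ideal.Quotient.mk_surjective β'
      have hβ : β ∈ maximalIdeal B := by
        by_contra hβ
        have hu : IsUnit β := by
          by_contra hnu
          exact hβ ((mem_maximalIdeal β).mpr hnu)
        exact ((mem_maximalIdeal _).mp hβ') (hu.map (Ideal.Quotient.mk 𝔟))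
      have h1 : (Ideal.Quotient.mk 𝔟 β) • y = β • y := by
        rw [← Ideal.Quotient.algebraMap_eq, algebraMap_smul]
      rw [h1, map_smul]
      exact hkill β hβ _
    · rw [map_add, ha, hb, add_zero]
  have hB : ∀ (s' : Finset ι) (β' : ι → B ⧸ 𝔟),
      ∑ i ∈ s', β' i • w' i ∈ (maximalIdeal (B ⧸ 𝔟) • ⊤ :
        Submodule (B ⧸ 𝔟) ((B ⧸ 𝔟) ⊗[B] LocalizedModule S P')) →
        ∀ i ∈ s', β' i ∈ maximalIdeal (B ⧸ 𝔟) := by
    intro s' β' hβ'
    choose β hβ using fun i => Ideal.Quotient.mk_surjective (β' i)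
    have h1 : ∑ i ∈ s', β' i • w' i = (1 : B ⧸ 𝔟) ⊗ₜ[B] (∑ i ∈ s', β i • w i) := by
      rw [TensorProduct.tmul_sum]
      exact Finset.sum_congr rfl fun i _ => by rw [← hβ i, hw']
    have h2 := hπ _ hβ'
    rw [h1] at h2
    have h3 : TensorProduct.mk B (ResidueField B) (LocalizedModule S P') 1
        (∑ i ∈ s', β i • w i) = 0 := by
      have : π ((1 : B ⧸ 𝔟) ⊗ₜ[B] (∑ i ∈ s', β i • w i)) =
          (1 : ResidueField B) ⊗ₜ[B] (∑ i ∈ s', β i • w i) := by
        change fac 1 ⊗ₜ[B] _ = _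
        congr 1
      rw [this] at h2
      exact h2
    have hker : LinearMap.ker (TensorProduct.mk B (ResidueField B) (LocalizedModule S P') 1) =
        maximalIdeal B • ⊤ :=
      LinearMap.ker_tensorProductMk (R := B) (Q := LocalizedModule S P') (I := maximalIdeal B)
    have h4 : ∑ i ∈ s', β i • w i ∈
        (maximalIdeal B • ⊤ : Submodule B (LocalizedModule S P')) := by
      rw [← hker]
      exact h3
    intro i hi
    have h5 := hA s' β h4 i hi
    rw [← hβ i]
    by_contra hcon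
    have hu : IsUnit (Ideal.Quotient.mk 𝔟 (β i)) := by
      by_contra hnu
      exact hcon ((mem_maximalIdeal _).mpr hnu)
    exact ((mem_maximalIdeal _).mp h5) (isUnit_of_map_unit (Ideal.Quotient.mk 𝔟) _ hu)
  have hli : LinearIndependent (B ⧸ 𝔟) w' :=
    Module.IsLocalRing.linearIndependent_of_flat w' (linearIndependent_mk_of_forall w' hB)
  -- Step C
  have hC : θ (g (∑ i ∈ s, c i • x i)) ∈ (𝔟 • ⊤ : Submodule B (LocalizedModule S P')) := by
    refine Submodule.smul_induction_on hc (fun k hk x₀ _ => ?_) (fun a b ha hb => ?_)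
    · rw [LinearMap.map_smul_of_tower, ← algebraMap_smul B k (g x₀), map_smul]
      exact Submodule.smul_mem_smul (Ideal.mem_comap.mp hk) Submodule.mem_top
    · rw [map_add, map_add]
      exact add_mem ha hb
  have hC2 : θ (g (∑ i ∈ s, c i • x i)) = ∑ i ∈ s, algebraMap A B (c i) • w i := by
    rw [map_sum, map_sum]
    refine Finset.sum_congr rfl fun i _ => ?_
    rw [LinearMap.map_smul_of_tower, ← algebraMap_smul B (c i) (g (x i)), map_smul]
  have hkerb : LinearMap.ker (TensorProduct.mk B (B ⧸ 𝔟) (LocalizedModule S P') 1) = 𝔟 • ⊤ :=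
    LinearMap.ker_tensorProductMk (R := B) (Q := LocalizedModule S P') (I := 𝔟)
  have hC3 : (1 : B ⧸ 𝔟) ⊗ₜ[B] (∑ i ∈ s, algebraMap A B (c i) • w i) = 0 := by
    rw [← hC2]
    have : θ (g (∑ i ∈ s, c i • x i)) ∈
        LinearMap.ker (TensorProduct.mk B (B ⧸ 𝔟) (LocalizedModule S P') 1) := by
      rw [hkerb]; exact hC
    exact this
  have hC4 : ∑ i ∈ s, (Ideal.Quotient.mk 𝔟 (algebraMap A B (c i))) • w' i = 0 := by
    rw [← hC3, TensorProduct.tmul_sum]
    exact Finset.sum_congr rfl fun i _ => hw' _ i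
  intro i hi
  have := linearIndependent_iff'.mp hli s _ hC4 i hi
  exact Ideal.Quotient.eq_zero_iff_mem.mp this

include hg in
/-- The chart-level core, with flatness at a single prime `n`. -/
theorem chart_core_prim
    (hγ : ∀ c : C, algebraMap C L₀ c = 0 ↔ c ∈ p)
    (hNil : ∀ τ y : ResidueField B ⊗[ResidueField A] L₀, τ * y = 0 → y ≠ 0 → IsNilpotent τ)
    (n : Ideal E) [n.IsPrime] (hnC : n.comap (algebraMap C E) = p)
    (hnB : n.comap (algebraMap B E) = maximalIdeal B)
    (hfl : Module.Flat B (LocalizedModule n.primeCompl P'))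
    {ι : Type*} (x : ι → P)
    (hx : ∀ (s : Finset ι) (a : ι → A),
      (∃ c, c ∉ p ∧ c • ∑ i ∈ s, a i • x i ∈ (maximalIdeal A • ⊤ : Submodule A P)) →
        ∀ i ∈ s, a i ∈ maximalIdeal A)
    (𝔟 : Ideal B) (h𝔟 : 𝔟 ≠ ⊤) (s : Finset ι) (c : ι → A)
    (hc : ∑ i ∈ s, c i • x i ∈ ((𝔟.comap (algebraMap A B)) • ⊤ : Submodule A P)) :
    ∀ i ∈ s, algebraMap A B (c i) ∈ 𝔟 :=
  chart_core_gen g n.primeCompl x
    (fun s' β σ hσ hσz => stepA_prim g hg p hγ hNil n hnC hnB x hx s' β σ hσ hσz) 𝔟 h𝔟 s c hc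

include hg in
set_option maxHeartbeats 1600000 in
/-- The stalk-level core: relations in the localization `M = P_p`, flatness at a single prime. -/
theorem stalk_core_prim {M : Type u} [AddCommGroup M] [Module C M] [Module A M]
    [IsScalarTower A C M]
    (l : P →ₗ[C] M) [IsLocalizedModule p.primeCompl l]
    (hγ : ∀ c : C, algebraMap C L₀ c = 0 ↔ c ∈ p)
    (hNil : ∀ τ y : ResidueField B ⊗[ResidueField A] L₀, τ * y = 0 → y ≠ 0 → IsNilpotent τ)
    (n : Ideal E) [n.IsPrime] (hnC : n.comap (algebraMap C E) = p)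
    (hnB : n.comap (algebraMap B E) = maximalIdeal B)
    (hfl : Module.Flat B (LocalizedModule n.primeCompl P'))
    {ι : Type*} [Finite ι] (v : ι → M)
    (hv : ∀ (s : Finset ι) (a : ι → A),
      ∑ i ∈ s, a i • v i ∈ (maximalIdeal A • ⊤ : Submodule A M) → ∀ i ∈ s, a i ∈ maximalIdeal A)
    (𝔟 : Ideal B) (h𝔟 : 𝔟 ≠ ⊤) (s : Finset ι) (c : ι → A)
    (hc : ∑ i ∈ s, c i • v i ∈ ((𝔟.comap (algebraMap A B)) • ⊤ : Submodule A M)) :
    ∀ i ∈ s, algebraMap A B (c i) ∈ 𝔟 := by
  obtain ⟨d₀, hd₀⟩ := IsLocalizedModule.exist_integer_multiples_of_finite p.primeCompl l v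
  choose x₀ hx₀ using hd₀
  have h1 : l (∑ i ∈ s, c i • x₀ i) = (d₀ : C) • ∑ i ∈ s, c i • v i := by
    rw [map_sum, Finset.smul_sum]
    refine Finset.sum_congr rfl fun i _ => ?_
    rw [LinearMap.map_smul_of_tower, hx₀, smul_comm]
  have h2 : l (∑ i ∈ s, c i • x₀ i) ∈ ((𝔟.comap (algebraMap A B)) • ⊤ : Submodule A M) := by
    rw [h1]
    exact smul_mem_smul_top_of_mem _ _ hc
  obtain ⟨d₁, hd₁, h3⟩ := exists_smul_mem_of_map_mem p l _ _ h2
  let x : ι → P := fun i => d₁ • x₀ i
  have hlx : ∀ i, l (x i) = (d₁ * (d₀ : C)) • v i := by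
    intro i
    change l (d₁ • x₀ i) = _
    rw [map_smul, hx₀, smul_smul]
  have hd : d₁ * (d₀ : C) ∉ p := fun h =>
    (Ideal.IsPrime.mem_or_mem inferInstance h).elim hd₁ d₀.2
  have hsum : ∀ (s' : Finset ι) (a : ι → A),
      ∑ i ∈ s', a i • x i = d₁ • ∑ i ∈ s', a i • x₀ i := by
    intro s' a
    rw [Finset.smul_sum]
    exact Finset.sum_congr rfl fun i _ => smul_comm _ _ _
  refine chart_core_prim g hg p hγ hNil n hnC hnB hfl x ?_ 𝔟 h𝔟 s c ?_
  · rintro s' a ⟨c', hc', hmem⟩
    have h4 : l (c' • ∑ i ∈ s', a i • x i) ∈ (maximalIdeal A • ⊤ : Submodule A M) :=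
      map_mem_smul_top _ (l.restrictScalars A) hmem
    have h5 : l (c' • ∑ i ∈ s', a i • x i) =
        (c' * (d₁ * (d₀ : C))) • ∑ i ∈ s', a i • v i := by
      rw [map_smul, map_sum, mul_smul]
      congr 1
      rw [Finset.smul_sum]
      refine Finset.sum_congr rfl fun i _ => ?_
      rw [LinearMap.map_smul_of_tower, hlx, smul_comm]
    rw [h5] at h4
    exact hv s' a (mem_of_smul_mem_of_notMem p l _
      (fun h => (Ideal.IsPrime.mem_or_mem inferInstance h).elim hc' hd) h4)
  · rw [hsum]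
    exact h3

end Main

end Groth.Agent.H57.ArtFamPrim
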