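import Groth.Agent.H57.ArtFamLocA
import Groth.Agent.H57.ArtFamPrim

/-!
`ArtFamPrim.stalk_core_prim` with a non-local base `R` localized at a prime `𝔭` (`A₀ = R_𝔭`),
helper57.  Copy of `ArtFamLocA.stalk_core_primeA` with flatness at a single prime.
-/

set_option autoImplicit false
set_option linter.style.haveILetI false
universe u

open TensorProduct IsLocalRing

namespace Groth.Agent.H57.ArtFamPrimA

open Groth.Agent.H57 Groth.Agent.H57.ArtFam

section PrimeA

variable {R C B E A₀ : Type u} [CommRing R] [CommRing C] [CommRing B] [CommRing E]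
  [CommRing A₀]
  [Algebra R C] [Algebra R B] [Algebra C E] [Algebra B E] [Algebra R E]
  [IsScalarTower R C E] [IsScalarTower R B E] [Algebra.IsPushout R C B E]
  [IsNoetherianRing C] [IsLocalRing B]
  (𝔭 : Ideal R) [𝔭.IsPrime] [Algebra R A₀] [IsLocalization.AtPrime A₀ 𝔭] [IsLocalRing A₀]
  [Algebra A₀ B] [IsScalarTower R A₀ B] [IsLocalHom (algebraMap A₀ B)]
  (p : Ideal C) [p.IsPrime]
  {P : Type u} [AddCommGroup P] [Module C P] [Module.Finite C P]
  [SMulCommClass C B E]
  {L₀ : Type u} [Field L₀] [Algebra C L₀] [Algebra A₀ L₀] [Algebra (ResidueField A₀) L₀]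
  [Algebra R L₀] [IsScalarTower R C L₀] [IsScalarTower R A₀ L₀]
  [IsScalarTower A₀ (ResidueField A₀) L₀]

local notation "TC" => Algebra.algebraMapSubmonoid C (Ideal.primeCompl 𝔭)
local notation "C₀" => Localization (Algebra.algebraMapSubmonoid C (Ideal.primeCompl 𝔭))

set_option maxHeartbeats 3200000 in
/-- `stalk_core_prim` over a base `R` localized at a prime `𝔭`. -/
theorem stalk_core_primeA_prim (Sx : Type u) [CommRing Sx]
    [Algebra C Sx] [IsLocalization.AtPrime Sx p] [Algebra A₀ Sx] [Algebra R Sx]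
    [IsScalarTower R A₀ Sx] [IsScalarTower R C Sx]
    {M : Type u} [AddCommGroup M] [Module Sx M] [Module C M] [IsScalarTower C Sx M]
    [Module A₀ M] [IsScalarTower A₀ Sx M]
    (hp𝔭 : p.comap (algebraMap R C) = 𝔭)
    (l : P →ₗ[C] M) [IsLocalizedModule p.primeCompl l]
    (hγ : ∀ c : C, algebraMap C L₀ c = 0 ↔ c ∈ p)
    (hNil : ∀ τ y : ResidueField B ⊗[ResidueField A₀] L₀, τ * y = 0 → y ≠ 0 → IsNilpotent τ)
    (n : Ideal E) [n.IsPrime] (hnC : n.comap (algebraMap C E) = p)
    (hnB : n.comap (algebraMap B E) = maximalIdeal B)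
    (hfl : Module.Flat B (LocalizedModule n.primeCompl (E ⊗[C] P)))
    {ι : Type*} [Finite ι] (v : ι → M)
    (hv : ∀ (s : Finset ι) (a : ι → A₀),
      ∑ i ∈ s, a i • v i ∈ (maximalIdeal A₀ • ⊤ : Submodule A₀ M) →
        ∀ i ∈ s, a i ∈ maximalIdeal A₀)
    (𝔟 : Ideal B) (h𝔟 : 𝔟 ≠ ⊤) (s : Finset ι) (c : ι → A₀)
    (hc : ∑ i ∈ s, c i • v i ∈ ((𝔟.comap (algebraMap A₀ B)) • ⊤ : Submodule A₀ M)) :
    ∀ i ∈ s, algebraMap A₀ B (c i) ∈ 𝔟 := by
  classical
  letI aA₀C₀ : Algebra A₀ C₀ := localizationAlgebra 𝔭.primeCompl C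
  haveI tRA₀C₀ : IsScalarTower R A₀ C₀ := isScalarTower_localizationAlgebra 𝔭.primeCompl C
  haveI po_loc : Algebra.IsPushout R C A₀ C₀ :=
    Algebra.isPushout_of_isLocalization 𝔭.primeCompl A₀ C C₀
  letI aA₀E : Algebra A₀ E := ((algebraMap B E).comp (algebraMap A₀ B)).toAlgebra
  haveI tA₀BE : IsScalarTower A₀ B E := .of_algebraMap_eq' rfl
  haveI tRA₀E : IsScalarTower R A₀ E := .of_algebraMap_eq' (by
    change algebraMap R E = ((algebraMap B E).comp (algebraMap A₀ B)).comp (algebraMap R A₀)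
    rw [RingHom.comp_assoc, ← IsScalarTower.algebraMap_eq R A₀ B,
      ← IsScalarTower.algebraMap_eq R B E])
  have hunitE : ∀ y : TC, IsUnit (algebraMap C E y) := by
    rintro ⟨_, r, hr, rfl⟩
    change IsUnit (algebraMap C E (algebraMap R C r))
    rw [← IsScalarTower.algebraMap_apply R C E, IsScalarTower.algebraMap_apply R A₀ E]
    exact (IsLocalization.map_units A₀ (⟨r, hr⟩ : 𝔭.primeCompl)).map _
  letI aC₀E : Algebra C₀ E := (IsLocalization.lift (M := TC) (S := C₀) hunitE).toAlgebra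
  haveI tCC₀E : IsScalarTower C C₀ E := .of_algebraMap_eq' (IsLocalization.lift_comp _).symm
  haveI tRC₀E : IsScalarTower R C₀ E := .of_algebraMap_eq' (by
    rw [IsScalarTower.algebraMap_eq R C C₀, ← RingHom.comp_assoc,
      ← IsScalarTower.algebraMap_eq C C₀ E, ← IsScalarTower.algebraMap_eq R C E])
  haveI tA₀C₀E : IsScalarTower A₀ C₀ E := .of_algebraMap_eq' (by
    apply IsLocalization.ringHom_ext 𝔭.primeCompl
    rw [RingHom.comp_assoc, ← IsScalarTower.algebraMap_eq R A₀ C₀,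
      ← IsScalarTower.algebraMap_eq R A₀ E, ← IsScalarTower.algebraMap_eq R C₀ E])
  haveI po_sym : Algebra.IsPushout R A₀ C C₀ := po_loc.symm
  haveI po_RBCE : Algebra.IsPushout R B C E := Algebra.IsPushout.symm inferInstance
  haveI po_A₀ : Algebra.IsPushout A₀ B C₀ E :=
    (Algebra.IsPushout.comp_iff (R := R) (S := A₀) (R' := C) (S' := C₀) (T := B)
      (T' := E)).mp po_RBCE
  haveI po_fin : Algebra.IsPushout A₀ C₀ B E := po_A₀.symm
  letI c1 : SMulCommClass C A₀ C₀ := ⟨fun c b e => by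
    simp only [Algebra.smul_def]; ring⟩
  letI c2 : SMulCommClass C C₀ E := ⟨fun c b e => by
    simp only [Algebra.smul_def]; ring⟩
  letI c3 : SMulCommClass C A₀ E := ⟨fun c b e => by
    simp only [Algebra.smul_def]; ring⟩
  haveI : IsNoetherianRing C₀ := IsLocalization.isNoetherianRing TC C₀ inferInstance
  -- the `Sx` side
  have hdisj : Disjoint (TC : Set C) (p : Set C) := by
    rw [Set.disjoint_left]
    rintro _ ⟨r, hr, rfl⟩ hmem
    exact hr (by rw [← hp𝔭]; exact hmem)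
  have hle : TC ≤ p.primeCompl := fun c hc hcp => Set.disjoint_left.mp hdisj hc hcp
  letI aC₀Sx : Algebra C₀ Sx :=
    IsLocalization.localizationAlgebraOfSubmonoidLe C₀ Sx TC p.primeCompl hle
  haveI tCC₀Sx : IsScalarTower C C₀ Sx :=
    IsLocalization.localization_isScalarTower_of_submonoid_le C₀ Sx TC p.primeCompl hle
  haveI tRC₀Sx : IsScalarTower R C₀ Sx := .of_algebraMap_eq' (by
    rw [IsScalarTower.algebraMap_eq R C C₀, ← RingHom.comp_assoc,
      ← IsScalarTower.algebraMap_eq C C₀ Sx, ← IsScalarTower.algebraMap_eq R C Sx])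
  haveI tA₀C₀Sx : IsScalarTower A₀ C₀ Sx := .of_algebraMap_eq' (by
    apply IsLocalization.ringHom_ext 𝔭.primeCompl
    rw [RingHom.comp_assoc, ← IsScalarTower.algebraMap_eq R A₀ C₀,
      ← IsScalarTower.algebraMap_eq R A₀ Sx, ← IsScalarTower.algebraMap_eq R C₀ Sx])
  letI mC₀M : Module C₀ M := Module.compHom M (algebraMap C₀ Sx)
  haveI tC₀SxM : IsScalarTower C₀ Sx M := IsScalarTower.of_algebraMap_smul fun _ _ => rfl
  haveI tCC₀M : IsScalarTower C C₀ M := IsScalarTower.of_algebraMap_smul fun c m => by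
    change algebraMap C₀ Sx (algebraMap C C₀ c) • m = c • m
    rw [← IsScalarTower.algebraMap_apply C C₀ Sx, algebraMap_smul]
  haveI tA₀C₀M : IsScalarTower A₀ C₀ M := ⟨fun a c₀ m => by
    change algebraMap C₀ Sx (a • c₀) • m = a • (algebraMap C₀ Sx c₀ • m)
    rw [Algebra.smul_def, map_mul, mul_smul, ← IsScalarTower.algebraMap_apply A₀ C₀ Sx,
      algebraMap_smul]⟩
  let p₀ : Ideal C₀ := p.map (algebraMap C C₀)
  haveI hp₀ : p₀.IsPrime :=
    IsLocalization.isPrime_of_isPrime_disjoint TC C₀ p inferInstance hdisj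
  have hp₀c : p₀.comap (algebraMap C C₀) = p :=
    IsLocalization.under_map_of_isPrime_disjoint TC C₀ inferInstance hdisj
  let l₀ : C₀ ⊗[C] P →ₗ[C₀] M := (TensorProduct.isBaseChange C P C₀).lift l
  have hl₀bc : IsBaseChange Sx l₀ := by
    refine IsBaseChange.of_comp (TensorProduct.isBaseChange C P C₀) ?_
    have e : (l₀.restrictScalars C) ∘ₗ (TensorProduct.mk C C₀ P 1) = l :=
      (TensorProduct.isBaseChange C P C₀).lift_comp _
    rw [e]
    exact IsLocalizedModule.isBaseChange p.primeCompl Sx l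
  haveI hloc1 : IsLocalization (p.primeCompl.map (algebraMap C C₀)) Sx :=
    IsLocalization.isLocalization_of_submonoid_le C₀ Sx TC p.primeCompl hle
  haveI hl₀1 : IsLocalizedModule (p.primeCompl.map (algebraMap C C₀)) l₀ :=
    (isLocalizedModule_iff_isBaseChange _ Sx l₀).mpr hl₀bc
  have hle' : p.primeCompl.map (algebraMap C C₀) ≤ p₀.primeCompl := by
    rintro _ ⟨c, hc, rfl⟩ hmem
    have : c ∈ p₀.comap (algebraMap C C₀) := hmem
    rw [hp₀c] at this
    exact hc this
  have hex : ∀ x : p₀.primeCompl, ∃ m : C₀, m * x ∈ p.primeCompl.map (algebraMap C C₀) := by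
    rintro ⟨x, hx⟩
    obtain ⟨c, t, rfl⟩ := IsLocalization.exists_mk'_eq TC x
    refine ⟨algebraMap C C₀ t, c, ?_, ?_⟩
    · intro hcp
      apply hx
      rw [IsLocalization.mk'_eq_mul_mk'_one]
      exact Ideal.mul_mem_right _ _ (Ideal.mem_map_of_mem _ hcp)
    · change algebraMap C C₀ c = algebraMap C C₀ t * IsLocalization.mk' C₀ c t
      rw [IsLocalization.mk'_spec']
  haveI hl₀ : IsLocalizedModule p₀.primeCompl l₀ :=
    IsLocalizedModule.of_exists_mul_mem _ _ hle' hex l₀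
  -- the `P'` side
  let g₀ : C₀ ⊗[C] P →ₗ[C₀] E ⊗[C] P :=
    (TensorProduct.isBaseChange C P C₀).lift (TensorProduct.mk C E P 1)
  have hg₀ : IsBaseChange E g₀ := by
    refine IsBaseChange.of_comp (TensorProduct.isBaseChange C P C₀) ?_
    have e : (g₀.restrictScalars C) ∘ₗ (TensorProduct.mk C C₀ P 1) =
        TensorProduct.mk C E P 1 := (TensorProduct.isBaseChange C P C₀).lift_comp _
    rw [e]
    exact TensorProduct.isBaseChange C P E
  -- the `L₀` side
  have hunitL : ∀ y : TC, IsUnit (algebraMap C L₀ y) := fun y =>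
    isUnit_iff_ne_zero.mpr (fun h0 => hle y.2 ((hγ _).mp h0))
  letI aC₀L : Algebra C₀ L₀ := (IsLocalization.lift (M := TC) (S := C₀) hunitL).toAlgebra
  haveI tCC₀L : IsScalarTower C C₀ L₀ := .of_algebraMap_eq' (IsLocalization.lift_comp _).symm
  haveI tRC₀L : IsScalarTower R C₀ L₀ := .of_algebraMap_eq' (by
    rw [IsScalarTower.algebraMap_eq R C C₀, ← RingHom.comp_assoc,
      ← IsScalarTower.algebraMap_eq C C₀ L₀, ← IsScalarTower.algebraMap_eq R C L₀])
  haveI tA₀C₀L : IsScalarTower A₀ C₀ L₀ := .of_algebraMap_eq' (by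
    apply IsLocalization.ringHom_ext 𝔭.primeCompl
    rw [RingHom.comp_assoc, ← IsScalarTower.algebraMap_eq R A₀ C₀,
      ← IsScalarTower.algebraMap_eq R A₀ L₀, ← IsScalarTower.algebraMap_eq R C₀ L₀])
  have hγ₀ : ∀ c₀ : C₀, algebraMap C₀ L₀ c₀ = 0 ↔ c₀ ∈ p₀ := by
    intro c₀
    obtain ⟨c, t, rfl⟩ := IsLocalization.exists_mk'_eq TC c₀
    have hspec : IsLocalization.mk' C₀ c t * algebraMap C C₀ t = algebraMap C C₀ c :=
      IsLocalization.mk'_spec C₀ c t
    have htp : algebraMap C C₀ (t : C) ∉ p₀ := by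
      intro hmem
      have : (t : C) ∈ p₀.comap (algebraMap C C₀) := hmem
      rw [hp₀c] at this
      exact hle t.2 this
    have h1 : algebraMap C₀ L₀ (IsLocalization.mk' C₀ c t) = 0 ↔ algebraMap C L₀ c = 0 := by
      have h2 : algebraMap C₀ L₀ (IsLocalization.mk' C₀ c t) * algebraMap C L₀ t =
          algebraMap C L₀ c := by
        rw [IsScalarTower.algebraMap_apply C C₀ L₀, IsScalarTower.algebraMap_apply C C₀ L₀,
          ← map_mul, hspec]
      constructor
      · intro h0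
        rw [← h2, h0, zero_mul]
      · intro h0
        rw [h0] at h2
        exact (mul_eq_zero.mp h2).resolve_right (hunitL t).ne_zero
    have h3 : IsLocalization.mk' C₀ c t ∈ p₀ ↔ c ∈ p := by
      constructor
      · intro hmem
        have : algebraMap C C₀ c ∈ p₀ := by
          rw [← hspec]
          exact Ideal.mul_mem_right _ _ hmem
        have h4 : c ∈ p₀.comap (algebraMap C C₀) := this
        rwa [hp₀c] at h4
      · intro hc
        have h4 : algebraMap C C₀ c ∈ p₀ := Ideal.mem_map_of_mem _ hc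
        rw [← hspec] at h4
        exact (hp₀.mem_or_mem h4).resolve_right htp
    rw [h1, h3]
    exact hγ c
  have hn₀C : n.comap (algebraMap C₀ E) = p₀ := by
    have h1 : (n.comap (algebraMap C₀ E)).comap (algebraMap C C₀) = p := by
      rw [Ideal.comap_comap, ← IsScalarTower.algebraMap_eq C C₀ E]
      exact hnC
    have h2 := IsLocalization.map_under TC C₀ (n.comap (algebraMap C₀ E))
    rw [Ideal.under_def, h1] at h2
    exact h2.symm
  exact Groth.Agent.H57.ArtFamPrim.stalk_core_prim (A := A₀) (C := C₀) (B := B) (E := E)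
    (P := C₀ ⊗[C] P) (P' := E ⊗[C] P) (L₀ := L₀)
    g₀ hg₀ p₀ l₀ hγ₀ hNil n hn₀C hnB hfl v hv 𝔟 h𝔟 s c hc

end PrimeA

end Groth.Agent.H57.ArtFamPrimA
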