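import Groth.Agent.H57.ArtFamSch

/-!
More scheme-to-chart bridging: the converse chart lemma, closed points of affine schemes, and the
sections of `Spec A' ⟶ Spec 𝒪_{Y,y} ⟶ Y`.
-/

set_option autoImplicit false
set_option linter.style.haveILetI false
universe u

open CategoryTheory CategoryTheory.Limits AlgebraicGeometry TopologicalSpace TensorProduct

namespace Groth.Agent.H57.ArtFamSch

section Points2

variable {X : Scheme.{u}}

/-- A point of an affine scheme whose prime is maximal is closed. -/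
theorem isClosed_singleton_of_primeIdealOf_isMaximal (hT : IsAffineOpen (⊤ : X.Opens)) (x : X)
    (hx : x ∈ (⊤ : X.Opens)) (h : (hT.primeIdealOf ⟨x, hx⟩).asIdeal.IsMaximal) :
    IsClosed ({x} : Set X) := by
  rw [← closure_subset_iff_isClosed]
  intro z hz
  have hspec : x ⤳ z := specializes_iff_mem_closure.mpr hz
  have hzT : z ∈ (⊤ : X.Opens) := trivial
  have hle : (hT.primeIdealOf ⟨x, hx⟩).asIdeal ≤ (hT.primeIdealOf ⟨z, hzT⟩).asIdeal := by
    intro a ha
    by_contra haz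
    have h1 : z ∈ X.basicOpen a :=
      (Groth.Agent.H8.mem_basicOpen_iff_notMem_primeIdealOf hT z hzT a).mpr haz
    have h2 : x ∈ X.basicOpen a := hspec.mem_open (X.basicOpen a).isOpen h1
    exact (Groth.Agent.H8.mem_basicOpen_iff_notMem_primeIdealOf hT x hx a).mp h2 ha
  have heq : (hT.primeIdealOf ⟨x, hx⟩).asIdeal = (hT.primeIdealOf ⟨z, hzT⟩).asIdeal :=
    h.eq_of_le (Ideal.IsPrime.ne_top inferInstance) hle
  have hxz : x = z := eq_of_primeIdealOf_eq hT hx hzT (PrimeSpectrum.ext heq)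
  exact Set.mem_singleton_iff.mpr hxz.symm

end Points2

section FromSpecStalk

variable {Y : Scheme.{u}}

theorem top_le_preimage_fromSpecStalk (y : Y) (A' : CommRingCat.{u}) (φ : Y.presheaf.stalk y ⟶ A')
    {V : Y.Opens} (hyV : y ∈ V) :
    (⊤ : (Spec A').Opens) ≤ (Spec.map φ ≫ Y.fromSpecStalk y) ⁻¹ᵁ V := by
  intro z _
  show (Spec.map φ ≫ Y.fromSpecStalk y) z ∈ V
  have hz : (Spec.map φ ≫ Y.fromSpecStalk y) z ⤳ y := by
    have hmem : (Spec.map φ ≫ Y.fromSpecStalk y) z ∈ Set.range (Y.fromSpecStalk y) :=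
      ⟨Spec.map φ z, rfl⟩
    rwa [Scheme.range_fromSpecStalk] at hmem
  exact hz.mem_open V.isOpen hyV

theorem appLE_comp_fromSpecStalk (y : Y) (A' : CommRingCat.{u}) (φ : Y.presheaf.stalk y ⟶ A')
    {V : Y.Opens} (hyV : y ∈ V)
    (hV'V : (⊤ : (Spec A').Opens) ≤ (Spec.map φ ≫ Y.fromSpecStalk y) ⁻¹ᵁ V) :
    (Spec.map φ ≫ Y.fromSpecStalk y).appLE V ⊤ hV'V =
      Y.presheaf.germ V y hyV ≫ φ ≫ (Scheme.ΓSpecIso A').inv := by
  rw [Scheme.Hom.comp_appLE, Scheme.fromSpecStalk_app hyV, Category.assoc, Category.assoc]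
  erw [Scheme.Hom.map_appLE]
  have h1 : (Spec.map φ).appLE ⊤ ⊤ le_top = (Spec.map φ).appTop := by
    rw [Scheme.Hom.appTop, Scheme.Hom.app_eq_appLE]
    rfl
  have h2 := Scheme.ΓSpecIso_inv_naturality φ
  congr 1
  rw [h1]
  exact h2.symm

end FromSpecStalk

section Chart2

variable {X X' S' : Scheme.{u}}

set_option maxHeartbeats 1600000 in
/-- The converse of `flat_localizedModule_chart`. -/
theorem isFlatOverAt_of_flat_localizedModule_chart (F : X.Modules) [F.IsQuasicoherent]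
    (f' : X' ⟶ S') (g' : X' ⟶ X)
    {W : X.Opens} {V' : S'.Opens} {W' : X'.Opens} (hW : IsAffineOpen W) (hV' : IsAffineOpen V')
    (hW' : IsAffineOpen W') (hW'W : W' ≤ g' ⁻¹ᵁ W) (hW'V' : W' ≤ f' ⁻¹ᵁ V')
    (x' : X') (hx' : x' ∈ W')
    (h : letI : Algebra Γ(X, W) Γ(X', W') := (g'.appLE W W' hW'W).hom.toAlgebra
      letI : Algebra Γ(S', V') Γ(X', W') := (f'.appLE V' W' hW'V').hom.toAlgebra
      letI : SMulCommClass Γ(X, W) Γ(S', V') Γ(X', W') := ⟨fun c b e => by
        simp only [Algebra.smul_def]; ring⟩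
      Module.Flat Γ(S', V') (LocalizedModule (hW'.primeIdealOf ⟨x', hx'⟩).asIdeal.primeCompl
        (Γ(X', W') ⊗[Γ(X, W)] Γ(F, W)))) :
    FlatMod.IsFlatOverAt f' ((Scheme.Modules.pullback g').obj F) x' := by
  letI aCE : Algebra Γ(X, W) Γ(X', W') := (g'.appLE W W' hW'W).hom.toAlgebra
  letI aBE : Algebra Γ(S', V') Γ(X', W') := (f'.appLE V' W' hW'V').hom.toAlgebra
  letI hcomm : SMulCommClass Γ(X, W) Γ(S', V') Γ(X', W') := ⟨fun c b e => by
    simp only [Algebra.smul_def]; ring⟩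
  haveI := Groth.Agent.H8.isQuasicoherent_pullback g' F
  letI mEN := Groth.Agent.H8.moduleSectionStalk ((Scheme.Modules.pullback g').obj F) x' hx'
  haveI := Groth.Agent.H8.isLocalizedModule_germₗ ((Scheme.Modules.pullback g').obj F) hW' x' hx'
  let Eq : Γ((Scheme.Modules.pullback g').obj F, W') ≃ₗ[Γ(X', W')]
      Γ(X', W') ⊗[Γ(X, W)] Γ(F, W) := Groth.Agent.H8.sectionsPullbackEquiv g' F hW hW' hW'W
  let γ : Γ(X', W') ⊗[Γ(X, W)] Γ(F, W) →ₗ[Γ(X', W')]
      ((Scheme.Modules.pullback g').obj F).presheaf.stalk x' :=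
    (Groth.Agent.H8.germₗ ((Scheme.Modules.pullback g').obj F) x' hx') ∘ₗ Eq.symm.toLinearMap
  haveI : IsLocalizedModule (hW'.primeIdealOf ⟨x', hx'⟩).asIdeal.primeCompl γ :=
    IsLocalizedModule.of_linearEquiv_right _ _ Eq.symm
  let e := IsLocalizedModule.iso (hW'.primeIdealOf ⟨x', hx'⟩).asIdeal.primeCompl γ
  letI aBT : Algebra Γ(S', V') (X'.presheaf.stalk x') :=
    ((X'.presheaf.germ W' x' hx').hom.comp (f'.appLE V' W' hW'V').hom).toAlgebra
  letI mBN : Module Γ(S', V') (((Scheme.Modules.pullback g').obj F).presheaf.stalk x') :=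
    Module.compHom _ (algebraMap Γ(S', V') (X'.presheaf.stalk x'))
  haveI : IsScalarTower Γ(S', V') Γ(X', W')
      (((Scheme.Modules.pullback g').obj F).presheaf.stalk x') :=
    IsScalarTower.of_algebraMap_smul fun r m => rfl
  haveI hflatL : Module.Flat Γ(S', V')
      (LocalizedModule (hW'.primeIdealOf ⟨x', hx'⟩).asIdeal.primeCompl
        (Γ(X', W') ⊗[Γ(X, W)] Γ(F, W))) := h
  haveI flN : Module.Flat Γ(S', V')
      (((Scheme.Modules.pullback g').obj F).presheaf.stalk x') :=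
    Module.Flat.of_linearEquiv (e.symm.restrictScalars Γ(S', V'))
  have hsV' : f' x' ∈ V' := hW'V' hx'
  letI : Algebra Γ(S', V') (S'.presheaf.stalk (f' x')) :=
    S'.presheaf.algebra_section_stalk ⟨f' x', hsV'⟩
  haveI := hV'.isLocalization_stalk ⟨f' x', hsV'⟩
  letI : Module (S'.presheaf.stalk (f' x'))
      (((Scheme.Modules.pullback g').obj F).presheaf.stalk x') :=
    FlatMod.moduleStalkOver f' ((Scheme.Modules.pullback g').obj F) x'
  haveI : IsScalarTower Γ(S', V') (S'.presheaf.stalk (f' x'))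
      (((Scheme.Modules.pullback g').obj F).presheaf.stalk x') :=
    IsScalarTower.of_algebraMap_smul fun r m => by
      change (f'.stalkMap x').hom (S'.presheaf.germ V' (f' x') hsV' r) • m =
        X'.presheaf.germ W' x' hx' ((f'.appLE V' W' hW'V').hom r) • m
      rw [Groth.Agent.H57.stalkMap_germ_appLE f' hW'V' x' hx' r]
  exact (Module.flat_iff_of_isLocalization (S'.presheaf.stalk (f' x'))
    (hV'.primeIdealOf ⟨f' x', hsV'⟩).asIdeal.primeCompl _).mpr flN

end Chart2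

end Groth.Agent.H57.ArtFamSch
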