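import Mathlib
import Groth.Agent.H57.FibNontriv
import Groth.Agent.H8.TensorStalk
import Groth.Agent.S1391
import Groth.Agent.H49.FibreCritFib

/-!
# Tensoring with a relatively faithfully flat module (EGA IV 2.2.11-type statements)

Ring-level lemmas about `N ⊗[B] G` for `N` (faithfully) flat over `B` and `G` a `B`-module viewed
over a base `A`, and the pointwise scheme-level statement for `p^*F ⊗ q^*G'` on `X ×_Y Y'`.
-/

set_option autoImplicit false
set_option linter.style.haveILetI false

universe u

open AlgebraicGeometry CategoryTheory Limits TensorProduct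

namespace Groth.Agent.H57.FFRel

section Ring

/-- `I M = M` iff `(A/I) ⊗ M = 0`. -/
theorem smul_top_eq_top_iff_subsingleton {A M : Type u} [CommRing A] [AddCommGroup M] [Module A M]
    (I : Ideal A) :
    I • (⊤ : Submodule A M) = ⊤ ↔ Subsingleton ((A ⧸ I) ⊗[A] M) := by
  rw [← Submodule.Quotient.subsingleton_iff]
  exact (TensorProduct.quotTensorEquivQuotSMul M I).symm.toEquiv.subsingleton_congr

/-- The condition `I M ≠ M` does not depend on the way the module structure is presented. -/
theorem smul_top_ne_top_congr {A C M : Type u} [CommRing A] [CommRing C] [AddCommGroup M]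
    [Module C M] (φ₁ φ₂ : A →+* C) (h : φ₁ = φ₂) (I : Ideal A) :
    (letI : Module A M := Module.compHom M φ₁; I • (⊤ : Submodule A M) ≠ ⊤) ↔
      (letI : Module A M := Module.compHom M φ₂; I • (⊤ : Submodule A M) ≠ ⊤) := by
  subst h
  rfl

/-- Flatness over `A` does not depend on the way the module structure is presented. -/
theorem flat_compHom_congr {A C M : Type u} [CommRing A] [CommRing C] [AddCommGroup M]
    [Module C M] (φ₁ φ₂ : A →+* C) (h : φ₁ = φ₂) :
    (letI : Module A M := Module.compHom M φ₁; Module.Flat A M) ↔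
      (letI : Module A M := Module.compHom M φ₂; Module.Flat A M) := by
  subst h
  rfl

variable {A B N G : Type u} [CommRing A] [CommRing B] [Algebra A B]
  [AddCommGroup N] [Module B N] [Module A N] [IsScalarTower A B N]
  [AddCommGroup G] [Module B G] [Module A G] [IsScalarTower A B G]

/-- If `N` is flat over `B` and `G` is flat over `A`, then `N ⊗[B] G` is flat over `A`. -/
theorem flat_tensor_of_flat_of_flat [Module.Flat B N] [Module.Flat A G] :
    Module.Flat A (N ⊗[B] G) := by
  rw [Module.Flat.iff_lTensor_preserves_injective_linearMap]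
  intro P Q _ _ _ _ v hv
  let gu : G ⊗[A] P →ₗ[B] G ⊗[A] Q := AlgebraTensorModule.lTensor B G v
  have hgu : Function.Injective gu :=
    Module.Flat.lTensor_preserves_injective_linearMap (M := G) v hv
  have h1 : Function.Injective (gu.lTensor N) :=
    Module.Flat.lTensor_preserves_injective_linearMap (M := N) gu hgu
  have hnat : ∀ z : (N ⊗[B] G) ⊗[A] P,
      AlgebraTensorModule.assoc A B B N G Q (v.lTensor (N ⊗[B] G) z) =
      gu.lTensor N (AlgebraTensorModule.assoc A B B N G P z) := by
    intro z
    induction z using TensorProduct.induction_on with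
    | zero => simp
    | tmul w p =>
      induction w using TensorProduct.induction_on with
      | zero => simp
      | tmul n g => simp [gu]
      | add a b ha hb => simp only [TensorProduct.add_tmul, map_add, ha, hb]
    | add a b ha hb => simp only [map_add, ha, hb]
  intro a b hab
  apply (AlgebraTensorModule.assoc A B B N G P).injective
  apply h1
  rw [← hnat, ← hnat, hab]

/-- If `N` is faithfully flat over `B` and `N ⊗[B] G` is flat over `A`, then `G` is flat over
`A`. -/
theorem flat_of_flat_tensor_faithfullyFlat [Module.FaithfullyFlat B N]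
    [Module.Flat A (N ⊗[B] G)] : Module.Flat A G := by
  rw [Module.Flat.iff_lTensor_preserves_injective_linearMap]
  intro P Q _ _ _ _ v hv
  let gu : G ⊗[A] P →ₗ[B] G ⊗[A] Q := AlgebraTensorModule.lTensor B G v
  suffices h : Function.Injective gu from h
  rw [← Module.FaithfullyFlat.lTensor_injective_iff_injective B N gu]
  have hnat : ∀ z : (N ⊗[B] G) ⊗[A] P,
      AlgebraTensorModule.assoc A B B N G Q (v.lTensor (N ⊗[B] G) z) =
      gu.lTensor N (AlgebraTensorModule.assoc A B B N G P z) := by
    intro z
    induction z using TensorProduct.induction_on with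
    | zero => simp
    | tmul w p =>
      induction w using TensorProduct.induction_on with
      | zero => simp
      | tmul n g => simp [gu]
      | add a b ha hb => simp only [TensorProduct.add_tmul, map_add, ha, hb]
    | add a b ha hb => simp only [map_add, ha, hb]
  intro a b hab
  obtain ⟨a', rfl⟩ := (AlgebraTensorModule.assoc A B B N G P).surjective a
  obtain ⟨b', rfl⟩ := (AlgebraTensorModule.assoc A B B N G P).surjective b
  rw [← hnat, ← hnat] at hab
  have h2 := Module.Flat.lTensor_preserves_injective_linearMap (M := N ⊗[B] G) v hv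
    ((AlgebraTensorModule.assoc A B B N G Q).injective hab)
  rw [h2]

/-- `(A/I) ⊗ (N ⊗[B] G) = 0` iff `N ⊗[B] (G ⊗ A/I) = 0`. -/
theorem subsingleton_quot_tensor_iff (I : Ideal A) :
    Subsingleton ((A ⧸ I) ⊗[A] (N ⊗[B] G)) ↔ Subsingleton (N ⊗[B] (G ⊗[A] (A ⧸ I))) :=
  ((TensorProduct.comm A (A ⧸ I) (N ⊗[B] G)).toEquiv.trans
    (AlgebraTensorModule.assoc A B B N G (A ⧸ I)).toEquiv).subsingleton_congr

/-- If `I G = G` then `I (N ⊗[B] G) = N ⊗[B] G`. -/
theorem smul_top_tensor_eq_top (I : Ideal A) (h : I • (⊤ : Submodule A G) = ⊤) :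
    I • (⊤ : Submodule A (N ⊗[B] G)) = ⊤ := by
  rw [smul_top_eq_top_iff_subsingleton] at h ⊢
  rw [subsingleton_quot_tensor_iff]
  haveI : Subsingleton (G ⊗[A] (A ⧸ I)) :=
    (TensorProduct.comm A G (A ⧸ I)).toEquiv.subsingleton_congr.mpr h
  infer_instance

/-- If `N` is faithfully flat over `B` and `I (N ⊗[B] G) = N ⊗[B] G` then `I G = G`. -/
theorem smul_top_eq_top_of_tensor [Module.FaithfullyFlat B N] (I : Ideal A)
    (h : I • (⊤ : Submodule A (N ⊗[B] G)) = ⊤) : I • (⊤ : Submodule A G) = ⊤ := by
  rw [smul_top_eq_top_iff_subsingleton] at h ⊢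
  rw [subsingleton_quot_tensor_iff] at h
  haveI := h
  haveI : Subsingleton (G ⊗[A] (A ⧸ I)) :=
    Module.FaithfullyFlat.lTensor_reflects_triviality B N (G ⊗[A] (A ⧸ I))
  exact (TensorProduct.comm A G (A ⧸ I)).toEquiv.subsingleton_congr.mp inferInstance

/-- Transport of `I M = M` along a linear equivalence. -/
theorem smul_top_eq_top_of_linearEquiv {M₁ M₂ : Type u} [AddCommGroup M₁] [Module A M₁]
    [AddCommGroup M₂] [Module A M₂] (e : M₁ ≃ₗ[A] M₂) (I : Ideal A)
    (h : I • (⊤ : Submodule A M₁) = ⊤) : I • (⊤ : Submodule A M₂) = ⊤ := by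
  rw [smul_top_eq_top_iff_subsingleton] at h ⊢
  exact (TensorProduct.congr (LinearEquiv.refl A (A ⧸ I)) e).toEquiv.subsingleton_congr.mp h

end Ring

section Sch

variable {X Y Y' Z : Scheme.{u}}

set_option maxHeartbeats 6400000 in
/-- Pointwise comparison between `G'` at `q x'` and `p^*F ⊗ q^*G'` at `x'` over `Z`, when `F` is
flat over `Y` at `p x'`; part (ii) assumes that the fibre of `p^*F` at `x'` does not vanish. -/
theorem pointwise (f : X ⟶ Y) (g : Y' ⟶ Y) (h : Y' ⟶ Z) (F : X.Modules) (hF : Coh.IsQCoh F)
    (G' : Y'.Modules) (hG' : Coh.IsQCoh G') (x' : ↥(pullback f g))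
    (hFx : FlatMod.IsFlatOverAt f F (pullback.fst f g x')) :
    ((letI := FlatMod.moduleStalkOver (pullback.snd f g ≫ h) (CohB1.tensorMod ((Scheme.Modules.pullback (pullback.fst f g)).obj F)
        ((Scheme.Modules.pullback (pullback.snd f g)).obj G')) x';
        IsLocalRing.maximalIdeal (Z.presheaf.stalk ((pullback.snd f g ≫ h) x')) •
          (⊤ : Submodule (Z.presheaf.stalk ((pullback.snd f g ≫ h) x')) ((CohB1.tensorMod ((Scheme.Modules.pullback (pullback.fst f g)).obj F)
        ((Scheme.Modules.pullback (pullback.snd f g)).obj G')).presheaf.stalk x')) ≠ ⊤) →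
      (letI := FlatMod.moduleStalkOver h G' (pullback.snd f g x');
        IsLocalRing.maximalIdeal (Z.presheaf.stalk (h (pullback.snd f g x'))) •
          (⊤ : Submodule (Z.presheaf.stalk (h (pullback.snd f g x'))) (G'.presheaf.stalk (pullback.snd f g x'))) ≠ ⊤)) ∧
    ((letI := FlatMod.moduleStalkOver (pullback.snd f g)
          ((Scheme.Modules.pullback (pullback.fst f g)).obj F) x';
        IsLocalRing.maximalIdeal (Y'.presheaf.stalk (pullback.snd f g x')) •
          (⊤ : Submodule (Y'.presheaf.stalk (pullback.snd f g x')) (((Scheme.Modules.pullback (pullback.fst f g)).obj F).presheaf.stalk x')) ≠ ⊤) →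
      (FlatMod.IsFlatOverAt (pullback.snd f g ≫ h) (CohB1.tensorMod ((Scheme.Modules.pullback (pullback.fst f g)).obj F)
        ((Scheme.Modules.pullback (pullback.snd f g)).obj G')) x' →
        FlatMod.IsFlatOverAt h G' (pullback.snd f g x')) ∧
      ((letI := FlatMod.moduleStalkOver h G' (pullback.snd f g x');
        IsLocalRing.maximalIdeal (Z.presheaf.stalk (h (pullback.snd f g x'))) •
          (⊤ : Submodule (Z.presheaf.stalk (h (pullback.snd f g x'))) (G'.presheaf.stalk (pullback.snd f g x'))) ≠ ⊤) →
        (letI := FlatMod.moduleStalkOver (pullback.snd f g ≫ h) (CohB1.tensorMod ((Scheme.Modules.pullback (pullback.fst f g)).obj F)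
        ((Scheme.Modules.pullback (pullback.snd f g)).obj G')) x';
        IsLocalRing.maximalIdeal (Z.presheaf.stalk ((pullback.snd f g ≫ h) x')) •
          (⊤ : Submodule (Z.presheaf.stalk ((pullback.snd f g ≫ h) x')) ((CohB1.tensorMod ((Scheme.Modules.pullback (pullback.fst f g)).obj F)
        ((Scheme.Modules.pullback (pullback.snd f g)).obj G')).presheaf.stalk x')) ≠ ⊤))) := by
  haveI : F.IsQuasicoherent := hF
  haveI : G'.IsQuasicoherent := hG'
  have hc : IsPullback (pullback.fst f g) (pullback.snd f g) f g := IsPullback.of_hasPullback f g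
  have hP : FlatMod.IsFlatOverAt (pullback.snd f g)
      ((Scheme.Modules.pullback (pullback.fst f g)).obj F) x' :=
    Groth.Agent.S1391.result f (pullback.snd f g) (pullback.fst f g) g hc F hF x' hFx
  obtain ⟨E1⟩ := Groth.Agent.H8.nonempty_stalk_tensorMod_equiv
    ((Scheme.Modules.pullback (pullback.fst f g)).obj F)
    ((Scheme.Modules.pullback (pullback.snd f g)).obj G') x'
  obtain ⟨E2⟩ := Groth.Agent.H8.nonempty_stalk_pullback_equiv (pullback.snd f g) G' x'
  letI aB'C' : Algebra (Y'.presheaf.stalk (pullback.snd f g x')) ((pullback f g).presheaf.stalk x') := ((pullback.snd f g).stalkMap x').hom.toAlgebra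
  letI aAB' : Algebra (Z.presheaf.stalk (h (pullback.snd f g x'))) (Y'.presheaf.stalk (pullback.snd f g x')) := (h.stalkMap (pullback.snd f g x')).hom.toAlgebra
  letI aAC' : Algebra (Z.presheaf.stalk (h (pullback.snd f g x'))) ((pullback f g).presheaf.stalk x') :=
    (((pullback.snd f g).stalkMap x').hom.comp (h.stalkMap (pullback.snd f g x')).hom).toAlgebra
  haveI : IsScalarTower (Z.presheaf.stalk (h (pullback.snd f g x'))) (Y'.presheaf.stalk (pullback.snd f g x')) ((pullback f g).presheaf.stalk x') := IsScalarTower.of_algebraMap_eq fun _ => rfl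
  letI mB'N : Module (Y'.presheaf.stalk (pullback.snd f g x')) (((Scheme.Modules.pullback (pullback.fst f g)).obj F).presheaf.stalk x') := FlatMod.moduleStalkOver (pullback.snd f g) _ x'
  haveI : IsScalarTower (Y'.presheaf.stalk (pullback.snd f g x')) ((pullback f g).presheaf.stalk x') (((Scheme.Modules.pullback (pullback.fst f g)).obj F).presheaf.stalk x') := IsScalarTower.of_algebraMap_smul fun r m => rfl
  haveI : Module.Flat (Y'.presheaf.stalk (pullback.snd f g x')) (((Scheme.Modules.pullback (pullback.fst f g)).obj F).presheaf.stalk x') := hP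
  letI mAN : Module (Z.presheaf.stalk (h (pullback.snd f g x'))) (((Scheme.Modules.pullback (pullback.fst f g)).obj F).presheaf.stalk x') := Module.compHom _ (algebraMap (Z.presheaf.stalk (h (pullback.snd f g x'))) ((pullback f g).presheaf.stalk x'))
  haveI : IsScalarTower (Z.presheaf.stalk (h (pullback.snd f g x'))) (Y'.presheaf.stalk (pullback.snd f g x')) (((Scheme.Modules.pullback (pullback.fst f g)).obj F).presheaf.stalk x') := IsScalarTower.of_algebraMap_smul fun r m => rfl
  haveI : IsScalarTower (Z.presheaf.stalk (h (pullback.snd f g x'))) ((pullback f g).presheaf.stalk x') (((Scheme.Modules.pullback (pullback.fst f g)).obj F).presheaf.stalk x') := IsScalarTower.of_algebraMap_smul fun r m => rfl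
  letI mAG : Module (Z.presheaf.stalk (h (pullback.snd f g x'))) (G'.presheaf.stalk (pullback.snd f g x')) := FlatMod.moduleStalkOver h G' (pullback.snd f g x')
  haveI : IsScalarTower (Z.presheaf.stalk (h (pullback.snd f g x'))) (Y'.presheaf.stalk (pullback.snd f g x')) (G'.presheaf.stalk (pullback.snd f g x')) := IsScalarTower.of_algebraMap_smul fun r m => rfl
  let Etot := E1 ≪≫ₗ
    (TensorProduct.congr (LinearEquiv.refl ((pullback f g).presheaf.stalk x') (((Scheme.Modules.pullback (pullback.fst f g)).obj F).presheaf.stalk x')) E2) ≪≫ₗ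
    (TensorProduct.AlgebraTensorModule.cancelBaseChange (Y'.presheaf.stalk (pullback.snd f g x')) ((pullback f g).presheaf.stalk x') ((pullback f g).presheaf.stalk x') (((Scheme.Modules.pullback (pullback.fst f g)).obj F).presheaf.stalk x') (G'.presheaf.stalk (pullback.snd f g x')))
  letI mAT : Module (Z.presheaf.stalk (h (pullback.snd f g x'))) ((CohB1.tensorMod ((Scheme.Modules.pullback (pullback.fst f g)).obj F)
        ((Scheme.Modules.pullback (pullback.snd f g)).obj G')).presheaf.stalk x') := Module.compHom _ (algebraMap (Z.presheaf.stalk (h (pullback.snd f g x'))) ((pullback f g).presheaf.stalk x'))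
  haveI : IsScalarTower (Z.presheaf.stalk (h (pullback.snd f g x'))) ((pullback f g).presheaf.stalk x') ((CohB1.tensorMod ((Scheme.Modules.pullback (pullback.fst f g)).obj F)
        ((Scheme.Modules.pullback (pullback.snd f g)).obj G')).presheaf.stalk x') := IsScalarTower.of_algebraMap_smul fun r m => rfl
  let EA := Etot.restrictScalars (Z.presheaf.stalk (h (pullback.snd f g x')))
  have hcomp : ((pullback.snd f g ≫ h).stalkMap x').hom =
      ((pullback.snd f g).stalkMap x').hom.comp (h.stalkMap (pullback.snd f g x')).hom :=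
    Groth.Agent.H49.FibreCrit.stalkMap_comp_hom' (pullback.snd f g) h x'
  refine ⟨?_, ?_⟩
  · intro hPT
    have hPT' := (smul_top_ne_top_congr (M := ((CohB1.tensorMod ((Scheme.Modules.pullback (pullback.fst f g)).obj F)
        ((Scheme.Modules.pullback (pullback.snd f g)).obj G')).presheaf.stalk x')) _ _ hcomp
      (IsLocalRing.maximalIdeal (Z.presheaf.stalk (h (pullback.snd f g x'))))).mp hPT
    intro hG
    apply hPT'
    exact smul_top_eq_top_of_linearEquiv EA.symm _
      (smul_top_tensor_eq_top (B := (Y'.presheaf.stalk (pullback.snd f g x'))) (N := (((Scheme.Modules.pullback (pullback.fst f g)).obj F).presheaf.stalk x')) _ hG)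
  · intro hne
    haveI : Module.FaithfullyFlat (Y'.presheaf.stalk (pullback.snd f g x')) (((Scheme.Modules.pullback (pullback.fst f g)).obj F).presheaf.stalk x') :=
      ⟨fun m hm => by rw [IsLocalRing.eq_maximalIdeal hm]; exact hne⟩
    refine ⟨?_, ?_⟩
    · intro hT
      have hT' : Module.Flat (Z.presheaf.stalk (h (pullback.snd f g x'))) ((CohB1.tensorMod ((Scheme.Modules.pullback (pullback.fst f g)).obj F)
        ((Scheme.Modules.pullback (pullback.snd f g)).obj G')).presheaf.stalk x') :=
        (flat_compHom_congr (M := ((CohB1.tensorMod ((Scheme.Modules.pullback (pullback.fst f g)).obj F)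
        ((Scheme.Modules.pullback (pullback.snd f g)).obj G')).presheaf.stalk x')) _ _ hcomp).mp hT
      haveI : Module.Flat (Z.presheaf.stalk (h (pullback.snd f g x'))) (TensorProduct (Y'.presheaf.stalk (pullback.snd f g x')) (((Scheme.Modules.pullback (pullback.fst f g)).obj F).presheaf.stalk x') (G'.presheaf.stalk (pullback.snd f g x'))) :=
        Module.Flat.of_linearEquiv EA.symm
      exact flat_of_flat_tensor_faithfullyFlat (B := (Y'.presheaf.stalk (pullback.snd f g x'))) (N := (((Scheme.Modules.pullback (pullback.fst f g)).obj F).presheaf.stalk x'))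
    · intro hPG
      refine (smul_top_ne_top_congr (M := ((CohB1.tensorMod ((Scheme.Modules.pullback (pullback.fst f g)).obj F)
        ((Scheme.Modules.pullback (pullback.snd f g)).obj G')).presheaf.stalk x')) _ _ hcomp
        (IsLocalRing.maximalIdeal (Z.presheaf.stalk (h (pullback.snd f g x'))))).mpr ?_
      intro hT
      apply hPG
      exact smul_top_eq_top_of_tensor (B := (Y'.presheaf.stalk (pullback.snd f g x'))) (N := (((Scheme.Modules.pullback (pullback.fst f g)).obj F).presheaf.stalk x')) _
        (smul_top_eq_top_of_linearEquiv EA _ hT)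

end Sch

end Groth.Agent.H57.FFRel
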