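import Mathlib
import Groth.Agent.H57.FPKer

/-! Kernels of surjections between finitely presented modules onto a module flat over the base
are finitely presented (EGA IV 11.3.9.1, ring form; helper57). -/

set_option autoImplicit false

universe u

open TensorProduct

namespace Groth.Agent.H57.FPKer

/-- Schanuel-type comparison: if one finite free cover of `H` has finitely presented kernel, so has
every other. -/
theorem fp_ker_of_fp_ker {B H : Type u} [CommRing B] [AddCommGroup H] [Module B H] {n m : ℕ}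
    (π : (Fin n → B) →ₗ[B] H) (hπ : Function.Surjective π)
    [Module.FinitePresentation B (LinearMap.ker π)]
    (ρ : (Fin m → B) →ₗ[B] H) (hρ : Function.Surjective ρ) :
    Module.FinitePresentation B (LinearMap.ker ρ) := by
  obtain ⟨α, hα⟩ := Module.projective_lifting_property π ρ hπ
  obtain ⟨β, hβ⟩ := Module.projective_lifting_property ρ π hρ
  have hα' : ∀ y, π (α y) = ρ y := fun y => by rw [← hα]; rfl
  have hβ' : ∀ x, ρ (β x) = π x := fun x => by rw [← hβ]; rfl
  -- the map `(k, y) ↦ y + β (k - α y)` from `ker π × B^m` onto `ker ρ`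
  let φ₀ : (LinearMap.ker π × (Fin m → B)) →ₗ[B] (Fin m → B) :=
    LinearMap.snd B _ _ + β ∘ₗ ((LinearMap.ker π).subtype ∘ₗ LinearMap.fst B _ _ -
      α ∘ₗ LinearMap.snd B _ _)
  have hφ₀ : ∀ z, φ₀ z = z.2 + β ((z.1 : Fin n → B) - α z.2) := fun z => rfl
  have hmem : ∀ z, φ₀ z ∈ LinearMap.ker ρ := by
    intro z
    rw [LinearMap.mem_ker, hφ₀, map_add, hβ', map_sub, hα']
    have : π (z.1 : Fin n → B) = 0 := z.1.2
    rw [this, zero_sub, add_neg_cancel]
  let φ : (LinearMap.ker π × (Fin m → B)) →ₗ[B] LinearMap.ker ρ :=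
    φ₀.codRestrict (LinearMap.ker ρ) hmem
  have hφsurj : Function.Surjective φ := by
    rintro ⟨y, hy⟩
    have hy' : ρ y = 0 := hy
    have hk : α y ∈ LinearMap.ker π := by
      rw [LinearMap.mem_ker, hα', hy']
    refine ⟨(⟨α y, hk⟩, y), Subtype.ext ?_⟩
    show φ₀ (⟨α y, hk⟩, y) = y
    rw [hφ₀]
    simp
  -- the kernel of `φ` is the image of `x ↦ (x - α (β x), - β x)`
  have hx : ∀ x : Fin n → B, x - α (β x) ∈ LinearMap.ker π := by
    intro x
    rw [LinearMap.mem_ker, map_sub, hα', hβ', sub_self]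
  let ψ : (Fin n → B) →ₗ[B] (LinearMap.ker π × (Fin m → B)) :=
    LinearMap.prod ((LinearMap.id - α ∘ₗ β).codRestrict (LinearMap.ker π) hx) (-β)
  have hker : LinearMap.ker φ ≤ LinearMap.range ψ := by
    rintro ⟨k, y⟩ hz
    have hz' : y + β ((k : Fin n → B) - α y) = 0 := by
      have := congrArg Subtype.val (LinearMap.mem_ker.mp hz)
      exact this
    have hy : y = -β ((k : Fin n → B) - α y) := eq_neg_of_add_eq_zero_left hz'
    refine ⟨(k : Fin n → B) - α y, ?_⟩
    refine Prod.ext (Subtype.ext ?_) ?_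
    · show ((k : Fin n → B) - α y) - α (β ((k : Fin n → B) - α y)) = k
      have hb : β ((k : Fin n → B) - α y) = -y := eq_neg_of_add_eq_zero_right hz'
      rw [hb, map_neg]
      abel
    · show -β ((k : Fin n → B) - α y) = y
      exact hy.symm
  have hfg : (LinearMap.ker φ).FG := by
    have hle : LinearMap.range ψ ≤ LinearMap.ker φ := by
      rintro _ ⟨x, rfl⟩
      rw [LinearMap.mem_ker]
      refine Subtype.ext ?_
      show φ₀ (ψ x) = 0
      rw [hφ₀]
      show -β x + β ((x - α (β x)) - α (-β x)) = 0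
      rw [map_neg, sub_neg_eq_add, sub_add_cancel, neg_add_cancel]
    rw [le_antisymm hker hle]
    exact Submodule.fg_range _
  exact Module.finitePresentation_of_surjective φ hφsurj hfg

/-- **EGA IV 11.3.9.1, ring form.** -/
theorem fp_ker_of_flat (A B G H : Type u) [CommRing A] [CommRing B] [Algebra A B]
    [Algebra.FinitePresentation A B] [AddCommGroup G] [Module B G] [Module.FinitePresentation B G]
    [AddCommGroup H] [Module B H] [Module A H] [IsScalarTower A B H]
    [Module.FinitePresentation B H] [Module.Flat A H] (p : G →ₗ[B] H)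
    (hp : Function.Surjective p) : Module.FinitePresentation B (LinearMap.ker p) := by
  obtain ⟨n, π, hπ, hfp⟩ := exists_surjective_ker_fp A B H
  haveI := hfp
  obtain ⟨m, γ, hγ⟩ := Module.Finite.exists_fin' B G
  have hγfg : (LinearMap.ker γ).FG := Module.FinitePresentation.fg_ker γ hγ
  haveI : Module.FinitePresentation B (LinearMap.ker (p ∘ₗ γ)) :=
    fp_ker_of_fp_ker π hπ (p ∘ₗ γ) (hp.comp hγ)
  let θ : LinearMap.ker (p ∘ₗ γ) →ₗ[B] LinearMap.ker p :=
    (γ ∘ₗ (LinearMap.ker (p ∘ₗ γ)).subtype).codRestrict (LinearMap.ker p) (fun y => y.2)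
  have hθsurj : Function.Surjective θ := by
    rintro ⟨g, hg⟩
    obtain ⟨y, rfl⟩ := hγ g
    exact ⟨⟨y, hg⟩, rfl⟩
  have hθker : (LinearMap.ker θ).FG := by
    have hle : LinearMap.ker γ ≤ LinearMap.ker (p ∘ₗ γ) := by
      intro y hy
      rw [LinearMap.mem_ker] at hy ⊢
      rw [LinearMap.comp_apply, hy, map_zero]
    have hrange : LinearMap.ker θ = LinearMap.range (Submodule.inclusion hle) := by
      ext y
      constructor
      · intro h
        have h' : γ y.1 = 0 := congrArg Subtype.val (LinearMap.mem_ker.mp h)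
        exact ⟨⟨y.1, h'⟩, Subtype.ext rfl⟩
      · rintro ⟨z, rfl⟩
        rw [LinearMap.mem_ker]
        exact Subtype.ext z.2
    haveI : Module.Finite B (LinearMap.ker γ) := Module.Finite.of_fg hγfg
    rw [hrange]
    exact Submodule.fg_range _
  exact Module.finitePresentation_of_surjective θ hθsurj hθker

end Groth.Agent.H57.FPKer
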