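import Mathlib
import Groth.Agent.H57.FibPD
import Groth.Agent.H57.FPKer
import Groth.Agent.H82.TorFlat

/-! Projective dimension and fibres (EGA IV 11.3.13 flavour), homological assembly (helper57). -/

set_option autoImplicit false

universe u

open TensorProduct CategoryTheory CategoryTheory.Limits

namespace Groth.Agent.H57.FibPD

theorem subsingleton_tensor_right {B : Type u} [CommRing B] (C M : Type u) [AddCommGroup C]
    [Module B C] [AddCommGroup M] [Module B M] [Subsingleton M] : Subsingleton (C ⊗[B] M) := by
  have h0 : ∀ z : C ⊗[B] M, z = 0 := fun z => by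
    induction z using TensorProduct.induction_on with
    | zero => rfl
    | tmul c m => rw [Subsingleton.elim m 0, TensorProduct.tmul_zero]
    | add a b ha hb => rw [ha, hb, add_zero]
  exact ⟨fun x y => by rw [h0 x, h0 y]⟩

section Shift

variable {B : Type u} [CommRing B] {M : Type u} [AddCommGroup M] [Module B M] {n : ℕ}
  (π : (Fin n → B) →ₗ[B] M) (hπ : Function.Surjective π)

include hπ in
theorem pdlt_iff_ker (j : ℕ) :
    HasProjectiveDimensionLT (ModuleCat.of B M) (j + 2) ↔
      HasProjectiveDimensionLT (ModuleCat.of B (LinearMap.ker π)) (j + 1) := by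
  have hS := Groth.Agent.H82.TorFlat.shortExact_of (A := B) (LinearMap.ker π).subtype π
    (Submodule.injective_subtype _) hπ (LinearMap.exact_subtype_ker_map π)
  have hP : Projective (ModuleCat.of B (Fin n → B)) :=
    (IsProjective.iff_projective (R := B) (Fin n → B)).1 inferInstance
  exact hS.hasProjectiveDimensionLT_X₃_iff j hP

include hπ in
theorem pdlt_baseChange_iff_ker (C : Type u) [CommRing C] [Algebra B C]
    (hinj : Function.Injective ((LinearMap.ker π).subtype.lTensor C)) (j : ℕ) :
    HasProjectiveDimensionLT (ModuleCat.of C (C ⊗[B] M)) (j + 2) ↔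
      HasProjectiveDimensionLT (ModuleCat.of C (C ⊗[B] (LinearMap.ker π))) (j + 1) := by
  have h1 : Function.Injective ((LinearMap.ker π).subtype.baseChange C) := by
    rw [LinearMap.baseChange_eq_ltensor]
    exact hinj
  have h2 : Function.Surjective (π.baseChange C) := by
    rw [LinearMap.baseChange_eq_ltensor]
    exact LinearMap.lTensor_surjective C hπ
  have h3 : Function.Exact ((LinearMap.ker π).subtype.baseChange C) (π.baseChange C) :=
    lTensor_exact C (LinearMap.exact_subtype_ker_map π) hπ
  have hS := Groth.Agent.H82.TorFlat.shortExact_of (A := C)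
    ((LinearMap.ker π).subtype.baseChange C) (π.baseChange C) h1 h2 h3
  have hP : Projective (ModuleCat.of C (C ⊗[B] (Fin n → B))) :=
    (IsProjective.iff_projective (R := C) (C ⊗[B] (Fin n → B))).1 inferInstance
  exact hS.hasProjectiveDimensionLT_X₃_iff j hP

end Shift

section Fib

attribute [local instance] Algebra.TensorProduct.rightAlgebra in
theorem fibre_lTensor_injective (A : Type u) {B : Type u} [CommRing A] [CommRing B] [Algebra A B]
    (p : Ideal A) [p.IsPrime] {M : Type u} [AddCommGroup M] [Module B M] [Module A M]
    [IsScalarTower A B M] [Module.Flat A M] {n : ℕ} (π : (Fin n → B) →ₗ[B] M)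
    (hπ : Function.Surjective π) :
    Function.Injective ((LinearMap.ker π).subtype.lTensor (B ⊗[A] p.ResidueField)) :=
  Groth.Agent.H57.FPKer.lTensor_subtype_injective (R₀ := A) (R := p.ResidueField) (S₀ := B)
    (S := B ⊗[A] p.ResidueField) π hπ

variable (A B : Type u) [CommRing A] [CommRing B] [Algebra A B]
  [Algebra.FinitePresentation A B] [Module.Flat A B]

/-- projective dimension does not increase under a base change which is Tor-independent of all
finitely presented `A`-flat modules. -/
theorem pdlt_baseChange (C : Type u) [CommRing C] [Algebra B C]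
    (hC : ∀ (M : Type u) [AddCommGroup M] [Module B M] [Module A M] [IsScalarTower A B M]
      [Module.Flat A M] (n : ℕ) (π : (Fin n → B) →ₗ[B] M), Function.Surjective π →
      Function.Injective ((LinearMap.ker π).subtype.lTensor C)) :
    ∀ (k : ℕ) (M : Type u) [AddCommGroup M] [Module B M] [Module A M] [IsScalarTower A B M]
      [Module.FinitePresentation B M] [Module.Flat A M],
      HasProjectiveDimensionLT (ModuleCat.of B M) k →
        HasProjectiveDimensionLT (ModuleCat.of C (C ⊗[B] M)) k := by
  intro k
  cases k with
  | zero =>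
    intro M _ _ _ _ _ _ h
    have hz : IsZero (ModuleCat.of B M) := (hasProjectiveDimensionLT_zero_iff_isZero _).1 h
    haveI : Subsingleton M := ModuleCat.subsingleton_of_isZero hz
    haveI : Subsingleton (C ⊗[B] M) := subsingleton_tensor_right C M
    exact (ModuleCat.isZero_of_subsingleton _).hasProjectiveDimensionLT_zero
  | succ k =>
    induction k with
    | zero =>
      intro M _ _ _ _ _ _ h
      haveI : Projective (ModuleCat.of B M) := projective_iff_hasProjectiveDimensionLT_one.2 h
      haveI : Module.Projective B M := (IsProjective.iff_projective (R := B) M).2 inferInstance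
      haveI : Projective (ModuleCat.of C (C ⊗[B] M)) :=
        (IsProjective.iff_projective (R := C) (C ⊗[B] M)).1 inferInstance
      infer_instance
    | succ k ih =>
      intro M _ _ _ _ _ _ h
      obtain ⟨n, π, hπ, hfp⟩ := Groth.Agent.H57.FPKer.exists_surjective_ker_fp A B M
      haveI := hfp
      haveI : Module.Flat A (LinearMap.ker π) := Groth.Agent.H57.FPKer.flat_ker π hπ
      rw [pdlt_baseChange_iff_ker π hπ C (hC M n π hπ) k]
      exact ih (LinearMap.ker π) ((pdlt_iff_ker π hπ k).1 h)

/-- projective dimension is bounded by the projective dimensions of the fibres. -/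
theorem pdlt_of_fibres :
    ∀ (k : ℕ) (M : Type u) [AddCommGroup M] [Module B M] [Module A M] [IsScalarTower A B M]
      [Module.FinitePresentation B M] [Module.Flat A M],
      (∀ p : PrimeSpectrum A, HasProjectiveDimensionLT
        (ModuleCat.of (B ⊗[A] p.asIdeal.ResidueField)
          ((B ⊗[A] p.asIdeal.ResidueField) ⊗[B] M)) k) →
      HasProjectiveDimensionLT (ModuleCat.of B M) k := by
  intro k
  cases k with
  | zero =>
    intro M _ _ _ _ _ _ h
    haveI : Subsingleton M := subsingleton_of_fibres A B M (fun p =>
      ModuleCat.subsingleton_of_isZero ((hasProjectiveDimensionLT_zero_iff_isZero _).1 (h p)))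
    exact (ModuleCat.isZero_of_subsingleton _).hasProjectiveDimensionLT_zero
  | succ k =>
    induction k with
    | zero =>
      intro M _ _ _ _ _ _ h
      haveI : Module.Projective B M := projective_of_fibres A B M (fun p => by
        haveI : Projective (ModuleCat.of (B ⊗[A] p.asIdeal.ResidueField)
            ((B ⊗[A] p.asIdeal.ResidueField) ⊗[B] M)) :=
          projective_iff_hasProjectiveDimensionLT_one.2 (h p)
        exact (IsProjective.iff_projective (R := B ⊗[A] p.asIdeal.ResidueField)
          ((B ⊗[A] p.asIdeal.ResidueField) ⊗[B] M)).2 inferInstance)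
      haveI : Projective (ModuleCat.of B M) :=
        (IsProjective.iff_projective (R := B) M).1 inferInstance
      infer_instance
    | succ k ih =>
      intro M _ _ _ _ _ _ h
      obtain ⟨n, π, hπ, hfp⟩ := Groth.Agent.H57.FPKer.exists_surjective_ker_fp A B M
      haveI := hfp
      haveI : Module.Flat A (LinearMap.ker π) := Groth.Agent.H57.FPKer.flat_ker π hπ
      rw [pdlt_iff_ker π hπ k]
      apply ih (LinearMap.ker π)
      intro p
      exact (pdlt_baseChange_iff_ker π hπ (B ⊗[A] p.asIdeal.ResidueField)
        (fibre_lTensor_injective A p.asIdeal π hπ) k).1 (h p)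

/-- `pd_B M < k` iff all fibres have `pd < k`. -/
theorem pdlt_iff_fibres (k : ℕ) (M : Type u) [AddCommGroup M] [Module B M] [Module A M]
    [IsScalarTower A B M] [Module.FinitePresentation B M] [Module.Flat A M] :
    HasProjectiveDimensionLT (ModuleCat.of B M) k ↔
      ∀ p : PrimeSpectrum A, HasProjectiveDimensionLT
        (ModuleCat.of (B ⊗[A] p.asIdeal.ResidueField)
          ((B ⊗[A] p.asIdeal.ResidueField) ⊗[B] M)) k :=
  ⟨fun h p => pdlt_baseChange A B (B ⊗[A] p.asIdeal.ResidueField)
    (fun _ _ _ _ _ _ _ π hπ => fibre_lTensor_injective A p.asIdeal π hπ) k M h,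
    pdlt_of_fibres A B k M⟩

end Fib

end Groth.Agent.H57.FibPD
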