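import Mathlib
import Groth.Agent.H57.FibPD2

/-! Projective dimension of the fibre stalks `B_P / p B_P ⊗ M` is upper semicontinuous (helper57). -/

set_option autoImplicit false

universe u

open TensorProduct CategoryTheory CategoryTheory.Limits

namespace Groth.Agent.H57.FibPD

section Quot

variable (A : Type u) {B : Type u} [CommRing A] [CommRing B] [Algebra A B]
  (M : Type u) [AddCommGroup M] [Module B M] (q : Ideal B) [q.IsPrime]

/-- `(B_q / p B_q) ⊗[B_q] M_q ≃ (B_q / p B_q) ⊗[B] M`. -/
noncomputable def quotEquiv :
    (Localization.AtPrime q ⧸ locI A q) ⊗[Localization.AtPrime q] LocalizedModule q.primeCompl M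
      ≃ₗ[Localization.AtPrime q ⧸ locI A q] (Localization.AtPrime q ⧸ locI A q) ⊗[B] M :=
  (AlgebraTensorModule.congr (LinearEquiv.refl (Localization.AtPrime q ⧸ locI A q)
      (Localization.AtPrime q ⧸ locI A q))
      (LocalizedModule.equivTensorProduct q.primeCompl M)) ≪≫ₗ
    AlgebraTensorModule.cancelBaseChange B (Localization.AtPrime q)
      (Localization.AtPrime q ⧸ locI A q) (Localization.AtPrime q ⧸ locI A q) M

variable [Module A M] [IsScalarTower A B M]

theorem quot_subsingleton_iff [Module.FinitePresentation B M] :
    Subsingleton ((Localization.AtPrime q ⧸ locI A q) ⊗[B] M) ↔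
      Subsingleton (LocalizedModule q.primeCompl M) := by
  constructor
  · intro h
    apply subsingleton_localizedModule_of_quot A M q
    exact (quotEquiv A M q).injective.subsingleton
  · intro h
    haveI := h
    haveI : Subsingleton ((Localization.AtPrime q ⧸ locI A q) ⊗[Localization.AtPrime q]
        LocalizedModule q.primeCompl M) := subsingleton_tensor_right _ _
    exact (quotEquiv A M q).symm.injective.subsingleton

theorem quot_projective_iff [Module.FinitePresentation B M] [Module.Flat A M] :
    Module.Projective (Localization.AtPrime q ⧸ locI A q)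
        ((Localization.AtPrime q ⧸ locI A q) ⊗[B] M) ↔
      Module.Free (Localization.AtPrime q) (LocalizedModule q.primeCompl M) := by
  constructor
  · intro h
    haveI := h
    haveI : Module.Flat (Localization.AtPrime q ⧸ locI A q)
        ((Localization.AtPrime q ⧸ locI A q) ⊗[Localization.AtPrime q]
          LocalizedModule q.primeCompl M) :=
      Module.Flat.of_linearEquiv (quotEquiv A M q)
    exact free_localizedModule_of_flat_quot A M q
  · intro h
    haveI := h
    exact Module.Projective.of_equiv (quotEquiv A M q)

set_option synthInstance.maxHeartbeats 400000 in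
set_option maxHeartbeats 1600000 in
/-- Tor-independence of `B_q / p B_q` with `A`-flat modules. -/
theorem quot_lTensor_injective [Module.Flat A M] {n : ℕ}
    (π : (Fin n → B) →ₗ[B] M) (hπ : Function.Surjective π) :
    Function.Injective
      ((LinearMap.ker π).subtype.lTensor (Localization.AtPrime q ⧸ locI A q)) := by
  have hιR : Function.Injective
      ((LinearMap.ker π).subtype.baseChange (Localization.AtPrime q)) := by
    rw [LinearMap.baseChange_eq_ltensor]
    exact Module.Flat.lTensor_preserves_injective_linearMap _ (Submodule.injective_subtype _)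
  have hexR : Function.Exact ((LinearMap.ker π).subtype.baseChange (Localization.AtPrime q))
      (π.baseChange (Localization.AtPrime q)) :=
    lTensor_exact (Localization.AtPrime q) (LinearMap.exact_subtype_ker_map π) hπ
  have hsurjR : Function.Surjective (π.baseChange (Localization.AtPrime q)) := by
    rw [LinearMap.baseChange_eq_ltensor]
    exact LinearMap.lTensor_surjective _ hπ
  haveI : Module.Flat A (LocalizedModule q.primeCompl M) := flat_localizedModule A M q
  haveI : Module.Flat A (Localization.AtPrime q ⊗[B] M) :=
    Module.Flat.of_linearEquiv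
      ((LocalizedModule.equivTensorProduct q.primeCompl M).restrictScalars A).symm
  have hinj : Function.Injective
      (LinearMap.rTensor (Localization.AtPrime q ⊗[B] M) (locI A q).subtype) :=
    rTensor_map_subtype_injective (A := A) (R := Localization.AtPrime q)
      (N := Localization.AtPrime q ⊗[B] M) (q.comap (algebraMap A B))
  have hbal : Function.Injective
      (((LinearMap.ker π).subtype.baseChange (Localization.AtPrime q)).lTensor
        (Localization.AtPrime q ⧸ locI A q)) :=
    lTensor_injective_of_exact_of_exact_of_rTensor_injective
      (f₁ := (locI A q).subtype) (f₂ := (locI A q).mkQ)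
      (LinearMap.exact_subtype_mkQ (locI A q)) (Submodule.mkQ_surjective _) hexR hsurjR hinj
      (Module.Flat.lTensor_preserves_injective_linearMap _ hιR)
  have hnat : ∀ z : (Localization.AtPrime q ⧸ locI A q) ⊗[Localization.AtPrime q]
      (Localization.AtPrime q ⊗[B] (LinearMap.ker π)),
      (LinearMap.ker π).subtype.lTensor (Localization.AtPrime q ⧸ locI A q)
        (AlgebraTensorModule.cancelBaseChange B (Localization.AtPrime q)
          (Localization.AtPrime q ⧸ locI A q) (Localization.AtPrime q ⧸ locI A q)
          (LinearMap.ker π) z) =
      AlgebraTensorModule.cancelBaseChange B (Localization.AtPrime q)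
          (Localization.AtPrime q ⧸ locI A q) (Localization.AtPrime q ⧸ locI A q)
          (Fin n → B)
        (((LinearMap.ker π).subtype.baseChange (Localization.AtPrime q)).lTensor
          (Localization.AtPrime q ⧸ locI A q) z) := by
    intro z
    induction z using TensorProduct.induction_on with
    | zero => simp
    | tmul c y =>
      induction y using TensorProduct.induction_on with
      | zero => simp
      | tmul r k => simp
      | add a b ha hb => simp only [TensorProduct.tmul_add, map_add, ha, hb]
    | add a b ha hb => simp only [map_add, ha, hb]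
  intro z₁ z₂ h
  obtain ⟨w₁, rfl⟩ := (AlgebraTensorModule.cancelBaseChange B (Localization.AtPrime q)
    (Localization.AtPrime q ⧸ locI A q) (Localization.AtPrime q ⧸ locI A q)
    (LinearMap.ker π)).surjective z₁
  obtain ⟨w₂, rfl⟩ := (AlgebraTensorModule.cancelBaseChange B (Localization.AtPrime q)
    (Localization.AtPrime q ⧸ locI A q) (Localization.AtPrime q ⧸ locI A q)
    (LinearMap.ker π)).surjective z₂
  rw [hnat, hnat] at h
  rw [hbal ((AlgebraTensorModule.cancelBaseChange B (Localization.AtPrime q)
    (Localization.AtPrime q ⧸ locI A q) (Localization.AtPrime q ⧸ locI A q)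
    (Fin n → B)).injective h)]

end Quot

section Open

variable (A B : Type u) [CommRing A] [CommRing B] [Algebra A B]
  [Algebra.FinitePresentation A B] [Module.Flat A B]

theorem isOpen_setOf_pdlt_quot :
    ∀ (k : ℕ) (M : Type u) [AddCommGroup M] [Module B M] [Module A M] [IsScalarTower A B M]
      [Module.FinitePresentation B M] [Module.Flat A M],
      IsOpen {P : PrimeSpectrum B | HasProjectiveDimensionLT
        (ModuleCat.of (Localization.AtPrime P.asIdeal ⧸ locI A P.asIdeal)
          ((Localization.AtPrime P.asIdeal ⧸ locI A P.asIdeal) ⊗[B] M)) k} := by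
  intro k
  cases k with
  | zero =>
    intro M _ _ _ _ _ _
    have hset : {P : PrimeSpectrum B | HasProjectiveDimensionLT
        (ModuleCat.of (Localization.AtPrime P.asIdeal ⧸ locI A P.asIdeal)
          ((Localization.AtPrime P.asIdeal ⧸ locI A P.asIdeal) ⊗[B] M)) 0} =
        (Module.support B M)ᶜ := by
      ext P
      rw [Set.mem_ofPred_eq, Set.mem_compl_iff, Module.notMem_support_iff,
        hasProjectiveDimensionLT_zero_iff_isZero, ModuleCat.isZero_iff_subsingleton]
      exact quot_subsingleton_iff A M P.asIdeal
    rw [hset, Module.support_eq_zeroLocus]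
    exact (PrimeSpectrum.isClosed_zeroLocus _).isOpen_compl
  | succ k =>
    induction k with
    | zero =>
      intro M _ _ _ _ _ _
      have hset : {P : PrimeSpectrum B | HasProjectiveDimensionLT
          (ModuleCat.of (Localization.AtPrime P.asIdeal ⧸ locI A P.asIdeal)
            ((Localization.AtPrime P.asIdeal ⧸ locI A P.asIdeal) ⊗[B] M)) (0 + 1)} =
          Module.freeLocus B M := by
        ext P
        rw [Set.mem_ofPred_eq, Module.mem_freeLocus, ← quot_projective_iff A M P.asIdeal,
          zero_add, ← projective_iff_hasProjectiveDimensionLT_one, ← IsProjective.iff_projective]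
      rw [hset]
      exact Module.isOpen_freeLocus
    | succ k ih =>
      intro M _ _ _ _ _ _
      obtain ⟨n, π, hπ, hfp⟩ := Groth.Agent.H57.FPKer.exists_surjective_ker_fp A B M
      haveI := hfp
      haveI : Module.Flat A (LinearMap.ker π) := Groth.Agent.H57.FPKer.flat_ker π hπ
      have hset : {P : PrimeSpectrum B | HasProjectiveDimensionLT
          (ModuleCat.of (Localization.AtPrime P.asIdeal ⧸ locI A P.asIdeal)
            ((Localization.AtPrime P.asIdeal ⧸ locI A P.asIdeal) ⊗[B] M)) (k + 1 + 1)} =
          {P : PrimeSpectrum B | HasProjectiveDimensionLT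
          (ModuleCat.of (Localization.AtPrime P.asIdeal ⧸ locI A P.asIdeal)
            ((Localization.AtPrime P.asIdeal ⧸ locI A P.asIdeal) ⊗[B] (LinearMap.ker π)))
            (k + 1)} := by
        ext P
        exact pdlt_baseChange_iff_ker π hπ _ (quot_lTensor_injective A M P.asIdeal π hπ) k
      rw [hset]
      exact ih (LinearMap.ker π)

theorem isOpen_setOf_pd_lt_quot (M : Type u) [AddCommGroup M] [Module B M] [Module A M]
    [IsScalarTower A B M] [Module.FinitePresentation B M] [Module.Flat A M]
    (y : WithBot ℕ∞) :
    IsOpen {P : PrimeSpectrum B | projectiveDimension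
        (ModuleCat.of (Localization.AtPrime P.asIdeal ⧸ locI A P.asIdeal)
          ((Localization.AtPrime P.asIdeal ⧸ locI A P.asIdeal) ⊗[B] M)) < y} := by
  have aux (n : ℕ) : IsOpen {P : PrimeSpectrum B | projectiveDimension
        (ModuleCat.of (Localization.AtPrime P.asIdeal ⧸ locI A P.asIdeal)
          ((Localization.AtPrime P.asIdeal ⧸ locI A P.asIdeal) ⊗[B] M)) < (n : WithBot ℕ∞)} := by
    simp only [projectiveDimension_lt_iff]
    exact isOpen_setOf_pdlt_quot A B n M
  induction y with
  | bot => simp
  | coe y =>
    induction y with
    | top =>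
      have hset : {P : PrimeSpectrum B | projectiveDimension
          (ModuleCat.of (Localization.AtPrime P.asIdeal ⧸ locI A P.asIdeal)
            ((Localization.AtPrime P.asIdeal ⧸ locI A P.asIdeal) ⊗[B] M)) <
            ((⊤ : ℕ∞) : WithBot ℕ∞)} =
          ⋃ n : ℕ, {P : PrimeSpectrum B | projectiveDimension
          (ModuleCat.of (Localization.AtPrime P.asIdeal ⧸ locI A P.asIdeal)
            ((Localization.AtPrime P.asIdeal ⧸ locI A P.asIdeal) ⊗[B] M)) <
            (n : WithBot ℕ∞)} := by
        ext P
        simp only [Set.mem_ofPred_eq, Set.mem_iUnion]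
        constructor
        · intro h
          have hne : projectiveDimension
              (ModuleCat.of (Localization.AtPrime P.asIdeal ⧸ locI A P.asIdeal)
              ((Localization.AtPrime P.asIdeal ⧸ locI A P.asIdeal) ⊗[B] M)) ≠ ⊤ := by
            intro h'
            rw [h'] at h
            exact lt_irrefl _ h
          obtain ⟨n, hn⟩ := (projectiveDimension_ne_top_iff _).1 hne
          exact ⟨n + 1, projectiveDimension_lt_iff.2 hn⟩
        · rintro ⟨n, hn⟩
          refine lt_of_lt_of_le hn ?_
          exact le_top
      rw [hset]
      exact isOpen_iUnion aux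
    | coe n => simpa using aux n

end Open

end Groth.Agent.H57.FibPD
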