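import Mathlib
import Groth.Agent.H57.FlatAtBC

/-!
# Flatness of a module at the primes above a closed set, along an integral ring map

`N` is a module over `C'`, hence over `B'` through `B' → C'`; both rings are `A'`-algebras.
We compare flatness over `A'` of the localizations of `N` at primes of `B'` and of `C'`.
-/

universe u

open TensorProduct

namespace Groth.Agent.H57

section General

variable {A' B' C' : Type u} [CommRing A'] [CommRing B'] [CommRing C'] [Algebra A' B']
  [Algebra A' C'] [Algebra B' C'] [IsScalarTower A' B' C']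
  (N : Type u) [AddCommGroup N] [Module A' N] [Module B' N] [Module C' N]
  [IsScalarTower A' B' N] [IsScalarTower A' C' N] [IsScalarTower B' C' N]

theorem flatAbove_of_flatAbove_base (IB : Ideal B') (IC : Ideal C')
    (h1 : IB.map (algebraMap B' C') ≤ IC)
    (h : ∀ (q : Ideal B') [q.IsPrime], IB ≤ q →
      Module.Flat A' (LocalizedModule q.primeCompl N))
    (r : Ideal C') [r.IsPrime] (hr : IC ≤ r) :
    Module.Flat A' (LocalizedModule r.primeCompl N) := by
  have hq : IB ≤ r.comap (algebraMap B' C') := by
    rw [← Ideal.map_le_iff_le_comap]; exact h1.trans hr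
  have hflat := h (r.comap (algebraMap B' C')) hq
  refine flat_localizedModule_of_forall (A := A') r.primeCompl N ?_
  intro P Q _ _ _ _ u hu x hx
  obtain ⟨t, ht⟩ := exists_smul_eq_zero_of_lTensor_injective (A := A')
    (r.comap (algebraMap B' C')).primeCompl N u
    (Module.Flat.lTensor_preserves_injective_linearMap u hu) x hx
  refine ⟨⟨algebraMap B' C' t, fun hmem => t.2 hmem⟩, ?_⟩
  show algebraMap B' C' (t : B') • x = 0
  rw [algebraMap_smul]
  exact ht

theorem flatAbove_base_of_flatAbove [Algebra.IsIntegral B' C'] (IB : Ideal B') (IC : Ideal C')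
    (h2 : ∀ (r : Ideal C') [r.IsPrime], IB.map (algebraMap B' C') ≤ r → IC ≤ r)
    (h : ∀ (r : Ideal C') [r.IsPrime], IC ≤ r →
      Module.Flat A' (LocalizedModule r.primeCompl N))
    (q : Ideal B') [q.IsPrime] (hq : IB ≤ q) :
    Module.Flat A' (LocalizedModule q.primeCompl N) := by
  refine flat_localizedModule_of_forall (A := A') q.primeCompl N ?_
  intro P Q _ _ _ _ u hu x hx
  by_contra hcon
  have hcon' : ∀ t : q.primeCompl, t • x ≠ 0 := fun t ht => hcon ⟨t, ht⟩
  have h𝔞 : ((Submodule.span C' {x}).annihilator).comap (algebraMap B' C') ≤ q := by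
    intro b hb
    by_contra hbq
    rw [Ideal.mem_comap, Submodule.mem_annihilator_span_singleton] at hb
    refine hcon' ⟨b, hbq⟩ ?_
    show b • x = 0
    rw [← algebraMap_smul C' b x]
    exact hb
  obtain ⟨r, hr𝔞, hrp, hrq⟩ := Ideal.exists_ideal_over_prime_of_isIntegral q
    ((Submodule.span C' {x}).annihilator) h𝔞
  haveI := hrp
  have hIC : IC ≤ r := h2 r (by rw [Ideal.map_le_iff_le_comap, hrq]; exact hq)
  have hflat := h r hIC
  obtain ⟨c, hc⟩ := exists_smul_eq_zero_of_lTensor_injective (A := A') r.primeCompl N u
    (Module.Flat.lTensor_preserves_injective_linearMap u hu) x hx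
  exact c.2 (hr𝔞 ((Submodule.mem_annihilator_span_singleton x (c : C')).mpr hc))

end General

end Groth.Agent.H57
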