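import Groth.Agent.S1265
import Groth.Agent.H57.LocalCrit
import Groth.Agent.H57.SepCrit
import Groth.Agent.H57.RegFlat
import Mathlib.RingTheory.AdicCompletion.Basic
import Mathlib.RingTheory.Ideal.KrullsHeightTheorem

/-! Flattening ideals over complete local rings: auxiliary lemmas (helper57). -/

set_option autoImplicit false

universe u

open TensorProduct
open scoped Pointwise

namespace Groth.Agent.H57

/-- flatness modulo `J` implies flatness modulo any larger ideal. -/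
theorem flat_quot_of_le {R : Type u} [CommRing R] (N : Type u) [AddCommGroup N] [Module R N]
    {J K : Ideal R} (hJK : J ≤ K) [Module.Flat (R ⧸ J) ((R ⧸ J) ⊗[R] N)] :
    Module.Flat (R ⧸ K) ((R ⧸ K) ⊗[R] N) := by
  letI : Algebra (R ⧸ J) (R ⧸ K) := (Ideal.Quotient.factor hJK).toAlgebra
  haveI : IsScalarTower R (R ⧸ J) (R ⧸ K) := IsScalarTower.of_algebraMap_eq (fun x => rfl)
  exact (flat_tensor_of_tower R (R ⧸ J) (R ⧸ K) N).mp inferInstance

/-- the flattening ideal among ideals containing `𝔞`, `R ⧸ 𝔞` Artinian. -/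
theorem exists_flattening_above {R : Type u} [CommRing R] (𝔞 : Ideal R) [IsArtinianRing (R ⧸ 𝔞)]
    (N : Type u) [AddCommGroup N] [Module R N] :
    ∃ K : Ideal R, ∀ J : Ideal R, 𝔞 ≤ J →
      (Module.Flat (R ⧸ J) ((R ⧸ J) ⊗[R] N) ↔ K ≤ J) := by
  obtain ⟨I₀, hI₀⟩ := Groth.Agent.S1265.exists_ideal (A := R ⧸ 𝔞) ((R ⧸ 𝔞) ⊗[R] N)
  refine ⟨I₀.comap (Ideal.Quotient.mk 𝔞), fun J hJ => ?_⟩
  letI : Algebra (R ⧸ 𝔞) (R ⧸ J) := (Ideal.Quotient.factor hJ).toAlgebra
  haveI : IsScalarTower R (R ⧸ 𝔞) (R ⧸ J) := IsScalarTower.of_algebraMap_eq (fun x => rfl)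
  rw [← flat_tensor_of_tower R (R ⧸ 𝔞) (R ⧸ J) N, hI₀ (R ⧸ J)]
  constructor
  · intro h r hr
    have h1 : algebraMap (R ⧸ 𝔞) (R ⧸ J) (Ideal.Quotient.mk 𝔞 r) ∈
        I₀.map (algebraMap (R ⧸ 𝔞) (R ⧸ J)) := Ideal.mem_map_of_mem _ hr
    rw [h, Ideal.mem_bot] at h1
    exact Ideal.Quotient.eq_zero_iff_mem.mp h1
  · intro h
    rw [eq_bot_iff, Ideal.map_le_iff_le_comap]
    intro a ha
    obtain ⟨r, rfl⟩ := Ideal.Quotient.mk_surjective a
    rw [Ideal.mem_comap, Ideal.mem_bot]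
    exact Ideal.Quotient.eq_zero_iff_mem.mpr (h ha)

/-- limit of a compatible decreasing system of ideals in a complete ring. -/
theorem eq_iInf_sup_pow {R : Type u} [CommRing R] (𝔪 : Ideal R) [IsPrecomplete 𝔪 R]
    (J : ℕ → Ideal R) (hJ1 : ∀ n, 𝔪 ^ (n + 1) ≤ J n)
    (hJ2 : ∀ n, J n = J (n + 1) ⊔ 𝔪 ^ (n + 1)) (n : ℕ) :
    J n = (⨅ k, J k) ⊔ 𝔪 ^ (n + 1) := by
  have hanti : Antitone J :=
    antitone_nat_of_succ_le (fun k => by rw [hJ2 k]; exact le_sup_left)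
  apply le_antisymm
  · intro x hx
    have hstep' : ∀ (k : ℕ) (z : R), ∃ z', z ∈ J (n + k) →
        (z' ∈ J (n + k + 1) ∧ z - z' ∈ 𝔪 ^ (n + k + 1)) := by
      intro k z
      by_cases hz : z ∈ J (n + k)
      · rw [hJ2 (n + k)] at hz
        obtain ⟨a, ha, b, hb, rfl⟩ := Submodule.mem_sup.mp hz
        exact ⟨a, fun _ => ⟨ha, by simpa using hb⟩⟩
      · exact ⟨0, fun h => absurd h hz⟩
    choose g hg using hstep'
    let z : ℕ → R := fun k => Nat.rec x (fun k zk => g k zk) k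
    have hz0 : z 0 = x := rfl
    have hzs : ∀ k, z (k + 1) = g k (z k) := fun k => rfl
    have hzmem : ∀ k, z k ∈ J (n + k) := by
      intro k
      induction k with
      | zero => exact hx
      | succ k ih => rw [hzs]; exact (hg k (z k) ih).1
    have hzdiff : ∀ k, z k - z (k + 1) ∈ 𝔪 ^ (n + k + 1) := fun k => by
      rw [hzs]; exact (hg k (z k) (hzmem k)).2
    have hcauchy : ∀ i j, i ≤ j → z i - z j ∈ 𝔪 ^ (n + i + 1) := by
      intro i j hij
      induction j, hij using Nat.le_induction with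
      | base => simp
      | succ j hij ih =>
        have h1 : z i - z (j + 1) = (z i - z j) + (z j - z (j + 1)) := by ring
        rw [h1]
        exact add_mem ih (Ideal.pow_le_pow_right (by omega) (hzdiff j))
    obtain ⟨L, hL⟩ := IsPrecomplete.prec ‹IsPrecomplete 𝔪 R› (f := z) (fun {a b} hab => by
      rw [SModEq.sub_mem, smul_eq_mul, Ideal.mul_top]
      exact Ideal.pow_le_pow_right (by omega) (hcauchy a b hab))
    have hL' : ∀ k, z k - L ∈ 𝔪 ^ (n + k + 1) := by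
      intro k
      have h1 := hL (n + k + 1)
      rw [SModEq.sub_mem, smul_eq_mul, Ideal.mul_top] at h1
      have h2 := hcauchy k (n + k + 1) (by omega)
      have h3 : z k - L = (z k - z (n + k + 1)) + (z (n + k + 1) - L) := by ring
      rw [h3]; exact add_mem h2 h1
    have hLmem : ∀ k, L ∈ J (n + k) := by
      intro k
      have h1 : z k - L ∈ J (n + k) := hJ1 (n + k) (hL' k)
      have h2 : L = z k - (z k - L) := by ring
      rw [h2]; exact sub_mem (hzmem k) h1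
    have hLI : L ∈ ⨅ k, J k := by
      rw [Submodule.mem_iInf]
      intro k
      by_cases hk : n ≤ k
      · obtain ⟨j, rfl⟩ := Nat.exists_eq_add_of_le hk
        exact hLmem j
      · exact hanti (by omega : k ≤ n) (by simpa using hLmem 0)
    have h4 : x = L + (x - L) := by ring
    rw [h4]
    exact Submodule.add_mem_sup hLI (by have := hL' 0; simpa [hz0] using this)
  · exact sup_le (iInf_le J n) (hJ1 n)

/-- Local criterion relative to a quotient of the base: if `M/(I + 𝔫^k)M` is flat over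
`R/(I + 𝔫^k)` for all `k`, then `M/IM` is flat over `R/I`. -/
theorem flat_quot_of_flat_quot_sup_pow {R S M : Type u} [CommRing R] [CommRing S]
    [IsNoetherianRing R] [IsNoetherianRing S] [Algebra R S] [AddCommGroup M] [Module R M]
    [Module S M] [IsScalarTower R S M] [Module.Finite S M]
    (I 𝔫 : Ideal R) (h𝔫 : 𝔫.map (algebraMap R S) ≤ Ideal.jacobson ⊥)
    (h : ∀ k : ℕ, Module.Flat (R ⧸ (I ⊔ 𝔫 ^ k)) ((R ⧸ (I ⊔ 𝔫 ^ k)) ⊗[R] M)) :
    Module.Flat (R ⧸ I) ((R ⧸ I) ⊗[R] M) := by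
  letI modR' : Module (R ⧸ I) (M ⧸ (I.map (algebraMap R S) • ⊤ : Submodule S M)) :=
    Module.compHom _ (algebraMap (R ⧸ I) (S ⧸ I.map (algebraMap R S)))
  haveI tower1 : IsScalarTower (R ⧸ I) (S ⧸ I.map (algebraMap R S))
      (M ⧸ (I.map (algebraMap R S) • ⊤ : Submodule S M)) :=
    IsScalarTower.of_algebraMap_smul (fun r x => rfl)
  haveI tower2 : IsScalarTower R (R ⧸ I) (M ⧸ (I.map (algebraMap R S) • ⊤ : Submodule S M)) := by
    refine IsScalarTower.of_algebraMap_smul (fun r x => ?_)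
    obtain ⟨m, rfl⟩ := Submodule.Quotient.mk_surjective _ x
    show (algebraMap (R ⧸ I) (S ⧸ I.map (algebraMap R S)) (Ideal.Quotient.mk I r)) •
      (Submodule.Quotient.mk m : M ⧸ (I.map (algebraMap R S) • ⊤ : Submodule S M)) = _
    rw [Ideal.Quotient.algebraMap_quotient_map_quotient]
    show (Submodule.Quotient.mk ((algebraMap R S r) • m) :
      M ⧸ (I.map (algebraMap R S) • ⊤ : Submodule S M)) = Submodule.Quotient.mk (r • m)
    rw [algebraMap_smul]
  haveI : Module.Finite (S ⧸ I.map (algebraMap R S))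
      (M ⧸ (I.map (algebraMap R S) • ⊤ : Submodule S M)) :=
    Module.Finite.of_restrictScalars_finite S _ _
  let eR : (R ⧸ I) ⊗[R] M ≃ₗ[R] (M ⧸ (I.map (algebraMap R S) • ⊤ : Submodule S M)) :=
    (TensorProduct.quotTensorEquivQuotSMul M I) ≪≫ₗ
      (Submodule.quotEquivOfEq _ _ (map_smul_top_restrictScalars (B := S) M I).symm) ≪≫ₗ
      (Submodule.Quotient.restrictScalarsEquiv R (I.map (algebraMap R S) • ⊤ : Submodule S M))
  let e : (R ⧸ I) ⊗[R] M ≃ₗ[R ⧸ I] (M ⧸ (I.map (algebraMap R S) • ⊤ : Submodule S M)) :=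
    eR.extendScalarsOfSurjective Ideal.Quotient.mk_surjective
  have hjac : ∀ x ∈ Ideal.jacobson (⊥ : Ideal S), Ideal.Quotient.mk (I.map (algebraMap R S)) x ∈
      Ideal.jacobson (⊥ : Ideal (S ⧸ I.map (algebraMap R S))) := by
    intro x hx
    rw [Ideal.mem_jacobson_iff] at hx ⊢
    intro y
    obtain ⟨y, rfl⟩ := Ideal.Quotient.mk_surjective y
    obtain ⟨z, hz⟩ := hx y
    refine ⟨Ideal.Quotient.mk _ z, ?_⟩
    rw [Ideal.mem_bot] at hz ⊢
    rw [← map_mul, ← map_mul, ← map_add, ← map_one (Ideal.Quotient.mk (I.map (algebraMap R S))),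
      ← map_sub, hz, map_zero]
  have h𝔫' : (𝔫.map (Ideal.Quotient.mk I)).map
      (algebraMap (R ⧸ I) (S ⧸ I.map (algebraMap R S))) ≤ Ideal.jacobson ⊥ := by
    rw [Ideal.map_le_iff_le_comap]
    intro a ha
    obtain ⟨r, hr, rfl⟩ := (Ideal.mem_map_iff_of_surjective _ Ideal.Quotient.mk_surjective).mp ha
    rw [Ideal.mem_comap, Ideal.Quotient.algebraMap_quotient_map_quotient]
    exact hjac _ (h𝔫 (Ideal.mem_map_of_mem _ hr))
  haveI hflat' : Module.Flat (R ⧸ I) (M ⧸ (I.map (algebraMap R S) • ⊤ : Submodule S M)) := by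
    refine flat_of_flat_mod_pow (R := R ⧸ I) (S := S ⧸ I.map (algebraMap R S))
      (𝔫.map (Ideal.Quotient.mk I)) h𝔫' ?_
    intro k
    have hkill : ∀ a ∈ I ⊔ 𝔫 ^ k,
        algebraMap R ((R ⧸ I) ⧸ (𝔫.map (Ideal.Quotient.mk I)) ^ k) a = 0 := by
      intro a ha
      obtain ⟨i, hi, y, hy, rfl⟩ := Submodule.mem_sup.mp ha
      rw [map_add]
      have h1 : algebraMap R ((R ⧸ I) ⧸ (𝔫.map (Ideal.Quotient.mk I)) ^ k) i = 0 := by
        rw [IsScalarTower.algebraMap_apply R (R ⧸ I)]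
        have : algebraMap R (R ⧸ I) i = 0 := Ideal.Quotient.eq_zero_iff_mem.mpr hi
        rw [this, map_zero]
      have h2 : algebraMap R ((R ⧸ I) ⧸ (𝔫.map (Ideal.Quotient.mk I)) ^ k) y = 0 := by
        rw [IsScalarTower.algebraMap_apply R (R ⧸ I)]
        refine Ideal.Quotient.eq_zero_iff_mem.mpr ?_
        rw [← Ideal.map_pow]
        exact Ideal.mem_map_of_mem _ hy
      rw [h1, h2, add_zero]
    letI alg1 : Algebra (R ⧸ (I ⊔ 𝔫 ^ k)) ((R ⧸ I) ⧸ (𝔫.map (Ideal.Quotient.mk I)) ^ k) :=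
      (Ideal.Quotient.lift (I ⊔ 𝔫 ^ k)
        (algebraMap R ((R ⧸ I) ⧸ (𝔫.map (Ideal.Quotient.mk I)) ^ k)) hkill).toAlgebra
    haveI : IsScalarTower R (R ⧸ (I ⊔ 𝔫 ^ k))
        ((R ⧸ I) ⧸ (𝔫.map (Ideal.Quotient.mk I)) ^ k) :=
      IsScalarTower.of_algebraMap_eq (fun x => rfl)
    haveI := h k
    haveI f1 : Module.Flat ((R ⧸ I) ⧸ (𝔫.map (Ideal.Quotient.mk I)) ^ k)
        (((R ⧸ I) ⧸ (𝔫.map (Ideal.Quotient.mk I)) ^ k) ⊗[R] M) :=
      (flat_tensor_of_tower R (R ⧸ (I ⊔ 𝔫 ^ k))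
        ((R ⧸ I) ⧸ (𝔫.map (Ideal.Quotient.mk I)) ^ k) M).mp inferInstance
    haveI f2 : Module.Flat ((R ⧸ I) ⧸ (𝔫.map (Ideal.Quotient.mk I)) ^ k)
        (((R ⧸ I) ⧸ (𝔫.map (Ideal.Quotient.mk I)) ^ k) ⊗[R ⧸ I] ((R ⧸ I) ⊗[R] M)) :=
      (flat_tensor_of_tower R (R ⧸ I)
        ((R ⧸ I) ⧸ (𝔫.map (Ideal.Quotient.mk I)) ^ k) M).mpr f1
    exact Module.Flat.of_linearEquiv
      (TensorProduct.AlgebraTensorModule.congr
        (LinearEquiv.refl ((R ⧸ I) ⧸ (𝔫.map (Ideal.Quotient.mk I)) ^ k)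
          ((R ⧸ I) ⧸ (𝔫.map (Ideal.Quotient.mk I)) ^ k)) e).symm
  exact Module.Flat.of_linearEquiv e

end Groth.Agent.H57
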