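import Mathlib
import Groth.Agent.H57.FlatAtBC
import Groth.Agent.H57.FlatPt5

/-!
# Tools for descending pointwise flatness to a Noetherian stage

* `exists_smul_eq_zero_baseChange_submonoid`, `lTensor_localizedModule_injective_of_baseChange_submonoid`:
  the base change lemmas of `FlatAtBC` for an arbitrary submonoid.
* `exists_elt_kills`: if `M'` is flat over the local ring `R'` at all primes of `S'` over the closed
  point, there is `a ≡ 1 mod 𝔪' S'` with `M'_a` flat (elementwise form).
* `flat_tensor_localized_iff`: transfer between the elementwise form of flatness of `M'_a` and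
  flatness of `R' ⊗[R₁] (M₁)_{a₁}` for a model over `R₁`.
-/

set_option autoImplicit false
set_option linter.style.haveILetI false
universe u
open TensorProduct

namespace Groth.Agent.H57.FlatLimA

section BC

variable {R S R' S' : Type u} [CommRing R] [CommRing S] [CommRing R'] [CommRing S']
  [Algebra R S] [Algebra R R'] [Algebra S S'] [Algebra R' S'] [Algebra R S'] [IsScalarTower R S S']
  [IsScalarTower R R' S'] [Algebra.IsPushout R S R' S']
  {M M' : Type u} [AddCommGroup M] [Module S M] [Module R M] [IsScalarTower R S M]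
  [AddCommGroup M'] [Module S' M'] [Module R' M'] [IsScalarTower R' S' M'] [Module S M']
  [IsScalarTower S S' M'] [Module R M'] [IsScalarTower R R' M'] [IsScalarTower R S M']
  (f : M →ₗ[S] M') (hf : IsBaseChange S' f) (T : Submonoid S)

include hf in
theorem exists_smul_eq_zero_baseChange_submonoid
    {P Q : Type u} [AddCommGroup P] [AddCommGroup Q] [Module R' P] [Module R' Q] [Module R P]
    [Module R Q] [IsScalarTower R R' P] [IsScalarTower R R' Q] (u : P →ₗ[R'] Q)
    (hu : Function.Injective ((u.restrictScalars R).lTensor (LocalizedModule T M)))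
    (y : M' ⊗[R'] P) (hy : u.lTensor M' y = 0) : ∃ t : T, algebraMap S S' (t : S) • y = 0 := by
  have hg : IsBaseChange R' (f.restrictScalars R) := isBaseChange_restrictScalars f hf
  have hyx : y = (phi hg P).symm (phi hg P y) := ((phi hg P).symm_apply_apply y).symm
  have h1 : (u.restrictScalars R).lTensor M (phi hg P y) = 0 := by
    apply (phi hg Q).symm.injective
    rw [phi_symm_lTensor, ← hyx, hy, map_zero]
  obtain ⟨t, ht⟩ := exists_smul_eq_zero_of_lTensor_injective T M (u.restrictScalars R) hu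
    (phi hg P y) h1
  refine ⟨t, ?_⟩
  rw [hyx]
  show algebraMap S S' (t : S) • (phi hg P).symm (phi hg P y) = 0
  rw [← phi_symm_smul f hg, ← Submonoid.smul_def, ht, map_zero]

include hf in
theorem lTensor_localizedModule_injective_of_baseChange_submonoid
    {P Q : Type u} [AddCommGroup P] [AddCommGroup Q] [Module R' P] [Module R' Q] [Module R P]
    [Module R Q] [IsScalarTower R R' P] [IsScalarTower R R' Q] (u : P →ₗ[R'] Q)
    (h : ∀ y : M' ⊗[R'] P, u.lTensor M' y = 0 → ∃ s : T, algebraMap S S' (s : S) • y = 0) :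
    Function.Injective ((u.restrictScalars R).lTensor (LocalizedModule T M)) := by
  have hg : IsBaseChange R' (f.restrictScalars R) := isBaseChange_restrictScalars f hf
  apply lTensor_localizedModule_injective_of_forall
  intro x hx
  have h1 : u.lTensor M' ((phi hg P).symm x) = 0 := by
    rw [← phi_symm_lTensor, hx, map_zero]
  obtain ⟨s, hs0⟩ := h _ h1
  refine ⟨s, ?_⟩
  apply (phi hg P).symm.injective
  rw [Submonoid.smul_def, phi_symm_smul (S' := S') f hg, map_zero]
  exact hs0

end BC

/-- Over a local base, flatness at all primes over the closed point spreads to a principal open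
`D(a)` with `a ≡ 1` modulo the maximal ideal (elementwise form). -/
theorem exists_elt_kills {R' S' M' : Type u} [CommRing R'] [IsLocalRing R'] [CommRing S']
    [Algebra R' S'] [Algebra.FinitePresentation R' S'] [AddCommGroup M'] [Module S' M']
    [Module R' M'] [IsScalarTower R' S' M'] [Module.FinitePresentation S' M']
    (h : ∀ (q' : Ideal S') [q'.IsPrime],
      q'.comap (algebraMap R' S') = IsLocalRing.maximalIdeal R' →
      Module.Flat R' (LocalizedModule q'.primeCompl M')) :
    ∃ a : S', 1 - a ∈ (IsLocalRing.maximalIdeal R').map (algebraMap R' S') ∧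
      ∀ (P Q : Type u) [AddCommGroup P] [AddCommGroup Q] [Module R' P] [Module R' Q]
        (u : P →ₗ[R'] Q), Function.Injective u → ∀ y : M' ⊗[R'] P, u.lTensor M' y = 0 →
          ∃ n : ℕ, a ^ n • y = 0 := by
  have hopen := Groth.Agent.H57.FlatPt.isOpen_flat_module_locus (R := R') (S := S') (M := M')
  obtain ⟨𝔞, h𝔞⟩ := (PrimeSpectrum.isClosed_iff_zeroLocus_ideal _).mp hopen.isClosed_compl
  have htop : 𝔞 ⊔ (IsLocalRing.maximalIdeal R').map (algebraMap R' S') = ⊤ := by
    by_contra hne
    obtain ⟨q', hq'max, hle⟩ := Ideal.exists_le_maximal _ hne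
    haveI := hq'max.isPrime
    have hq'm : q'.comap (algebraMap R' S') = IsLocalRing.maximalIdeal R' := by
      have hpr : (q'.comap (algebraMap R' S')).IsPrime := inferInstance
      exact le_antisymm (IsLocalRing.le_maximalIdeal hpr.ne_top)
        (Ideal.map_le_iff_le_comap.mp (le_sup_right.trans hle))
    have hin : (⟨q', inferInstance⟩ : PrimeSpectrum S') ∈
        {q : PrimeSpectrum S' | Module.Flat R' (LocalizedModule q.asIdeal.primeCompl M')} :=
      h q' hq'm
    have hnot : (⟨q', inferInstance⟩ : PrimeSpectrum S') ∈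
        {q : PrimeSpectrum S' | Module.Flat R' (LocalizedModule q.asIdeal.primeCompl M')}ᶜ := by
      rw [h𝔞, PrimeSpectrum.mem_zeroLocus]
      exact SetLike.coe_subset_coe.mpr (le_sup_left.trans hle)
    exact hnot hin
  obtain ⟨a, ha, b, hb, hab⟩ := Submodule.mem_sup.mp ((Ideal.eq_top_iff_one _).mp htop)
  refine ⟨a, ?_, ?_⟩
  · have : 1 - a = b := by rw [← hab]; ring
    rw [this]; exact hb
  intro P Q _ _ _ _ u hu y hy
  let J : Ideal S' := LinearMap.ker (LinearMap.toSpanSingleton S' (M' ⊗[R'] P) y)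
  have hJ : ∀ s, s ∈ J ↔ s • y = 0 := fun s => by
    simp [J, LinearMap.mem_ker, LinearMap.toSpanSingleton_apply]
  have hrad : a ∈ J.radical := by
    rw [Ideal.radical_eq_sInf, Ideal.mem_sInf]
    rintro p ⟨hJp, hp⟩
    by_contra hap
    haveI := hp
    have hpU : (⟨p, hp⟩ : PrimeSpectrum S') ∈
        {q : PrimeSpectrum S' | Module.Flat R' (LocalizedModule q.asIdeal.primeCompl M')} := by
      by_contra hnU
      have h2 : (⟨p, hp⟩ : PrimeSpectrum S') ∈
          {q : PrimeSpectrum S' | Module.Flat R' (LocalizedModule q.asIdeal.primeCompl M')}ᶜ :=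
        hnU
      rw [h𝔞, PrimeSpectrum.mem_zeroLocus] at h2
      exact hap (h2 ha)
    have hflat : Module.Flat R' (LocalizedModule p.primeCompl M') := hpU
    obtain ⟨t, ht⟩ := Groth.Agent.H57.exists_smul_eq_zero_of_lTensor_injective p.primeCompl M' u
      (Module.Flat.lTensor_preserves_injective_linearMap u hu) y hy
    exact t.2 (hJp ((hJ t).mpr ht))
  obtain ⟨n, hn⟩ := hrad
  exact ⟨n, (hJ _).mp hn⟩

/-- Elements of `𝔪 S'` are combinations of images of elements of `S` with coefficients in `𝔪`. -/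
theorem exists_finsupp_of_mem_map {R S R' S' : Type u} [CommRing R] [CommRing S] [CommRing R']
    [CommRing S'] [Algebra R S] [Algebra R R'] [Algebra S S'] [Algebra R' S'] [Algebra R S']
    [IsScalarTower R S S'] [IsScalarTower R R' S'] [Algebra.IsPushout R S R' S']
    (𝔪 : Ideal R') (b : S') (hb : b ∈ 𝔪.map (algebraMap R' S')) :
    ∃ c : S →₀ R', (∀ s, c s ∈ 𝔪) ∧ (c.sum fun s r => r • algebraMap S S' s) = b := by
  haveI : Algebra.IsPushout R R' S S' := Algebra.IsPushout.symm inferInstance
  have hbc : IsBaseChange R' (IsScalarTower.toAlgHom R S S').toLinearMap :=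
    Algebra.IsPushout.out
  have hspan : Submodule.span R' (Set.range (algebraMap S S')) = ⊤ := by
    rw [eq_top_iff]
    rintro x -
    refine hbc.inductionOn x (fun x => x ∈ Submodule.span R' (Set.range (algebraMap S S')))
      (Submodule.zero_mem _) (fun m => Submodule.subset_span ⟨m, rfl⟩)
      (fun r x hx => Submodule.smul_mem _ r hx) (fun x y hx hy => Submodule.add_mem _ hx hy)
  have hb' : b ∈ 𝔪 • Submodule.span R' (Set.range (algebraMap S S')) := by
    rw [hspan, Ideal.smul_top_eq_map]
    exact hb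
  obtain ⟨c, hc, hsum⟩ := (Submodule.mem_ideal_smul_span_iff_exists_sum 𝔪 (algebraMap S S') b).mp hb'
  exact ⟨c, hc, hsum⟩

attribute [local instance] Algebra.TensorProduct.rightAlgebra

section T

variable {R S R₁ : Type u} [CommRing R] [CommRing S] [CommRing R₁] [Algebra R S] [Algebra R R₁]
  (M : Type u) [AddCommGroup M] [Module S M] [Module R M] [IsScalarTower R S M]
  (a₁ : R₁ ⊗[R] S)
  {R' S' : Type u} [CommRing R'] [CommRing S'] [Algebra R R'] [Algebra S S'] [Algebra R' S']
  [Algebra R S'] [IsScalarTower R S S'] [IsScalarTower R R' S'] [Algebra.IsPushout R S R' S']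
  [Algebra R₁ R'] [IsScalarTower R R₁ R'] [Algebra R₁ S'] [IsScalarTower R₁ R' S']
  [IsScalarTower R R₁ S']
  {M' : Type u} [AddCommGroup M'] [Module S' M'] [Module R' M'] [IsScalarTower R' S' M']
  [Module S M'] [IsScalarTower S S' M']
  (f : M →ₗ[S] M') (hf : IsBaseChange S' f)

variable (R S R₁ S') in
/-- The canonical map `R₁ ⊗[R] S → S'`. -/
noncomputable abbrev toPush : R₁ ⊗[R] S →ₐ[R] S' :=
  Algebra.TensorProduct.productMap (IsScalarTower.toAlgHom R R₁ S') (IsScalarTower.toAlgHom R S S')

omit [Module R M] [IsScalarTower R S M] in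
include hf in
theorem flat_tensor_localized_iff :
    Module.Flat R' (R' ⊗[R₁] LocalizedModule (Submonoid.powers a₁) ((R₁ ⊗[R] S) ⊗[S] M)) ↔
    ∀ (P Q : Type u) [AddCommGroup P] [AddCommGroup Q] [Module R' P] [Module R' Q]
      (u : P →ₗ[R'] Q), Function.Injective u → ∀ y : M' ⊗[R'] P, u.lTensor M' y = 0 →
        ∃ n : ℕ, (toPush R S R₁ S' a₁) ^ n • y = 0 := by
  letI algS₁ : Algebra (R₁ ⊗[R] S) S' := (toPush R S R₁ S').toRingHom.toAlgebra
  have halg : ∀ z, algebraMap (R₁ ⊗[R] S) S' z = toPush R S R₁ S' z := fun _ => rfl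
  haveI : IsScalarTower R₁ (R₁ ⊗[R] S) S' := IsScalarTower.of_algebraMap_eq (fun r => by
    rw [halg, Algebra.TensorProduct.algebraMap_apply]
    simp [toPush])
  haveI : IsScalarTower S (R₁ ⊗[R] S) S' := IsScalarTower.of_algebraMap_eq (fun s => by
    rw [halg, Algebra.TensorProduct.right_algebraMap_apply]
    simp [toPush])
  haveI : IsScalarTower R (R₁ ⊗[R] S) S' := IsScalarTower.of_algebraMap_eq (fun r => by
    rw [halg, AlgHom.commutes])
  haveI hpo2 : Algebra.IsPushout R R' S S' := Algebra.IsPushout.symm inferInstance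
  haveI hpo3 : Algebra.IsPushout R₁ R' (R₁ ⊗[R] S) S' :=
    (Algebra.IsPushout.comp_iff R R₁ S (S' := R₁ ⊗[R] S) (T := R') (T' := S')).mp hpo2
  haveI hpo4 : Algebra.IsPushout R₁ (R₁ ⊗[R] S) R' S' := hpo3.symm
  letI : Module (R₁ ⊗[R] S) M' := Module.compHom M' (algebraMap (R₁ ⊗[R] S) S')
  haveI : IsScalarTower (R₁ ⊗[R] S) S' M' := IsScalarTower.of_algebraMap_smul (fun _ _ => rfl)
  haveI : IsScalarTower S (R₁ ⊗[R] S) M' := IsScalarTower.of_algebraMap_smul (fun s m => by
    show algebraMap (R₁ ⊗[R] S) S' (algebraMap S (R₁ ⊗[R] S) s) • m = s • m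
    rw [← IsScalarTower.algebraMap_apply S (R₁ ⊗[R] S) S', algebraMap_smul])
  letI : Module R₁ M' := Module.compHom M' (algebraMap R₁ R')
  haveI : IsScalarTower R₁ R' M' := IsScalarTower.of_algebraMap_smul (fun _ _ => rfl)
  haveI : IsScalarTower R₁ (R₁ ⊗[R] S) M' := IsScalarTower.of_algebraMap_smul (fun r m => by
    show algebraMap (R₁ ⊗[R] S) S' (algebraMap R₁ (R₁ ⊗[R] S) r) • m = algebraMap R₁ R' r • m
    rw [← IsScalarTower.algebraMap_apply R₁ (R₁ ⊗[R] S) S',
      IsScalarTower.algebraMap_apply R₁ R' S', algebraMap_smul])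
  have hf₁ : IsBaseChange (R₁ ⊗[R] S) (TensorProduct.mk S (R₁ ⊗[R] S) M 1) :=
    TensorProduct.isBaseChange S M (R₁ ⊗[R] S)
  let g₁ : (R₁ ⊗[R] S) ⊗[S] M →ₗ[R₁ ⊗[R] S] M' := hf₁.lift f
  have hg₁ : IsBaseChange S' g₁ := by
    refine IsBaseChange.of_comp hf₁ ?_
    rw [IsBaseChange.lift_comp]
    exact hf
  constructor
  · intro hfl P Q _ _ _ _ u hu y hy
    letI : Module R₁ P := Module.compHom P (algebraMap R₁ R')
    letI : Module R₁ Q := Module.compHom Q (algebraMap R₁ R')
    haveI : IsScalarTower R₁ R' P := IsScalarTower.of_algebraMap_smul (fun _ _ => rfl)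
    haveI : IsScalarTower R₁ R' Q := IsScalarTower.of_algebraMap_smul (fun _ _ => rfl)
    have hinj := (Groth.Agent.H57.flat_baseChange_iff_forall (A := R') (R := R₁)
      (LocalizedModule (Submonoid.powers a₁) ((R₁ ⊗[R] S) ⊗[S] M))).mp hfl P Q u hu
    obtain ⟨t, ht⟩ := exists_smul_eq_zero_baseChange_submonoid (R := R₁) g₁ hg₁
      (Submonoid.powers a₁) u hinj y hy
    obtain ⟨n, hn⟩ := (Submonoid.mem_powers_iff _ _).mp t.2
    refine ⟨n, ?_⟩
    rw [← halg, ← map_pow, hn]
    exact ht
  · intro hE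
    refine (Groth.Agent.H57.flat_baseChange_iff_forall (A := R') (R := R₁)
      (LocalizedModule (Submonoid.powers a₁) ((R₁ ⊗[R] S) ⊗[S] M))).mpr ?_
    intro P Q _ _ _ _ _ _ _ _ u hu
    apply lTensor_localizedModule_injective_of_baseChange_submonoid (R := R₁) g₁ hg₁
      (Submonoid.powers a₁) u
    intro y hy
    obtain ⟨n, hn⟩ := hE P Q u hu y hy
    refine ⟨⟨a₁ ^ n, n, rfl⟩, ?_⟩
    show algebraMap (R₁ ⊗[R] S) S' (a₁ ^ n) • y = 0
    rw [map_pow, halg]
    exact hn

end T

end Groth.Agent.H57.FlatLimA
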