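import Mathlib

/-! Freeness of a finitely presented module over a local ring, flat over a base, descends along
(localizations of) base changes of the base (helper57). -/

set_option autoImplicit false
set_option linter.style.haveILetI false

universe u

open TensorProduct

namespace Groth.Agent.H57.FreeBC

section P

/-- For a pushout square `B' = B ⊗[A] A'` and a flat `B'`-algebra `T`: a `B`-linear map which stays
injective after `A' ⊗[A] -` stays injective after `T ⊗[B] -`. -/
theorem lTensor_injective_of_pushout (A B A' B' : Type u) [CommRing A] [CommRing B] [CommRing A']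
    [CommRing B'] [Algebra A A'] [Algebra A B] [Algebra B B'] [Algebra A B'] [Algebra A' B']
    [IsScalarTower A A' B'] [IsScalarTower A B B'] [Algebra.IsPushout A A' B B']
    (T : Type u) [CommRing T] [Algebra B' T] [Algebra B T] [IsScalarTower B B' T]
    [Module.Flat B' T]
    {K L : Type u} [AddCommGroup K] [AddCommGroup L] [Module B K] [Module B L] [Module A K]
    [Module A L] [IsScalarTower A B K] [IsScalarTower A B L] (u : K →ₗ[B] L)
    (h : Function.Injective ((u.restrictScalars A).lTensor A')) :
    Function.Injective (u.lTensor T) := by
  have hnat : ∀ z : A' ⊗[A] K,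
      u.lTensor B' ((Algebra.IsPushout.cancelBaseChange A A' B B' K).symm z) =
      (Algebra.IsPushout.cancelBaseChange A A' B B' L).symm
        ((u.restrictScalars A).lTensor A' z) := by
    intro z
    induction z using TensorProduct.induction_on with
    | zero => simp
    | tmul r k =>
      rw [Algebra.IsPushout.cancelBaseChange_symm_tmul, LinearMap.lTensor_tmul,
        LinearMap.lTensor_tmul, Algebra.IsPushout.cancelBaseChange_symm_tmul]
      rfl
    | add a b ha hb => simp only [map_add, ha, hb]
  have hv : Function.Injective (u.baseChange B') := by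
    intro z₁ z₂ hz
    obtain ⟨w₁, rfl⟩ := (Algebra.IsPushout.cancelBaseChange A A' B B' K).symm.surjective z₁
    obtain ⟨w₂, rfl⟩ := (Algebra.IsPushout.cancelBaseChange A A' B B' K).symm.surjective z₂
    have hz' : u.lTensor B' ((Algebra.IsPushout.cancelBaseChange A A' B B' K).symm w₁) =
        u.lTensor B' ((Algebra.IsPushout.cancelBaseChange A A' B B' K).symm w₂) := hz
    rw [hnat, hnat] at hz'
    rw [h ((Algebra.IsPushout.cancelBaseChange A A' B B' L).symm.injective hz')]
  have hvT : Function.Injective ((u.baseChange B').lTensor T) :=
    Module.Flat.lTensor_preserves_injective_linearMap _ hv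
  have hnat2 : ∀ w : T ⊗[B] K,
      (u.baseChange B').lTensor T ((AlgebraTensorModule.cancelBaseChange B B' T T K).symm w) =
      (AlgebraTensorModule.cancelBaseChange B B' T T L).symm (u.lTensor T w) := by
    intro w
    induction w using TensorProduct.induction_on with
    | zero => simp
    | tmul t k =>
      rw [AlgebraTensorModule.cancelBaseChange_symm_tmul, LinearMap.lTensor_tmul,
        LinearMap.baseChange_tmul, LinearMap.lTensor_tmul,
        AlgebraTensorModule.cancelBaseChange_symm_tmul]
    | add a b ha hb => simp only [map_add, ha, hb]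
  intro w₁ w₂ hw
  have h3 := congrArg (AlgebraTensorModule.cancelBaseChange B B' T T L).symm hw
  rw [← hnat2, ← hnat2] at h3
  exact (AlgebraTensorModule.cancelBaseChange B B' T T K).symm.injective (hvT h3)

end P

section Loc

variable {R T : Type u} [CommRing R] [CommRing T] [IsLocalRing R] [IsLocalRing T]
  [Algebra R T] [IsLocalHom (algebraMap R T)]

/-- Nakayama along a local homomorphism. -/
theorem subsingleton_of_subsingleton_tensor (K : Type u) [AddCommGroup K] [Module R K]
    [Module.Finite R K] (h : Subsingleton (T ⊗[R] K)) : Subsingleton K := by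
  rw [← IsLocalRing.subsingleton_tensorProduct (R := R)]
  let e1 := AlgebraTensorModule.cancelBaseChange R T (IsLocalRing.ResidueField T)
    (IsLocalRing.ResidueField T) K
  let e2 := AlgebraTensorModule.cancelBaseChange R (IsLocalRing.ResidueField R)
    (IsLocalRing.ResidueField T) (IsLocalRing.ResidueField T) K
  haveI : Subsingleton (IsLocalRing.ResidueField T ⊗[IsLocalRing.ResidueField R]
      (IsLocalRing.ResidueField R ⊗[R] K)) :=
    (e2.trans e1.symm).injective.subsingleton
  exact Module.FaithfullyFlat.lTensor_reflects_triviality (IsLocalRing.ResidueField R)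
    (IsLocalRing.ResidueField T) _

theorem finrank_tensor_eq (N : Type u) [AddCommGroup N] [Module R N]
    [Module.Free T (T ⊗[R] N)] :
    Module.finrank T (T ⊗[R] N) =
      Module.finrank (IsLocalRing.ResidueField R) (IsLocalRing.ResidueField R ⊗[R] N) := by
  have h1 : Module.finrank (IsLocalRing.ResidueField T)
      (IsLocalRing.ResidueField T ⊗[T] (T ⊗[R] N)) = Module.finrank T (T ⊗[R] N) :=
    Module.finrank_baseChange
  have h2 : Module.finrank (IsLocalRing.ResidueField T)
      (IsLocalRing.ResidueField T ⊗[IsLocalRing.ResidueField R]
        (IsLocalRing.ResidueField R ⊗[R] N)) =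
      Module.finrank (IsLocalRing.ResidueField R) (IsLocalRing.ResidueField R ⊗[R] N) :=
    Module.finrank_baseChange
  let e1 := AlgebraTensorModule.cancelBaseChange R T (IsLocalRing.ResidueField T)
    (IsLocalRing.ResidueField T) N
  let e2 := AlgebraTensorModule.cancelBaseChange R (IsLocalRing.ResidueField R)
    (IsLocalRing.ResidueField T) (IsLocalRing.ResidueField T) N
  rw [← h1, ← h2]
  exact (e1.trans e2.symm).finrank_eq

end Loc

theorem lTensor_ker_subtype_injective {A R : Type u} [CommRing A] [CommRing R] [Algebra A R]
    {F N : Type u} [AddCommGroup F] [AddCommGroup N] [Module R F] [Module A F]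
    [IsScalarTower A R F] [Module R N] [Module A N] [IsScalarTower A R N] [Module.Flat A N]
    (i : F →ₗ[R] N) (hi : Function.Surjective i) (A' : Type u) [AddCommGroup A'] [Module A A'] :
    Function.Injective (((LinearMap.ker i).subtype.restrictScalars A).lTensor A') := by
  refine LinearMap.lTensor_injective_of_exact_of_flat (R := A) (M := LinearMap.ker i)
    (N := F) (P := N) (i.restrictScalars A) hi
    ((LinearMap.ker i).subtype.restrictScalars A) ?_ ?_ A'
  · exact (LinearMap.ker i).injective_subtype
  · exact LinearMap.exact_subtype_ker_map i

/-- A minimal free cover of a finite module over a local ring. -/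
theorem exists_minimal_cover (R : Type u) [CommRing R] [IsLocalRing R] (N : Type u)
    [AddCommGroup N] [Module R N] [Module.Finite R N] :
    ∃ (I : Type u) (_ : Fintype I) (i : (I →₀ R) →ₗ[R] N), Function.Surjective i ∧
      Fintype.card I = Module.finrank (IsLocalRing.ResidueField R)
        (IsLocalRing.ResidueField R ⊗[R] N) := by
  classical
  let I := Module.Free.ChooseBasisIndex (IsLocalRing.ResidueField R)
    (IsLocalRing.ResidueField R ⊗[R] N)
  let b : Module.Basis I (IsLocalRing.ResidueField R) (IsLocalRing.ResidueField R ⊗[R] N) :=
    Module.Free.chooseBasis (IsLocalRing.ResidueField R) _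
  choose f hf using TensorProduct.mk_surjective R N (IsLocalRing.ResidueField R)
    Ideal.Quotient.mk_surjective
  refine ⟨I, inferInstance, Finsupp.linearCombination R (f ∘ b), ?_, ?_⟩
  · rw [← LinearMap.range_eq_top, Finsupp.range_linearCombination]
    exact IsLocalRing.span_eq_top_of_tmul_eq_basis (R := R) (f := f ∘ b) b (fun _ ↦ hf _)
  · exact (Module.finrank_eq_card_chooseBasisIndex _ _).symm

set_option maxHeartbeats 1600000 in
/-- **Descent of freeness.**  `B' = B ⊗[A] A'`, `R` a local localization of `B`, `T` a local flat
`B'`-algebra with a local homomorphism `R → T`; `N` a finitely presented `R`-module which is flat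
over `A`.  If `T ⊗[R] N` is free over `T`, then `N` is free over `R`. -/
theorem free_of_free_tensor
    (A B A' B' : Type u) [CommRing A] [CommRing B] [CommRing A'] [CommRing B']
    [Algebra A A'] [Algebra A B] [Algebra B B'] [Algebra A B'] [Algebra A' B']
    [IsScalarTower A A' B'] [IsScalarTower A B B'] [Algebra.IsPushout A A' B B']
    (R T : Type u) [CommRing R] [CommRing T] [IsLocalRing R] [IsLocalRing T]
    [Algebra R T] [IsLocalHom (algebraMap R T)]
    [Algebra B R] [Algebra A R] [IsScalarTower A B R]
    [Algebra B' T] [Algebra B T] [IsScalarTower B B' T] [IsScalarTower B R T] [Module.Flat B' T]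
    (S : Submonoid B) [IsLocalization S R]
    (N : Type u) [AddCommGroup N] [Module R N] [Module.FinitePresentation R N]
    [Module A N] [IsScalarTower A R N] [Module.Flat A N]
    [Module.Free T (T ⊗[R] N)] : Module.Free R N := by
  classical
  letI : Module B N := Module.compHom N (algebraMap B R)
  haveI : IsScalarTower B R N := IsScalarTower.of_algebraMap_smul fun _ _ => rfl
  haveI : IsScalarTower A B N := ⟨fun a b n => by
    show algebraMap B R (a • b) • n = a • (algebraMap B R b • n)
    rw [Algebra.smul_def, map_mul, ← IsScalarTower.algebraMap_apply, mul_smul, algebraMap_smul]⟩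
  obtain ⟨I, _, i, hi, hcard⟩ := exists_minimal_cover R N
  haveI : Module.Finite R (LinearMap.ker i) :=
    .of_fg (Module.FinitePresentation.fg_ker i hi)
  -- `T ⊗ i` is bijective
  have hTi : Function.Bijective (i.baseChange T) := by
    apply OrzechProperty.bijective_of_surjective_of_finrank_le (i.baseChange T)
      (LinearMap.lTensor_surjective T hi)
    rw [finrank_tensor_eq N, Module.finrank_baseChange, Module.finrank_finsupp_self, hcard]
  -- `T ⊗ ker i → T ⊗ F` is injective
  have hA : Function.Injective (((LinearMap.ker i).subtype.restrictScalars A).lTensor A') :=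
    lTensor_ker_subtype_injective i hi A'
  have hB : Function.Injective (((LinearMap.ker i).subtype.restrictScalars B).lTensor T) :=
by
    have hu : ((LinearMap.ker i).subtype.restrictScalars B).restrictScalars A =
        (LinearMap.ker i).subtype.restrictScalars A := LinearMap.ext fun _ => rfl
    have hA' : Function.Injective
        ((((LinearMap.ker i).subtype.restrictScalars B).restrictScalars A).lTensor A') := by
      rw [hu]; exact hA
    have key := @lTensor_injective_of_pushout A B A' B' _ _ _ _ _ _ _ _ _ _ _ _ T _ _ _ _ _
      (LinearMap.ker i) (I →₀ R) _ _ _ _ _ _ _ _ ((LinearMap.ker i).subtype.restrictScalars B)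
    have key2 := key hA'
    exact key2
  have hnat : ∀ w : T ⊗[R] (LinearMap.ker i),
      IsLocalization.moduleTensorEquiv S R T (I →₀ R) ((LinearMap.ker i).subtype.lTensor T w) =
      ((LinearMap.ker i).subtype.restrictScalars B).lTensor T
        (IsLocalization.moduleTensorEquiv S R T (LinearMap.ker i) w) := by
    intro w
    induction w using TensorProduct.induction_on with
    | zero => simp
    | tmul t k => rfl
    | add a b ha hb => simp only [map_add, ha, hb]
  have hR : Function.Injective ((LinearMap.ker i).subtype.lTensor T) := by
    intro w₁ w₂ hw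
    have h3 := congrArg (IsLocalization.moduleTensorEquiv S R T (I →₀ R)) hw
    rw [hnat, hnat] at h3
    exact (IsLocalization.moduleTensorEquiv S R T (LinearMap.ker i)).injective (hB h3)
  -- hence `T ⊗ ker i = 0`
  have hzero : ∀ w : T ⊗[R] (LinearMap.ker i), w = 0 := by
    intro w
    apply hR
    rw [map_zero]
    apply hTi.1
    rw [map_zero]
    show i.lTensor T ((LinearMap.ker i).subtype.lTensor T w) = 0
    rw [← LinearMap.comp_apply, ← LinearMap.lTensor_comp,
      (LinearMap.exact_subtype_ker_map i).linearMap_comp_eq_zero, LinearMap.lTensor_zero,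
      LinearMap.zero_apply]
  haveI : Subsingleton (T ⊗[R] (LinearMap.ker i)) := ⟨fun x y => by rw [hzero x, hzero y]⟩
  haveI : Subsingleton (LinearMap.ker i) :=
    subsingleton_of_subsingleton_tensor (R := R) (T := T) (LinearMap.ker i) ‹_›
  have hinj : Function.Injective i := by
    rw [← LinearMap.ker_eq_bot]
    exact (Submodule.subsingleton_iff_eq_bot).mp inferInstance
  exact Module.Free.of_equiv (LinearEquiv.ofBijective i ⟨hinj, hi⟩)

end Groth.Agent.H57.FreeBC
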