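import Mathlib
import Groth.Agent.H57.GenFlatten
import Groth.Agent.H57.FlatSchKey
import Groth.Agent.H57.ArtFamSch
import Groth.Agent.H8.Coh
import Groth.Agent.H8.PullbackSections
import Groth.Agent.H8.PullbackStalk

/-!
# Flatness of a pulled back quasi-coherent module on an affine chart of a fibre product (helper57)

`pullback_chart_flat_iff`: for `f : X ⟶ Y`, `g : Y' ⟶ Y`, affine opens `V ⊆ Y`, `V' ⊆ g⁻¹ V`,
`W ⊆ f⁻¹ V`, the pullback of a quasi-coherent `F` to `X ×_Y Y'` is flat over `Y'` at all points of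
the chart `W ×_V V'` iff `Γ(Y', V') ⊗_{Γ(Y, V)} Γ(F, W)` is flat over `Γ(Y', V')`.
-/

set_option autoImplicit false
set_option linter.style.haveILetI false

universe u

open TensorProduct CategoryTheory CategoryTheory.Limits AlgebraicGeometry TopologicalSpace

namespace Groth.Agent.H57.GenFlatten

set_option maxHeartbeats 3200000 in
/-- Flatness of the pullback on a chart of the fibre product, in terms of sections. -/
theorem pullback_chart_flat_iff {X Y Y' : Scheme.{u}} (f : X ⟶ Y) (g : Y' ⟶ Y) (F : X.Modules)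
    [F.IsQuasicoherent] {V : Y.Opens} {V' : Y'.Opens} {W : X.Opens} (hV : IsAffineOpen V)
    (hV' : IsAffineOpen V') (hW : IsAffineOpen W) (hV'V : V' ≤ g ⁻¹ᵁ V) (hWV : W ≤ f ⁻¹ᵁ V) :
    letI : Algebra Γ(Y, V) Γ(Y', V') := (g.appLE V V' hV'V).hom.toAlgebra
    letI : Module Γ(Y, V) Γ(F, W) := Module.compHom _ (f.appLE V W hWV).hom
    (∀ x' : ↥(pullback f g), x' ∈ pullback.fst f g ⁻¹ᵁ W ⊓ pullback.snd f g ⁻¹ᵁ V' →
      FlatMod.IsFlatOverAt (pullback.snd f g)
        ((Scheme.Modules.pullback (pullback.fst f g)).obj F) x') ↔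
    Module.Flat Γ(Y', V') (Γ(Y', V') ⊗[Γ(Y, V)] Γ(F, W)) := by
  letI aRB : Algebra Γ(Y, V) Γ(Y', V') := (g.appLE V V' hV'V).hom.toAlgebra
  letI aRC : Algebra Γ(Y, V) Γ(X, W) := (f.appLE V W hWV).hom.toAlgebra
  letI mRP : Module Γ(Y, V) Γ(F, W) := Module.compHom _ (f.appLE V W hWV).hom
  haveI tRCP : IsScalarTower Γ(Y, V) Γ(X, W) Γ(F, W) :=
    IsScalarTower.of_algebraMap_smul fun _ _ => rfl
  let W' : (pullback f g).Opens := pullback.fst f g ⁻¹ᵁ W ⊓ pullback.snd f g ⁻¹ᵁ V'
  have HP := IsPullback.of_hasPullback f g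
  have hW'W : W' ≤ pullback.fst f g ⁻¹ᵁ W := inf_le_left
  have hW'V' : W' ≤ pullback.snd f g ⁻¹ᵁ V' := inf_le_right
  have hW' : IsAffineOpen W' := by
    have : IsAffine V.toScheme := hV
    have : IsAffine V'.toScheme := hV'
    have : IsAffine W.toScheme := hW
    exact .of_isIso (Scheme.Hom.isPullback_resLE HP hV'V hWV (rfl : W' = _)).isoPullback.hom
  have hpo := (isIso_pushoutSection_iff HP hV'V hWV (rfl : W' = _)).mp
    (isIso_pushoutSection_of_isAffineOpen HP hV'V hWV rfl hV hV' hW)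
  letI aCE : Algebra Γ(X, W) Γ(pullback f g, W') :=
    ((pullback.fst f g).appLE W W' hW'W).hom.toAlgebra
  letI aBE : Algebra Γ(Y', V') Γ(pullback f g, W') :=
    ((pullback.snd f g).appLE V' W' hW'V').hom.toAlgebra
  letI aRE : Algebra Γ(Y, V) Γ(pullback f g, W') :=
    (((pullback.fst f g).appLE W W' hW'W).hom.comp (f.appLE V W hWV).hom).toAlgebra
  haveI t1 : IsScalarTower Γ(Y, V) Γ(X, W) Γ(pullback f g, W') := .of_algebraMap_eq' rfl
  have hcomp : algebraMap Γ(Y, V) Γ(pullback f g, W') =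
      (algebraMap Γ(Y', V') Γ(pullback f g, W')).comp (algebraMap Γ(Y, V) Γ(Y', V')) := by
    change (((pullback.fst f g).appLE W W' hW'W).hom.comp (f.appLE V W hWV).hom) =
      (((pullback.snd f g).appLE V' W' hW'V').hom.comp (g.appLE V V' hV'V).hom)
    rw [← CommRingCat.hom_comp, ← CommRingCat.hom_comp, hpo.w]
  haveI t2 : IsScalarTower Γ(Y, V) Γ(Y', V') Γ(pullback f g, W') := .of_algebraMap_eq' hcomp
  haveI po1 : Algebra.IsPushout Γ(Y, V) Γ(X, W) Γ(Y', V') Γ(pullback f g, W') :=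
    CommRingCat.isPushout_iff_isPushout.mp hpo
  haveI po2 : Algebra.IsPushout Γ(Y, V) Γ(Y', V') Γ(X, W) Γ(pullback f g, W') :=
    Algebra.IsPushout.symm po1
  haveI hqc' := Groth.Agent.H8.isQuasicoherent_pullback (pullback.fst f g) F
  letI mBN : Module Γ(Y', V') Γ((Scheme.Modules.pullback (pullback.fst f g)).obj F, W') :=
    Module.compHom _ ((pullback.snd f g).appLE V' W' hW'V').hom
  haveI tBEN : IsScalarTower Γ(Y', V') Γ(pullback f g, W')
      Γ((Scheme.Modules.pullback (pullback.fst f g)).obj F, W') :=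
    IsScalarTower.of_algebraMap_smul fun _ _ => rfl
  let Eq : Γ((Scheme.Modules.pullback (pullback.fst f g)).obj F, W') ≃ₗ[Γ(pullback f g, W')]
      Γ(pullback f g, W') ⊗[Γ(X, W)] Γ(F, W) :=
    Groth.Agent.H8.sectionsPullbackEquiv (pullback.fst f g) F hW hW' hW'W
  let e : Γ((Scheme.Modules.pullback (pullback.fst f g)).obj F, W') ≃ₗ[Γ(Y', V')]
      Γ(Y', V') ⊗[Γ(Y, V)] Γ(F, W) :=
    (Eq.restrictScalars Γ(Y', V')) ≪≫ₗ
      Algebra.IsPushout.cancelBaseChange Γ(Y, V) Γ(Y', V') Γ(X, W) Γ(pullback f g, W') Γ(F, W)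
  constructor
  · intro h
    have hfl : Module.Flat Γ(Y', V')
        Γ((Scheme.Modules.pullback (pullback.fst f g)).obj F, W') :=
      Groth.Agent.H57.flat_sections_of_isFlatOverAt (pullback.snd f g)
        ((Scheme.Modules.pullback (pullback.fst f g)).obj F) hV' hW' hW'V' (fun y hy => h y hy)
    exact Module.Flat.of_linearEquiv e.symm
  · intro hfl x' hx'
    haveI hfl' : Module.Flat Γ(Y', V')
        Γ((Scheme.Modules.pullback (pullback.fst f g)).obj F, W') :=
      Module.Flat.of_linearEquiv e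
    exact (Groth.Agent.H57.isFlatOverAt_iff_flat_localizedModule (pullback.snd f g)
      ((Scheme.Modules.pullback (pullback.fst f g)).obj F) hV' hW' hW'V' x' hx').mpr
      (flat_localizedModule_of_flat _ _)

end Groth.Agent.H57.GenFlatten
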