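import Mathlib

/-!
# Two linear algebra lemmas (squad lemmas for S11188, requested by helper62)

* `exists_det_ne_zero` (M2)
* `eq_zero_of_forall_lTensor` (C3)
-/

set_option autoImplicit false

universe u

open scoped TensorProduct

namespace Groth.Agent.H57.GrossLin

/-- (M2) a separating family of functionals contains, for `n` independent vectors, `n` functionals
with nonvanishing pairing determinant. -/
theorem exists_det_ne_zero {k : Type*} [Field k] {O : Type*} [AddCommGroup O] [Module k O]
    {P : Type*} (e : P → (O →ₗ[k] k)) (hsep : ∀ f : O, (∀ p, e p f = 0) → f = 0)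
    (n : ℕ) (w : Fin n → O) (hw : LinearIndependent k w) :
    ∃ y : Fin n → P, (Matrix.of fun i m => e (y m) (w i)).det ≠ 0 := by
  induction n with
  | zero => exact ⟨Fin.elim0, by simp⟩
  | succ n ih =>
    have hw' : LinearIndependent k (fun i : Fin n => w i.castSucc) :=
      hw.comp _ (Fin.castSucc_injective n)
    obtain ⟨y', hy'⟩ := ih (fun i => w i.castSucc) hw'
    let c : Fin (n + 1) → k := fun i => (-1) ^ ((i : ℕ) + n) *
      (Matrix.of fun (a : Fin n) (m : Fin n) => e (y' m) (w (i.succAbove a))).det
    let f : O := ∑ i, c i • w i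
    have hdet : ∀ p : P, (Matrix.of fun (i : Fin (n + 1)) (m : Fin (n + 1)) =>
        e (Fin.snoc (α := fun _ => P) y' p m) (w i)).det = e p f := by
      intro p
      rw [Matrix.det_succ_column _ (Fin.last n)]
      simp only [f, map_sum, map_smul, smul_eq_mul]
      apply Finset.sum_congr rfl
      intro i _
      have h1 : (Matrix.of fun (i : Fin (n + 1)) (m : Fin (n + 1)) =>
          e (Fin.snoc (α := fun _ => P) y' p m) (w i)) i (Fin.last n) = e p (w i) := by
        simp [Matrix.of_apply, Fin.snoc_last]
      have h2 : (Matrix.of fun (i : Fin (n + 1)) (m : Fin (n + 1)) =>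
          e (Fin.snoc (α := fun _ => P) y' p m) (w i)).submatrix i.succAbove
            (Fin.last n).succAbove =
          Matrix.of fun (a : Fin n) (m : Fin n) => e (y' m) (w (i.succAbove a)) := by
        ext a m
        simp [Matrix.submatrix_apply, Fin.succAbove_last, Fin.snoc_castSucc]
      rw [h1, h2]
      simp only [c, Fin.val_last]
      ring
    have hf : f ≠ 0 := by
      intro hf0
      have h3 := Fintype.linearIndependent_iff.mp hw c hf0 (Fin.last n)
      have h4 : c (Fin.last n) = (Matrix.of fun (i : Fin n) (m : Fin n) =>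
          e (y' m) (w i.castSucc)).det := by
        simp only [c, Fin.val_last, Fin.succAbove_last]
        rw [Even.neg_one_pow ⟨n, rfl⟩, one_mul]
      rw [h4] at h3
      exact hy' h3
    obtain ⟨p, hp⟩ : ∃ p, e p f ≠ 0 := by
      by_contra hcon
      push Not at hcon
      exact hf (hsep f hcon)
    exact ⟨Fin.snoc (α := fun _ => P) y' p, by rw [hdet p]; exact hp⟩

/-- (C3) an element of `B ⊗[k] V` killed by all `id ⊗ l`, `l ∈ V^*`, is zero. -/
theorem eq_zero_of_forall_lTensor (k : Type u) [Field k] (B : Type u) [CommRing B] [Algebra k B]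
    (V : Type u) [AddCommGroup V] [Module k V] (z : B ⊗[k] V)
    (h : ∀ l : V →ₗ[k] k, (TensorProduct.rid k B) (l.lTensor B z) = 0) : z = 0 := by
  let b := Module.Free.chooseBasis k V
  have key : ∀ (z : B ⊗[k] V) (i : Module.Free.ChooseBasisIndex k V),
      (Algebra.TensorProduct.basis B b).repr z i =
        (TensorProduct.rid k B) ((b.coord i).lTensor B z) := by
    intro z i
    induction z using TensorProduct.induction_on with
    | zero => simp
    | tmul a v =>
      rw [Algebra.TensorProduct.basis_repr_tmul, LinearMap.lTensor_tmul, TensorProduct.rid_tmul]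
      simp [Algebra.smul_def, mul_comm]
    | add x y hx hy => rw [map_add, map_add, map_add, Finsupp.add_apply, hx, hy]
  have h0 : (Algebra.TensorProduct.basis B b).repr z = 0 := by
    ext i
    rw [key z i, h (b.coord i)]
    rfl
  exact (LinearEquiv.map_eq_zero_iff _).mp h0

end Groth.Agent.H57.GrossLin
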