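import Groth.Agent.H62.GrossA

/-!
# A rational module from a matrix of functions (squad lemma (M1) for S11188, requested by helper62)
-/

set_option autoImplicit false

universe u

open CategoryTheory MonoidalCategory CartesianMonoidalCategory MonObj GrpObj AlgebraicGeometry
open scoped TensorProduct
open Groth.Agent.H62.GrossA

attribute [local instance] Groth.Agent.H62.GrossA.algΓ

namespace Groth.Agent.H57.GrossM1

variable {k : Type u} [Field k]

/-- The identification `B ⊗[k] (Fin n → k) ≃ (Fin n → B)`. -/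
noncomputable abbrev eB (B : Type u) [CommRing B] [Algebra k B] (n : ℕ) :
    B ⊗[k] (Fin n → k) ≃ₗ[B] (Fin n → B) :=
  TensorProduct.piScalarRight k B B (Fin n)

theorem eB_tmul (B : Type u) [CommRing B] [Algebra k B] (n : ℕ) (b : B) (v : Fin n → k) :
    eB (k := k) B n (b ⊗ₜ[k] v) = fun j => v j • b := by
  rw [TensorProduct.piScalarRight_apply, TensorProduct.piScalarRightHom_tmul]

/-- The endomorphism of `B ⊗[k] (Fin n → k)` given by a matrix over `B`. -/
noncomputable def TB (B : Type u) [CommRing B] [Algebra k B] (n : ℕ)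
    (D : Matrix (Fin n) (Fin n) B) : (B ⊗[k] (Fin n → k)) →ₗ[B] (B ⊗[k] (Fin n → k)) :=
  (eB (k := k) B n).symm.toLinearMap ∘ₗ Matrix.toLin' D ∘ₗ (eB (k := k) B n).toLinearMap

theorem TB_apply (B : Type u) [CommRing B] [Algebra k B] (n : ℕ)
    (D : Matrix (Fin n) (Fin n) B) (z : B ⊗[k] (Fin n → k)) :
    TB (k := k) B n D z = (eB (k := k) B n).symm (D.mulVec (eB (k := k) B n z)) := rfl

theorem TB_mul (B : Type u) [CommRing B] [Algebra k B] (n : ℕ)
    (D D' : Matrix (Fin n) (Fin n) B) :
    TB (k := k) B n (D * D') = TB (k := k) B n D ∘ₗ TB (k := k) B n D' := by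
  refine LinearMap.ext fun z => ?_
  rw [LinearMap.comp_apply, TB_apply, TB_apply, TB_apply, LinearEquiv.apply_symm_apply,
    Matrix.mulVec_mulVec]

theorem TB_one (B : Type u) [CommRing B] [Algebra k B] (n : ℕ) :
    TB (k := k) B n (1 : Matrix (Fin n) (Fin n) B) = LinearMap.id := by
  refine LinearMap.ext fun z => ?_
  rw [TB_apply, Matrix.one_mulVec, LinearEquiv.symm_apply_apply, LinearMap.id_apply]

theorem eB_Wmap {B B' : Type u} [CommRing B] [Algebra k B] [CommRing B'] [Algebra k B']
    (n : ℕ) (φ : B →ₐ[k] B') (z : B ⊗[k] (Fin n → k)) :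
    eB (k := k) B' n (VecGrp.Wmap (M := Fin n → k) φ z) = fun j => φ (eB (k := k) B n z j) := by
  induction z using TensorProduct.induction_on with
  | zero =>
    rw [map_zero, map_zero, map_zero]
    funext j
    simp
  | tmul b v =>
    rw [VecGrp.Wmap_tmul, eB_tmul, eB_tmul]
    funext j
    rw [map_smul]
  | add x y hx hy =>
    rw [map_add, map_add, hx, hy, map_add]
    funext j
    simp

theorem exists_gmod_of_matrix {k : Type u} [Field k] {G : Over (Spec (CommRingCat.of k))} [GrpObj G]
    (n : ℕ) (d : Matrix (Fin n) (Fin n) Γ(G.left, ⊤))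
    (hmul : ∀ (B : Type u) [CommRing B] [Algebra k B] (x y : VecGrp.pt k B ⟶ G),
      d.map (fun f => ev (x * y) f) = d.map (fun f => ev x f) * d.map (fun f => ev y f))
    (hone : ∀ (B : Type u) [CommRing B] [Algebra k B],
      d.map (fun f => ev (1 : VecGrp.pt k B ⟶ G) f) = 1) :
    ∃ ρ : VecGrp.GMod G (Fin n → k), ∀ (x : VecGrp.pt k k ⟶ G) (v : Fin n → k),
      ρ.ρ k x ((1 : k) ⊗ₜ[k] v) = (1 : k) ⊗ₜ[k] ((d.map (fun f => ev x f)).mulVec v) := by
  -- the inverse relations
  have hinv1 : ∀ (B : Type u) [CommRing B] [Algebra k B] (x : VecGrp.pt k B ⟶ G),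
      TB (k := k) B n (d.map (fun f => ev x f)) ∘ₗ TB (k := k) B n (d.map (fun f => ev x⁻¹ f)) =
        LinearMap.id := by
    intro B _ _ x
    rw [← TB_mul, ← hmul, mul_inv_cancel, hone, TB_one]
  have hinv2 : ∀ (B : Type u) [CommRing B] [Algebra k B] (x : VecGrp.pt k B ⟶ G),
      TB (k := k) B n (d.map (fun f => ev x⁻¹ f)) ∘ₗ TB (k := k) B n (d.map (fun f => ev x f)) =
        LinearMap.id := by
    intro B _ _ x
    rw [← TB_mul, ← hmul, inv_mul_cancel, hone, TB_one]
  refine ⟨{ ρ := fun B _ _ =>
              { toFun := fun x => LinearEquiv.ofLinearMap (TB (k := k) B n (d.map (fun f => ev x f)))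
                  (TB (k := k) B n (d.map (fun f => ev x⁻¹ f))) (hinv1 B x) (hinv2 B x)
                map_one' := by
                  apply LinearEquiv.toLinearMap_injective
                  show TB (k := k) B n (d.map (fun f => ev (1 : VecGrp.pt k B ⟶ G) f)) = _
                  rw [hone, TB_one]
                  rfl
                map_mul' := fun x y => by
                  apply LinearEquiv.toLinearMap_injective
                  show TB (k := k) B n (d.map (fun f => ev (x * y) f)) = _
                  rw [hmul, TB_mul]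
                  rfl }
            naturality := ?_ }, ?_⟩
  · intro B B' _ _ _ _ φ g x
    show VecGrp.Wmap φ (TB (k := k) B n (d.map (fun f => ev g f)) x) =
      TB (k := k) B' n (d.map (fun f => ev (VecGrp.ptMap φ ≫ g) f)) (VecGrp.Wmap φ x)
    apply (eB (k := k) B' n).injective
    rw [eB_Wmap, TB_apply, TB_apply, LinearEquiv.apply_symm_apply, LinearEquiv.apply_symm_apply,
      eB_Wmap]
    funext i
    have h1 : d.map (fun f => ev (VecGrp.ptMap φ ≫ g) f) =
        (d.map (fun f => ev g f)).map φ.toRingHom := by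
      ext a b
      simp only [Matrix.map_apply]
      exact ev_ptMap φ g (d a b)
    rw [h1]
    exact (RingHom.map_mulVec φ.toRingHom (d.map (fun f => ev g f))
      (eB (k := k) B n x) i)
  · intro x v
    show TB (k := k) k n (d.map (fun f => ev x f)) ((1 : k) ⊗ₜ[k] v) = _
    rw [TB_apply, LinearEquiv.symm_apply_eq, eB_tmul, eB_tmul]
    have h2 : ∀ u : Fin n → k, (fun j => u j • (1 : k)) = u := by
      intro u
      funext j
      rw [smul_eq_mul, _root_.mul_one]
    rw [h2, h2]

end Groth.Agent.H57.GrossM1
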