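import Mathlib
import Groth.Agent.H24.PullSections
import Groth.Agent.H49.InjCokerOpen
import Groth.Agent.H57.GenFlattenSch

/-!
# Chart-level tools for "injective with flat cokernel" under base change (helper57)

* `mem_range_lTensor_ker_of_flat_coker`: if `Coker u` is flat, the kernel of `A ⊗ u` is the image of
  `A ⊗ Ker u`.
* `exists_chartEquiv`: sections of a pulled back quasi-coherent module on an affine chart of a fibre
  product, as a tensor product over the base, tracking pulled back sections.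
* `stalkMap_injective_iff_chart`: injectivity of a stalk map in terms of sections on an affine chart.
* `smul_eq_zero_of_app_pullback_eq_zero`: if `Coker u` is flat over the base on a chart, a section
  killing the pulled back generators of `Ker u` kills the kernel of the pulled back map.
-/

set_option autoImplicit false
set_option linter.style.haveILetI false

universe u

open TensorProduct CategoryTheory CategoryTheory.Limits AlgebraicGeometry TopologicalSpace

namespace Groth.Agent.H57.InjCokerChart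

open Groth.Agent.H39.PullTrack

/-- If `Coker u` is flat, the kernel of `A ⊗ u` is the image of `A ⊗ Ker u`. -/
theorem mem_range_lTensor_ker_of_flat_coker {R M N C : Type*} [CommRing R]
    [AddCommGroup M] [Module R M] [AddCommGroup N] [Module R N] [AddCommGroup C] [Module R C]
    [Module.Flat R C] (u : M →ₗ[R] N) (p : N →ₗ[R] C) (hp : Function.Surjective p)
    (hex : Function.Exact u p) (A : Type*) [AddCommGroup A] [Module R A]
    (t : A ⊗[R] M) (ht : u.lTensor A t = 0) :
    t ∈ LinearMap.range ((LinearMap.ker u).subtype.lTensor A) := by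
  let u' : M →ₗ[R] LinearMap.ker p :=
    u.codRestrict (LinearMap.ker p) (fun m => hex.apply_apply_eq_zero m)
  have hu' : (LinearMap.ker p).subtype ∘ₗ u' = u := rfl
  have hsurj : Function.Surjective u' := by
    rintro ⟨n, hn⟩
    obtain ⟨m, rfl⟩ := (hex n).mp hn
    exact ⟨m, rfl⟩
  have hinj : Function.Injective ((LinearMap.ker p).subtype.lTensor A) :=
    LinearMap.lTensor_injective_of_exact_of_flat p hp _ (LinearMap.ker p).subtype_injective
      (LinearMap.exact_subtype_ker_map p) A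
  have h1 : u'.lTensor A t = 0 := by
    apply hinj
    rw [map_zero, ← LinearMap.comp_apply, ← LinearMap.lTensor_comp, hu', ht]
  have hex' : Function.Exact ((LinearMap.ker u').subtype.lTensor A) (u'.lTensor A) :=
    lTensor_exact A (LinearMap.exact_subtype_ker_map u') hsurj
  obtain ⟨y, hy⟩ := (hex' t).mp h1
  have hker : LinearMap.ker u' = LinearMap.ker u := by
    ext m
    simp only [LinearMap.mem_ker]
    constructor
    · intro h
      rw [← hu', LinearMap.comp_apply, h, map_zero]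
    · intro h
      apply Subtype.ext
      exact h
  rw [← hker]
  exact ⟨y, hy⟩

section Chart

variable {X Y Y' X' : Scheme.{u}} {f : X ⟶ Y} {g : Y' ⟶ Y} {p : X' ⟶ X} {f' : X' ⟶ Y'}
  (sq : IsPullback p f' f g)
  {V : Y.Opens} {V' : Y'.Opens} {W : X.Opens} {W' : X'.Opens}
  (hV : IsAffineOpen V) (hV' : IsAffineOpen V') (hW : IsAffineOpen W)
  (hV'V : V' ≤ g ⁻¹ᵁ V) (hWV : W ≤ f ⁻¹ᵁ V) (hW' : W' = p ⁻¹ᵁ W ⊓ f' ⁻¹ᵁ V')

include sq hV hV' hW hV'V hWV hW' in
theorem isAffineOpen_chart : IsAffineOpen W' := by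
  have : IsAffine V.toScheme := hV
  have : IsAffine V'.toScheme := hV'
  have : IsAffine W.toScheme := hW
  exact .of_isIso (Scheme.Hom.isPullback_resLE sq hV'V hWV hW').isoPullback.hom

set_option maxHeartbeats 1600000 in
include sq hV hV' hW in
/-- Sections of the pullback of a quasi-coherent module on an affine chart of a fibre product, as a
tensor product over the base. -/
theorem exists_chartEquiv (F : X.Modules) [F.IsQuasicoherent] :
    letI : Algebra Γ(Y, V) Γ(Y', V') := (g.appLE V V' hV'V).hom.toAlgebra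
    letI : Module Γ(Y, V) Γ(F, W) := Module.compHom _ (f.appLE V W hWV).hom
    letI : Module Γ(Y', V') Γ((Scheme.Modules.pullback p).obj F, W') :=
      Module.compHom _ (f'.appLE V' W' (hW'.le.trans inf_le_right)).hom
    ∃ ε : Γ(Y', V') ⊗[Γ(Y, V)] Γ(F, W) ≃ₗ[Γ(Y', V')]
        Γ((Scheme.Modules.pullback p).obj F, W'),
      ∀ (a : Γ(Y', V')) (m : Γ(F, W)), ε (a ⊗ₜ m) =
        (f'.appLE V' W' (hW'.le.trans inf_le_right) a) •
          pullSectLE p F W W' (hW'.le.trans inf_le_left) m := by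
  letI aRB : Algebra Γ(Y, V) Γ(Y', V') := (g.appLE V V' hV'V).hom.toAlgebra
  letI aRC : Algebra Γ(Y, V) Γ(X, W) := (f.appLE V W hWV).hom.toAlgebra
  letI mRP : Module Γ(Y, V) Γ(F, W) := Module.compHom _ (f.appLE V W hWV).hom
  haveI tRCP : IsScalarTower Γ(Y, V) Γ(X, W) Γ(F, W) :=
    IsScalarTower.of_algebraMap_smul fun _ _ => rfl
  have hW'W : W' ≤ p ⁻¹ᵁ W := hW'.le.trans inf_le_left
  have hW'V' : W' ≤ f' ⁻¹ᵁ V' := hW'.le.trans inf_le_right
  have hW'aff : IsAffineOpen W' := isAffineOpen_chart sq hV hV' hW hV'V hWV hW'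
  have hpo := (isIso_pushoutSection_iff sq hV'V hWV hW').mp
    (isIso_pushoutSection_of_isAffineOpen sq hV'V hWV hW' hV hV' hW)
  letI aCE : Algebra Γ(X, W) Γ(X', W') := (p.appLE W W' hW'W).hom.toAlgebra
  letI aBE : Algebra Γ(Y', V') Γ(X', W') := (f'.appLE V' W' hW'V').hom.toAlgebra
  letI aRE : Algebra Γ(Y, V) Γ(X', W') :=
    ((p.appLE W W' hW'W).hom.comp (f.appLE V W hWV).hom).toAlgebra
  haveI t1 : IsScalarTower Γ(Y, V) Γ(X, W) Γ(X', W') := .of_algebraMap_eq' rfl
  have hcomp : algebraMap Γ(Y, V) Γ(X', W') =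
      (algebraMap Γ(Y', V') Γ(X', W')).comp (algebraMap Γ(Y, V) Γ(Y', V')) := by
    change ((p.appLE W W' hW'W).hom.comp (f.appLE V W hWV).hom) =
      ((f'.appLE V' W' hW'V').hom.comp (g.appLE V V' hV'V).hom)
    rw [← CommRingCat.hom_comp, ← CommRingCat.hom_comp, hpo.w]
  haveI t2 : IsScalarTower Γ(Y, V) Γ(Y', V') Γ(X', W') := .of_algebraMap_eq' hcomp
  haveI po1 : Algebra.IsPushout Γ(Y, V) Γ(X, W) Γ(Y', V') Γ(X', W') :=
    CommRingCat.isPushout_iff_isPushout.mp hpo
  haveI po2 : Algebra.IsPushout Γ(Y, V) Γ(Y', V') Γ(X, W) Γ(X', W') :=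
    Algebra.IsPushout.symm po1
  letI mBN : Module Γ(Y', V') Γ((Scheme.Modules.pullback p).obj F, W') :=
    Module.compHom _ (f'.appLE V' W' hW'V').hom
  haveI tBEN : IsScalarTower Γ(Y', V') Γ(X', W')
      Γ((Scheme.Modules.pullback p).obj F, W') :=
    IsScalarTower.of_algebraMap_smul fun _ _ => rfl
  obtain ⟨E, hE⟩ := exists_sectionsPullbackEquiv p F hW hW'aff hW'W
  let e : Γ((Scheme.Modules.pullback p).obj F, W') ≃ₗ[Γ(Y', V')]
      Γ(Y', V') ⊗[Γ(Y, V)] Γ(F, W) :=
    (E.restrictScalars Γ(Y', V')) ≪≫ₗ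
      Algebra.IsPushout.cancelBaseChange Γ(Y, V) Γ(Y', V') Γ(X, W) Γ(X', W') Γ(F, W)
  refine ⟨e.symm, fun a m => ?_⟩
  rw [LinearEquiv.symm_apply_eq]
  symm
  change Algebra.IsPushout.cancelBaseChange Γ(Y, V) Γ(Y', V') Γ(X, W) Γ(X', W') Γ(F, W)
    (E ((f'.appLE V' W' hW'V' a) • pullSectLE p F W W' hW'W m)) = a ⊗ₜ m
  rw [map_smul, hE, ← LinearEquiv.eq_symm_apply, Algebra.IsPushout.cancelBaseChange_symm_tmul,
    TensorProduct.smul_tmul', smul_eq_mul, mul_one]
  rfl

end Chart

section Criterion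

variable {X : Scheme.{u}} {F' F : X.Modules} (u : F' ⟶ F)

/-- Injectivity of the stalk map of `u` at a point of an affine open, in terms of sections. -/
theorem stalkMap_injective_iff_chart [F'.IsQuasicoherent] [F.IsQuasicoherent]
    {U : X.Opens} (hU : IsAffineOpen U) (x : X) (hxU : x ∈ U) :
    Function.Injective ((TopCat.Presheaf.stalkFunctor Ab x).map
        (Scheme.Modules.Hom.mapPresheaf u)) ↔
      ∀ m' : Γ(F', U), u.app U m' = 0 → ∃ a : Γ(X, U), x ∈ X.basicOpen a ∧ a • m' = 0 := by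
  change Function.Injective (Groth.Agent.H8.stalkMap u x) ↔ _
  constructor
  · intro hinj m' hm'
    have h0 : F'.presheaf.germ U x hxU m' = 0 := by
      apply hinj
      rw [map_zero, Groth.Agent.H8.stalkMap_germ, hm', map_zero]
    obtain ⟨a, hxa, ha⟩ :=
      Groth.Agent.H8.exists_smul_eq_zero_of_germ_eq_zero F' hU x hxU m' h0
    exact ⟨a, hxa, ha⟩
  · intro h
    rw [Groth.Agent.H8.stalkMap_injective_iff, Groth.Agent.H8.subsingleton_stalk_iff]
    intro t
    haveI : (kernel u).IsQuasicoherent := Groth.Agent.H22.QCohLimits.isQuasicoherent_kernel u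
    obtain ⟨b, hxb, k, hk⟩ := Groth.Agent.H8.exists_germ_smul_eq_germ (kernel u) hU x hxU t
    obtain ⟨a, hxa, ha⟩ := h ((kernel.ι u).app U k) (Groth.Agent.H49.InjCoker.app_app_kernel u k)
    have hak : a • k = 0 := by
      apply Groth.Agent.H49.InjCoker.kernel_app_injective u
      rw [Scheme.Modules.Hom.app_smul, map_zero]
      exact ha
    have hgk : (kernel u).presheaf.germ U x hxU k = 0 := by
      have h1 := congrArg ((kernel u).presheaf.germ U x hxU) hak
      rw [Groth.Agent.H8.germ_smul, map_zero] at h1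
      have hunit : IsUnit (X.presheaf.germ U x hxU a) := (Scheme.mem_basicOpen _ _ _ hxU).mp hxa
      exact hunit.smul_eq_zero.mp h1
    rw [hgk] at hk
    have hunit : IsUnit (X.presheaf.germ U x hxU b) := (Scheme.mem_basicOpen _ _ _ hxU).mp hxb
    exact hunit.smul_eq_zero.mp hk

/-- If all stalk maps of `u` at the points of `U` are injective, then `u` is injective on sections
over `U`. -/
theorem app_eq_zero_of_forall_stalkMap_injective (U : X.Opens)
    (h : ∀ x ∈ U, Function.Injective ((TopCat.Presheaf.stalkFunctor Ab x).map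
        (Scheme.Modules.Hom.mapPresheaf u)))
    (m' : Γ(F', U)) (hm' : u.app U m' = 0) : m' = 0 := by
  refine TopCat.Presheaf.section_ext ⟨F'.presheaf, F'.isSheaf⟩ U m' 0 (fun y hy => ?_)
  have hy' : Function.Injective (Groth.Agent.H8.stalkMap u y) := h y hy
  have h0 : F'.presheaf.germ U y hy m' = 0 := by
    apply hy'
    rw [map_zero, Groth.Agent.H8.stalkMap_germ, hm', map_zero]
  rw [h0, map_zero]

/-- Finitely many sections, each killed by a function invertible at `x`, are killed by a common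
function invertible at `x`. -/
theorem exists_common_killer (M : X.Modules) {U : X.Opens} (x : X) (hxU : x ∈ U) {r : ℕ}
    (κ : Fin r → Γ(M, U)) (h : ∀ i, ∃ a : Γ(X, U), x ∈ X.basicOpen a ∧ a • κ i = 0) :
    ∃ a : Γ(X, U), x ∈ X.basicOpen a ∧ ∀ i, a • κ i = 0 := by
  classical
  choose a ha using h
  refine ⟨∏ i, a i, ?_, fun i => ?_⟩
  · rw [Scheme.mem_basicOpen _ _ _ hxU, map_prod]
    exact IsUnit.prod_univ_iff.mpr fun i => (Scheme.mem_basicOpen _ _ _ hxU).mp (ha i).1
  · rw [← Finset.prod_erase_mul Finset.univ a (Finset.mem_univ i), mul_smul, (ha i).2, smul_zero]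

end Criterion

section Gen

variable {X Y Y' X' : Scheme.{u}} {f : X ⟶ Y} {g : Y' ⟶ Y} {p : X' ⟶ X} {f' : X' ⟶ Y'}
  (sq : IsPullback p f' f g)
  {V : Y.Opens} {V' : Y'.Opens} {W : X.Opens} {W' : X'.Opens}
  (hV : IsAffineOpen V) (hV' : IsAffineOpen V') (hW : IsAffineOpen W)
  (hV'V : V' ≤ g ⁻¹ᵁ V) (hWV : W ≤ f ⁻¹ᵁ V) (hW' : W' = p ⁻¹ᵁ W ⊓ f' ⁻¹ᵁ V')

set_option maxHeartbeats 1600000 in
include sq hV hV' hW hV'V in
/-- If `Coker u` is flat over the base on the chart `W`, then a function on the chart `W'` of the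
fibre product killing the pullbacks of generators of `Ker Γ(u, W)` kills the kernel of
`Γ(p^* u, W')`. -/
theorem smul_eq_zero_of_app_pullback_eq_zero {F G : X.Modules} [F.IsQuasicoherent]
    [G.IsQuasicoherent] (u : F ⟶ G)
    (hflat : letI := Module.compHom Γ(cokernel u, W) (f.appLE V W hWV).hom
      Module.Flat Γ(Y, V) Γ(cokernel u, W))
    {r : ℕ} (κ : Fin r → Γ(F, W))
    (hκ : ∀ m : Γ(F, W), u.app W m = 0 → m ∈ Submodule.span Γ(X, W) (Set.range κ))
    (s : Γ(X', W'))
    (hs : ∀ i, s • pullSectLE p F W W' (hW'.le.trans inf_le_left) (κ i) = 0)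
    (z : Γ((Scheme.Modules.pullback p).obj F, W'))
    (hz : ((Scheme.Modules.pullback p).map u).app W' z = 0) : s • z = 0 := by
  have hW'W : W' ≤ p ⁻¹ᵁ W := hW'.le.trans inf_le_left
  have hW'V' : W' ≤ f' ⁻¹ᵁ V' := hW'.le.trans inf_le_right
  letI aRB : Algebra Γ(Y, V) Γ(Y', V') := (g.appLE V V' hV'V).hom.toAlgebra
  letI aRC : Algebra Γ(Y, V) Γ(X, W) := (f.appLE V W hWV).hom.toAlgebra
  letI mF : Module Γ(Y, V) Γ(F, W) := Module.compHom _ (f.appLE V W hWV).hom
  haveI tF : IsScalarTower Γ(Y, V) Γ(X, W) Γ(F, W) :=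
    IsScalarTower.of_algebraMap_smul fun _ _ => rfl
  letI mG : Module Γ(Y, V) Γ(G, W) := Module.compHom _ (f.appLE V W hWV).hom
  haveI tG : IsScalarTower Γ(Y, V) Γ(X, W) Γ(G, W) :=
    IsScalarTower.of_algebraMap_smul fun _ _ => rfl
  letI mC : Module Γ(Y, V) Γ(cokernel u, W) := Module.compHom _ (f.appLE V W hWV).hom
  haveI tC : IsScalarTower Γ(Y, V) Γ(X, W) Γ(cokernel u, W) :=
    IsScalarTower.of_algebraMap_smul fun _ _ => rfl
  haveI : Module.Flat Γ(Y, V) Γ(cokernel u, W) := hflat
  letI mpF : Module Γ(Y', V') Γ((Scheme.Modules.pullback p).obj F, W') :=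
    Module.compHom _ (f'.appLE V' W' hW'V').hom
  letI mpG : Module Γ(Y', V') Γ((Scheme.Modules.pullback p).obj G, W') :=
    Module.compHom _ (f'.appLE V' W' hW'V').hom
  obtain ⟨εF, hεF⟩ := exists_chartEquiv sq hV hV' hW hV'V hWV hW' F
  obtain ⟨εG, hεG⟩ := exists_chartEquiv sq hV hV' hW hV'V hWV hW' G
  let uW : Γ(F, W) →ₗ[Γ(Y, V)] Γ(G, W) := (Groth.Agent.H8.appₗ u W).restrictScalars Γ(Y, V)
  let pW : Γ(G, W) →ₗ[Γ(Y, V)] Γ(cokernel u, W) :=
    (Groth.Agent.H8.appₗ (cokernel.π u) W).restrictScalars Γ(Y, V)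
  have hpW : Function.Surjective pW := Groth.Agent.H49.InjCoker.app_π_surjective u hW
  have hex : Function.Exact uW pW := Groth.Agent.H49.InjCoker.exact_appₗ u hW
  -- `s` kills the pullback of every element of the kernel
  have hs'' : ∀ m : Γ(F, W), m ∈ Submodule.span Γ(X, W) (Set.range κ) →
      s • pullSectLE p F W W' hW'W m = 0 := by
    intro m hm'
    induction hm' using Submodule.span_induction with
    | mem y hy =>
      obtain ⟨i, rfl⟩ := hy
      exact hs i
    | zero => rw [map_zero, smul_zero]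
    | add y y' _ _ hy hy' => rw [map_add, smul_add, hy, hy', add_zero]
    | smul b y _ hy =>
      rw [Groth.Agent.H24.PullSections.pullSectLE_smul, smul_comm, hy, smul_zero]
  have hs' : ∀ m : Γ(F, W), u.app W m = 0 → s • pullSectLE p F W W' hW'W m = 0 :=
    fun m hm => hs'' m (hκ m hm)
  -- naturality of the chart equivalences
  have nat : ∀ t : Γ(Y', V') ⊗[Γ(Y, V)] Γ(F, W),
      ((Scheme.Modules.pullback p).map u).app W' (εF t) = εG (uW.lTensor Γ(Y', V') t) := by
    intro t
    induction t using TensorProduct.induction_on with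
    | zero => rw [map_zero, map_zero, map_zero, map_zero]
    | tmul a m =>
      rw [hεF, Scheme.Modules.Hom.app_smul, map_pullSectLE, LinearMap.lTensor_tmul, hεG]
      rfl
    | add y y' hy hy' => rw [map_add, map_add, hy, hy', map_add, map_add]
  have ht : uW.lTensor Γ(Y', V') (εF.symm z) = 0 := by
    apply εG.injective
    rw [← nat, εF.apply_symm_apply, hz, map_zero]
  obtain ⟨t', ht'⟩ := mem_range_lTensor_ker_of_flat_coker uW pW hpW hex Γ(Y', V') (εF.symm z) ht
  have key : ∀ t' : Γ(Y', V') ⊗[Γ(Y, V)] LinearMap.ker uW,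
      s • εF ((LinearMap.ker uW).subtype.lTensor Γ(Y', V') t') = 0 := by
    intro t'
    induction t' using TensorProduct.induction_on with
    | zero => rw [map_zero, map_zero, smul_zero]
    | tmul a k =>
      rw [LinearMap.lTensor_tmul, hεF, smul_comm]
      have hk0 : uW (k : Γ(F, W)) = 0 := LinearMap.mem_ker.mp k.2
      have hk : u.app W (k : Γ(F, W)) = 0 := hk0
      rw [Submodule.subtype_apply, hs' _ hk, smul_zero]
    | add y y' hy hy' => rw [map_add, map_add, smul_add, hy, hy', add_zero]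
  have hz' : z = εF (εF.symm z) := (εF.apply_symm_apply z).symm
  rw [hz', ← ht']
  exact key t'

end Gen

end Groth.Agent.H57.InjCokerChart
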