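import Mathlib
import Groth.Agent.S4848
import Groth.Agent.H24.LimFlat

/-!
# Sections over preimages of an affine open in a cofiltered limit of schemes with affine
transition maps, and descent of flatness of a base changed module to a finite stage (helper57)
-/

set_option autoImplicit false
set_option linter.style.haveILetI false

universe u

open CategoryTheory AlgebraicGeometry Limits TopologicalSpace Topology TensorProduct Opposite

namespace Groth.Agent.H57.LimSec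

theorem appLE_eq_of_eq {X Y : Scheme.{u}} {f f' : X ⟶ Y} (h : f = f') {U : Y.Opens} {V : X.Opens}
    (e : V ≤ f ⁻¹ᵁ U) (e' : V ≤ f' ⁻¹ᵁ U) : f.appLE U V e = f'.appLE U V e' := by
  subst h; rfl

theorem id_appLE_self {X : Scheme.{u}} (U : X.Opens) (e : U ≤ (𝟙 X) ⁻¹ᵁ U) :
    (𝟙 X : X ⟶ X).appLE U U e = 𝟙 _ := by
  rw [Scheme.Hom.appLE]
  have h : (homOfLE e).op = 𝟙 (op U) := Subsingleton.elim _ _
  rw [h]
  erw [X.presheaf.map_id]
  exact Category.comp_id _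

theorem app_eq_zero_of_appLE_eq_zero {X Y : Scheme.{u}} (f : X ⟶ Y) (U : Y.Opens) (W : X.Opens)
    (e : W ≤ f ⁻¹ᵁ U) (e' : f ⁻¹ᵁ U ≤ W) (s : Γ(Y, U)) (hs : f.appLE U W e s = 0) :
    f.app U s = 0 := by
  have h1 : f.appLE U W e ≫ X.presheaf.map (homOfLE e').op = f.app U := by
    rw [Scheme.Hom.appLE_map, Scheme.Hom.appLE_eq_app]
  rw [← h1, CommRingCat.comp_apply, hs, map_zero]

theorem appLE_eq_zero_of_app_eq_zero {X Y : Scheme.{u}} (f : X ⟶ Y) (U : Y.Opens) (W : X.Opens)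
    (e : W ≤ f ⁻¹ᵁ U) (s : Γ(Y, U)) (hs : f.app U s = 0) : f.appLE U W e s = 0 := by
  rw [Scheme.Hom.appLE, CommRingCat.comp_apply, hs, map_zero]

section

variable {I : Type u} [SmallCategory I] [IsCofiltered I]
    (D : I ⥤ Scheme.{u}) (c : Cone D) (hc : IsLimit c)
    [∀ {i j : I} (f : i ⟶ j), IsAffineHom (D.map f)]

omit [IsCofiltered I] [∀ {i j : I} (f : i ⟶ j), IsAffineHom (D.map f)] in
theorem preimage_le (i : I) (V : (D.obj i).Opens) (j : Over i) :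
    c.π.app i ⁻¹ᵁ V ≤ c.π.app j.left ⁻¹ᵁ (D.map j.hom ⁻¹ᵁ V) := by
  rw [← Scheme.Hom.comp_preimage, c.w]

omit [IsCofiltered I] [∀ {i j : I} (f : i ⟶ j), IsAffineHom (D.map f)] in
theorem preimage_map_le (i : I) (V : (D.obj i).Opens) {j k : Over i} (a : j ⟶ k) :
    D.map j.hom ⁻¹ᵁ V ≤ D.map a.left ⁻¹ᵁ (D.map k.hom ⁻¹ᵁ V) := by
  rw [← Scheme.Hom.comp_preimage, ← D.map_comp, Over.w a]

set_option backward.defeqAttrib.useBackward true in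
set_option backward.isDefEq.respectTransparency false in
open Scheme.Opens in
include hc in
/-- Sections over the preimage of an affine open come from a finite stage. -/
theorem exists_appLE_π_eq (i : I) (V : (D.obj i).Opens) (hV : IsAffineOpen V)
    (r : Γ(c.pt, c.π.app i ⁻¹ᵁ V)) :
    ∃ (j : Over i) (s : Γ(D.obj j.left, D.map j.hom ⁻¹ᵁ V)),
      (c.π.app j.left).appLE (D.map j.hom ⁻¹ᵁ V) (c.π.app i ⁻¹ᵁ V) (preimage_le D c i V j) s = r := by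
  have (j : _) : IsAffine ((opensDiagram D i V).op.obj j).unop := hV.preimage _
  have (j : _) : IsAffine ((opensDiagram D i V).obj j) := hV.preimage _
  obtain ⟨⟨j⟩, s, hs⟩ := (Types.jointly_surjective_of_isColimit (isColimitOfPreserves
    (Scheme.Γ ⋙ forget _) (isLimitOpensCone D c hc i V).op) ((c.π.app i ⁻¹ᵁ V).topIso.inv r))
  obtain ⟨s, rfl⟩ := (D.map j.hom ⁻¹ᵁ V).topIso.symm.commRingCatIsoToRingEquiv.surjective s
  have h : c.π.app j.left ⁻¹ᵁ D.map j.hom ⁻¹ᵁ V = c.π.app i ⁻¹ᵁ V := congr($(c.w j.hom) ⁻¹ᵁ V)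
  have : r = (c.π.app j.left).appLE (D.map j.hom ⁻¹ᵁ V) (c.π.app i ⁻¹ᵁ V) h.ge s := by
    convert!
      show r = ((topIso _).inv ≫ ((opensCone D c i V).π.app j).appTop ≫ (topIso _).hom) s from
        (c.π.app i ⁻¹ᵁ V).topIso.commRingCatIsoToRingEquiv.symm_apply_eq.mp hs.symm using 3
    simp [Scheme.Hom.app_eq_appLE, Scheme.Hom.resLE_appLE]
  exact ⟨j, s, this.symm⟩

include hc in
/-- A section at a finite stage vanishing in the limit vanishes at a later stage. -/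
theorem exists_appLE_map_eq_zero (i : I) (V : (D.obj i).Opens) (hV : IsAffineOpen V) (j : Over i)
    (s : Γ(D.obj j.left, D.map j.hom ⁻¹ᵁ V))
    (hs : (c.π.app j.left).appLE (D.map j.hom ⁻¹ᵁ V) (c.π.app i ⁻¹ᵁ V)
      (preimage_le D c i V j) s = 0) :
    ∃ (j' : Over i) (a : j' ⟶ j), (D.map a.left).appLE (D.map j.hom ⁻¹ᵁ V)
      (D.map j'.hom ⁻¹ᵁ V) (preimage_map_le D i V a) s = 0 := by
  have hcomp : IsCompact (X := D.obj j.left) (D.map j.hom ⁻¹ᵁ V) :=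
    (hV.preimage (D.map j.hom)).isCompact
  have hge : c.π.app j.left ⁻¹ᵁ (D.map j.hom ⁻¹ᵁ V) ≤ c.π.app i ⁻¹ᵁ V := by
    rw [← Scheme.Hom.comp_preimage, c.w]
  have hs' : (c.π.app j.left).app (D.map j.hom ⁻¹ᵁ V) s = 0 :=
    app_eq_zero_of_appLE_eq_zero (c.π.app j.left) (D.map j.hom ⁻¹ᵁ V) (c.π.app i ⁻¹ᵁ V)
      (preimage_le D c i V j) hge s hs
  obtain ⟨j₂, f, hf⟩ := exists_app_map_eq_zero_of_isLimit D c hc hcomp s hs'
  exact ⟨Over.mk (f ≫ j.hom), Over.homMk f rfl,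
    appLE_eq_zero_of_app_eq_zero (D.map f) _ _ _ s hf⟩

omit [IsCofiltered I] [∀ {i j : I} (f : i ⟶ j), IsAffineHom (D.map f)] in
theorem L1 (i : I) (V : (D.obj i).Opens) {j k : Over i} (a : j ⟶ k) :
    (D.map k.hom).appLE V (D.map k.hom ⁻¹ᵁ V) le_rfl ≫
      (D.map a.left).appLE (D.map k.hom ⁻¹ᵁ V) (D.map j.hom ⁻¹ᵁ V) (preimage_map_le D i V a) =
    (D.map j.hom).appLE V (D.map j.hom ⁻¹ᵁ V) le_rfl := by
  rw [Scheme.Hom.appLE_comp_appLE]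
  exact appLE_eq_of_eq (by rw [← D.map_comp, Over.w a]) _ _

omit [IsCofiltered I] [∀ {i j : I} (f : i ⟶ j), IsAffineHom (D.map f)] in
theorem L2 (i : I) (V : (D.obj i).Opens) {j k : Over i} (a : j ⟶ k) :
    (D.map a.left).appLE (D.map k.hom ⁻¹ᵁ V) (D.map j.hom ⁻¹ᵁ V) (preimage_map_le D i V a) ≫
      (c.π.app j.left).appLE (D.map j.hom ⁻¹ᵁ V) (c.π.app i ⁻¹ᵁ V) (preimage_le D c i V j) =
    (c.π.app k.left).appLE (D.map k.hom ⁻¹ᵁ V) (c.π.app i ⁻¹ᵁ V) (preimage_le D c i V k) := by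
  rw [Scheme.Hom.appLE_comp_appLE]
  exact appLE_eq_of_eq (c.w a.left) _ _

omit [IsCofiltered I] [∀ {i j : I} (f : i ⟶ j), IsAffineHom (D.map f)] in
theorem L3 (i : I) (V : (D.obj i).Opens) (k : Over i) :
    (D.map k.hom).appLE V (D.map k.hom ⁻¹ᵁ V) le_rfl ≫
      (c.π.app k.left).appLE (D.map k.hom ⁻¹ᵁ V) (c.π.app i ⁻¹ᵁ V) (preimage_le D c i V k) =
    (c.π.app i).appLE V (c.π.app i ⁻¹ᵁ V) le_rfl := by
  rw [Scheme.Hom.appLE_comp_appLE]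
  exact appLE_eq_of_eq (c.w k.hom) _ _

omit [IsCofiltered I] [∀ {i j : I} (f : i ⟶ j), IsAffineHom (D.map f)] in
theorem L4 (i : I) (V : (D.obj i).Opens) {j k l : Over i} (a : j ⟶ k) (b : k ⟶ l) (ab : j ⟶ l)
    (h : ab = a ≫ b) :
    (D.map b.left).appLE (D.map l.hom ⁻¹ᵁ V) (D.map k.hom ⁻¹ᵁ V) (preimage_map_le D i V b) ≫
      (D.map a.left).appLE (D.map k.hom ⁻¹ᵁ V) (D.map j.hom ⁻¹ᵁ V) (preimage_map_le D i V a) =
    (D.map ab.left).appLE (D.map l.hom ⁻¹ᵁ V) (D.map j.hom ⁻¹ᵁ V) (preimage_map_le D i V ab) := by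
  subst h
  rw [Scheme.Hom.appLE_comp_appLE]
  exact appLE_eq_of_eq (by rw [Over.comp_left, D.map_comp]) _ _

omit [IsCofiltered I] [∀ {i j : I} (f : i ⟶ j), IsAffineHom (D.map f)] in
theorem L5 (i : I) (V : (D.obj i).Opens) {j : Over i} (a : j ⟶ j) (h : a = 𝟙 j) :
    (D.map a.left).appLE (D.map j.hom ⁻¹ᵁ V) (D.map j.hom ⁻¹ᵁ V) (preimage_map_le D i V a) =
      𝟙 _ := by
  subst h
  have e : D.map (𝟙 j : j ⟶ j).left = 𝟙 (D.obj j.left) := by rw [Over.id_left, D.map_id]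
  rw [appLE_eq_of_eq e _ (by rw [Scheme.Hom.id_preimage])]
  exact id_appLE_self _ _

set_option maxHeartbeats 1600000 in
include hc in
/-- **Descent of flatness of a base changed finitely presented module to a finite stage**, for
sections over the preimages of an affine open of a stage, with persistence. -/
theorem exists_flat_tensor_stage (i₀ : I) (O : (D.obj i₀).Opens) (hO : IsAffineOpen O)
    (B₀ : Type u) [CommRing B₀] [Algebra Γ(D.obj i₀, O) B₀]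
    [Algebra.FinitePresentation Γ(D.obj i₀, O) B₀]
    (M₀ : Type u) [AddCommGroup M₀] [Module B₀ M₀] [Module Γ(D.obj i₀, O) M₀]
    [IsScalarTower Γ(D.obj i₀, O) B₀ M₀] [Module.FinitePresentation B₀ M₀]
    (h : letI : Algebra Γ(D.obj i₀, O) Γ(c.pt, c.π.app i₀ ⁻¹ᵁ O) :=
        ((c.π.app i₀).appLE O (c.π.app i₀ ⁻¹ᵁ O) le_rfl).hom.toAlgebra
      Module.Flat Γ(c.pt, c.π.app i₀ ⁻¹ᵁ O) (Γ(c.pt, c.π.app i₀ ⁻¹ᵁ O) ⊗[Γ(D.obj i₀, O)] M₀)) :
    ∃ l : Over i₀, ∀ (l' : Over i₀) (_ : l' ⟶ l),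
      letI : Algebra Γ(D.obj i₀, O) Γ(D.obj l'.left, D.map l'.hom ⁻¹ᵁ O) :=
        ((D.map l'.hom).appLE O (D.map l'.hom ⁻¹ᵁ O) le_rfl).hom.toAlgebra
      Module.Flat Γ(D.obj l'.left, D.map l'.hom ⁻¹ᵁ O)
        (Γ(D.obj l'.left, D.map l'.hom ⁻¹ᵁ O) ⊗[Γ(D.obj i₀, O)] M₀) := by
  classical
  obtain ⟨α, _, hdir, hne, k, τ, hτ1, hτ2, hcof1, hcof2⟩ :=
    Groth.Agent.H24.exists_directed_cofinal (Over i₀)
  letI algA : Algebra Γ(D.obj i₀, O) Γ(c.pt, c.π.app i₀ ⁻¹ᵁ O) :=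
    ((c.π.app i₀).appLE O (c.π.app i₀ ⁻¹ᵁ O) le_rfl).hom.toAlgebra
  letI algG : ∀ a : α, Algebra Γ(D.obj i₀, O) Γ(D.obj (k a).left, D.map (k a).hom ⁻¹ᵁ O) :=
    fun a => ((D.map (k a).hom).appLE O (D.map (k a).hom ⁻¹ᵁ O) le_rfl).hom.toAlgebra
  letI algGA : ∀ a : α, Algebra Γ(D.obj (k a).left, D.map (k a).hom ⁻¹ᵁ O)
      Γ(c.pt, c.π.app i₀ ⁻¹ᵁ O) := fun a =>
    ((c.π.app (k a).left).appLE (D.map (k a).hom ⁻¹ᵁ O) (c.π.app i₀ ⁻¹ᵁ O)
      (preimage_le D c i₀ O (k a))).hom.toAlgebra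
  haveI tower : ∀ a : α, IsScalarTower Γ(D.obj i₀, O)
      Γ(D.obj (k a).left, D.map (k a).hom ⁻¹ᵁ O) Γ(c.pt, c.π.app i₀ ⁻¹ᵁ O) := fun a =>
    IsScalarTower.of_algebraMap_eq (fun x => (congr($(L3 D c i₀ O (k a)) x)).symm)
  let g : ∀ a b : α, a ≤ b → Γ(D.obj (k a).left, D.map (k a).hom ⁻¹ᵁ O) →ₐ[Γ(D.obj i₀, O)]
      Γ(D.obj (k b).left, D.map (k b).hom ⁻¹ᵁ O) := fun a b hab =>
    { ((D.map (τ hab).left).appLE (D.map (k a).hom ⁻¹ᵁ O) (D.map (k b).hom ⁻¹ᵁ O)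
        (preimage_map_le D i₀ O (τ hab))).hom with
      commutes' := fun x => congr($(L1 D i₀ O (τ hab)) x) }
  have hcolim : FlatCA.IsDirectedColimitRing
      (fun a : α => Γ(D.obj (k a).left, D.map (k a).hom ⁻¹ᵁ O))
      (fun a b hab => (g a b hab).toRingHom) Γ(c.pt, c.π.app i₀ ⁻¹ᵁ O) := by
    refine ⟨hdir, hne, ?_, ?_, ?_, ?_, ?_⟩
    · intro a
      refine RingHom.ext fun x => ?_
      exact congr($(L5 D i₀ O (τ (le_refl a)) (hτ1 a)) x)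
    · intro a b c' hab hbc
      refine RingHom.ext fun x => ?_
      exact congr($(L4 D i₀ O (τ hbc) (τ hab) (τ (hab.trans hbc)) (hτ2 hab hbc)) x)
    · intro a b hab
      refine RingHom.ext fun x => ?_
      exact congr($(L2 D c i₀ O (τ hab)) x)
    · intro x
      obtain ⟨j, s, hs⟩ := exists_appLE_π_eq D c hc i₀ O hO x
      obtain ⟨a, ⟨v⟩⟩ := hcof1 j
      refine ⟨a, ((D.map v.left).appLE (D.map j.hom ⁻¹ᵁ O) (D.map (k a).hom ⁻¹ᵁ O)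
        (preimage_map_le D i₀ O v)) s, ?_⟩
      rw [← hs]
      exact congr($(L2 D c i₀ O v) s)
    · intro a x hx
      obtain ⟨j', u, hu⟩ := exists_appLE_map_eq_zero D c hc i₀ O hO (k a) x hx
      obtain ⟨b, hab, v, hv⟩ := hcof2 a j' u
      refine ⟨b, hab, ?_⟩
      have h4 := congr($(L4 D i₀ O v u (τ hab) hv.symm) x)
      rw [CommRingCat.comp_apply, hu, map_zero] at h4
      exact h4.symm
  have key := Groth.Agent.S4848.result (A₀ := Γ(D.obj i₀, O))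
    (fun a : α => Γ(D.obj (k a).left, D.map (k a).hom ⁻¹ᵁ O)) g Γ(c.pt, c.π.app i₀ ⁻¹ᵁ O) hcolim
    (B₀ := B₀) M₀
  obtain ⟨a, ha⟩ := key.mp h
  refine ⟨k a, fun l' a' => ?_⟩
  letI algL : Algebra Γ(D.obj i₀, O) Γ(D.obj l'.left, D.map l'.hom ⁻¹ᵁ O) :=
    ((D.map l'.hom).appLE O (D.map l'.hom ⁻¹ᵁ O) le_rfl).hom.toAlgebra
  letI algGL : Algebra Γ(D.obj (k a).left, D.map (k a).hom ⁻¹ᵁ O)
      Γ(D.obj l'.left, D.map l'.hom ⁻¹ᵁ O) :=
    ((D.map a'.left).appLE (D.map (k a).hom ⁻¹ᵁ O) (D.map l'.hom ⁻¹ᵁ O)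
      (preimage_map_le D i₀ O a')).hom.toAlgebra
  haveI towL : IsScalarTower Γ(D.obj i₀, O) Γ(D.obj (k a).left, D.map (k a).hom ⁻¹ᵁ O)
      Γ(D.obj l'.left, D.map l'.hom ⁻¹ᵁ O) :=
    IsScalarTower.of_algebraMap_eq (fun x => (congr($(L1 D i₀ O a') x)).symm)
  haveI := ha
  exact Module.Flat.of_linearEquiv
    (TensorProduct.AlgebraTensorModule.cancelBaseChange Γ(D.obj i₀, O)
      Γ(D.obj (k a).left, D.map (k a).hom ⁻¹ᵁ O) Γ(D.obj l'.left, D.map l'.hom ⁻¹ᵁ O)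
      Γ(D.obj l'.left, D.map l'.hom ⁻¹ᵁ O) M₀).symm

end

end Groth.Agent.H57.LimSec
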