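import Mathlib
import Groth.Agent.H57.LimSections
import Groth.Agent.H57.GenFlattenSch
import Groth.Agent.H57.FlatModIso
import Groth.Agent.H24.IrredComp
import Groth.Agent.H8.FPAffine

/-!
# Flatness of a finitely presented quasi-coherent module over the base descends to a finite stage
of a cofiltered limit with affine transition maps (helper57)
-/

set_option autoImplicit false
set_option linter.style.haveILetI false

universe u

open CategoryTheory AlgebraicGeometry Limits TopologicalSpace Topology TensorProduct Opposite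

namespace Groth.Agent.H57.LimFlatMod

/-- Flatness over `T` of the pullback of `G₀` to `Z₀ ×_B T` at the points of the chart
`W ×_O g⁻¹ O`. -/
def ChartFlat {Z₀ B : Scheme.{u}} (ι₀ : Z₀ ⟶ B) (G₀ : Z₀.Modules) (W : Z₀.Opens) (O : B.Opens)
    {T : Scheme.{u}} (g : T ⟶ B) : Prop :=
  ∀ x' : ↥(pullback ι₀ g), x' ∈ pullback.fst ι₀ g ⁻¹ᵁ W ⊓ pullback.snd ι₀ g ⁻¹ᵁ (g ⁻¹ᵁ O) →
    FlatMod.IsFlatOverAt (pullback.snd ι₀ g)
      ((Scheme.Modules.pullback (pullback.fst ι₀ g)).obj G₀) x'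

section

variable {I : Type u} [SmallCategory I] [IsCofiltered I]
    (D : I ⥤ Scheme.{u}) (c : Cone D) (hc : IsLimit c)
    [∀ {i j : I} (f : i ⟶ j), IsAffineHom (D.map f)]

set_option maxHeartbeats 1600000 in
include hc in
/-- Chart form of the descent of flatness to a finite stage. -/
theorem chart_stage (i₀ : I) {Z₀ : Scheme.{u}} (ι₀ : Z₀ ⟶ D.obj i₀)
    [LocallyOfFinitePresentation ι₀] (G₀ : Z₀.Modules) [G₀.IsQuasicoherent]
    [SheafOfModules.IsFinitePresentation (R := Z₀.ringCatSheaf) G₀]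
    {W : Z₀.Opens} (hW : IsAffineOpen W) {O : (D.obj i₀).Opens} (hO : IsAffineOpen O)
    (hWO : W ≤ ι₀ ⁻¹ᵁ O) (h : ChartFlat ι₀ G₀ W O (T := c.pt) (c.π.app i₀)) :
    ∃ l : Over i₀, ∀ (l' : Over i₀) (_ : l' ⟶ l), ChartFlat ι₀ G₀ W O (D.map l'.hom) := by
  have hπ := isAffineHom_π_app D c hc i₀
  have hOinf : IsAffineOpen (c.π.app i₀ ⁻¹ᵁ O) := hO.preimage _
  letI : Algebra Γ(D.obj i₀, O) Γ(Z₀, W) := (ι₀.appLE O W hWO).hom.toAlgebra
  haveI : Algebra.FinitePresentation Γ(D.obj i₀, O) Γ(Z₀, W) :=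
    ι₀.finitePresentation_appLE hO hW hWO
  letI : Module Γ(D.obj i₀, O) Γ(G₀, W) := Module.compHom _ (ι₀.appLE O W hWO).hom
  haveI : IsScalarTower Γ(D.obj i₀, O) Γ(Z₀, W) Γ(G₀, W) :=
    IsScalarTower.of_algebraMap_smul fun _ _ => rfl
  haveI : Module.FinitePresentation Γ(Z₀, W) Γ(G₀, W) :=
    Groth.Agent.H8.finitePresentation_sections_of_isAffineOpen G₀ hW
  have h1 := (Groth.Agent.H57.GenFlatten.pullback_chart_flat_iff ι₀ (Y' := c.pt) (c.π.app i₀) G₀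
    hO hOinf hW le_rfl hWO).mp h
  obtain ⟨l, hl⟩ := Groth.Agent.H57.LimSec.exists_flat_tensor_stage D c hc i₀ O hO Γ(Z₀, W)
    Γ(G₀, W) h1
  refine ⟨l, fun l' a => ?_⟩
  have hOl : IsAffineOpen (D.map l'.hom ⁻¹ᵁ O) := hO.preimage _
  exact (Groth.Agent.H57.GenFlatten.pullback_chart_flat_iff ι₀ (D.map l'.hom) G₀ hO hOl hW le_rfl
    hWO).mpr (hl l' a)

include hc in
/-- **Flatness of a finitely presented module over the base descends to a finite stage.** -/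
theorem exists_isFlatOver_stage (i₀ : I) {Z₀ : Scheme.{u}} [CompactSpace Z₀]
    (ι₀ : Z₀ ⟶ D.obj i₀) [LocallyOfFinitePresentation ι₀] (G₀ : Z₀.Modules)
    [G₀.IsQuasicoherent] [SheafOfModules.IsFinitePresentation (R := Z₀.ringCatSheaf) G₀]
    (h : FlatMod.IsFlatOver (pullback.snd ι₀ (c.π.app i₀))
      ((Scheme.Modules.pullback (pullback.fst ι₀ (c.π.app i₀))).obj G₀)) :
    ∃ l : Over i₀, FlatMod.IsFlatOver (pullback.snd ι₀ (D.map l.hom))
      ((Scheme.Modules.pullback (pullback.fst ι₀ (D.map l.hom))).obj G₀) := by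
  classical
  let 𝔹 := {p : Z₀.affineOpens × (D.obj i₀).affineOpens // (p.1 : Z₀.Opens) ≤ ι₀ ⁻¹ᵁ p.2.1}
  have hcov : IsOpenCover (fun p : 𝔹 => (p.1.1 : Z₀.Opens)) := by
    refine IsOpenCover.mk (eq_top_iff.mpr fun x _ => ?_)
    obtain ⟨_, ⟨V, hV : IsAffineOpen V, rfl⟩, hxV, -⟩ :=
      (D.obj i₀).isBasis_affineOpens.exists_subset_of_mem_open (Set.mem_univ (ι₀ x)) isOpen_univ
    obtain ⟨_, ⟨U, hU : IsAffineOpen U, rfl⟩, hxU, hUV⟩ :=
      Z₀.isBasis_affineOpens.exists_subset_of_mem_open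
        (show x ∈ ((ι₀ ⁻¹ᵁ V : Z₀.Opens) : Set Z₀) from hxV) (ι₀ ⁻¹ᵁ V).isOpen
    exact Opens.mem_iSup.mpr ⟨⟨⟨⟨U, hU⟩, ⟨V, hV⟩⟩, hUV⟩, hxU⟩
  obtain ⟨t, ht⟩ := hcov.exists_finite_of_compactSpace
  let P : Over i₀ → 𝔹 → Prop := fun l p => ChartFlat ι₀ G₀ p.1.1.1 p.1.2.1 (D.map l.hom)
  have hP : ∀ p ∈ (t : Set 𝔹), ∀ l₁ : Over i₀,
      ∃ (l : Over i₀) (_ : l ⟶ l₁), ∀ (l' : Over i₀) (_ : l' ⟶ l), P l' p := by
    intro p _ l₁
    obtain ⟨l, hl⟩ := chart_stage D c hc i₀ ι₀ G₀ p.1.1.2 p.1.2.2 p.2 (fun x' _ => h x')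
    exact ⟨IsCofiltered.min l₁ l, IsCofiltered.minToLeft _ _,
      fun l' ψ => hl l' (ψ ≫ IsCofiltered.minToRight _ _)⟩
  obtain ⟨l, _, hl⟩ := Groth.Agent.H24.exists_index_forall_finite (I := Over i₀) (t : Set 𝔹)
    t.finite_toSet P hP (Over.mk (𝟙 i₀))
  refine ⟨l, fun x' => ?_⟩
  obtain ⟨p, hp⟩ := ht.exists_mem (pullback.fst ι₀ (D.map l.hom) x')
  refine hl l (𝟙 l) p.1 p.2 x' ⟨hp, ?_⟩
  have hcond : (D.map l.hom) (pullback.snd ι₀ (D.map l.hom) x') =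
      ι₀ (pullback.fst ι₀ (D.map l.hom) x') := by
    rw [← Scheme.Hom.comp_apply, ← Scheme.Hom.comp_apply, pullback.condition]
  show (D.map l.hom) (pullback.snd ι₀ (D.map l.hom) x') ∈ p.1.1.2.1
  rw [hcond]
  exact p.1.2 hp

end

end Groth.Agent.H57.LimFlatMod
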