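import Mathlib
import Groth.Agent.H57.LimFlatMod
import Groth.Agent.H24.LimPullback
import Groth.Agent.H24.ModLimIso
import Groth.Agent.S4863
import Groth.Agent.S9350

/-!
# Flatness at a point of a finitely presented quasi-coherent module over the base descends to a
finite stage of a cofiltered limit with affine transition maps (helper57)
-/

set_option autoImplicit false
set_option linter.style.haveILetI false

universe u

open CategoryTheory AlgebraicGeometry Limits TopologicalSpace Topology TensorProduct Opposite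

namespace Groth.Agent.H57.LimFlatModPt

section OpenChart

variable {Z₀ B B₁ T : Scheme.{u}} (ι₀ : Z₀ ⟶ B) (β : B₁ ⟶ B)
  (V : (pullback ι₀ β).Opens) (r : T ⟶ B₁) (gT : T ⟶ B) (hg : r ≫ β = gT)

/-- `Z₀ ×_B T ⟶ Z₀ ×_B B₁`. -/
noncomputable def tMap : pullback ι₀ gT ⟶ pullback ι₀ β :=
  pullback.lift (pullback.fst ι₀ gT) (pullback.snd ι₀ gT ≫ r)
    (by rw [pullback.condition, Category.assoc, hg])

@[reassoc]
theorem tMap_fst : tMap ι₀ β r gT hg ≫ pullback.fst ι₀ β = pullback.fst ι₀ gT :=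
  pullback.lift_fst _ _ _

@[reassoc]
theorem tMap_snd : tMap ι₀ β r gT hg ≫ pullback.snd ι₀ β = pullback.snd ι₀ gT ≫ r :=
  pullback.lift_snd _ _ _

theorem isPullback_tMap :
    IsPullback (tMap ι₀ β r gT hg) (pullback.snd ι₀ gT) (pullback.snd ι₀ β) r := by
  have big : IsPullback (tMap ι₀ β r gT hg ≫ pullback.fst ι₀ β) (pullback.snd ι₀ gT) ι₀
      (r ≫ β) := by
    rw [tMap_fst, hg]
    exact IsPullback.of_hasPullback _ _
  exact IsPullback.of_right big (tMap_snd ι₀ β r gT hg) (IsPullback.of_hasPullback _ _)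

include hg in
theorem mMap_cond :
    (pullback.fst (V.ι ≫ pullback.snd ι₀ β) r ≫ V.ι ≫ pullback.fst ι₀ β) ≫ ι₀ =
      pullback.snd (V.ι ≫ pullback.snd ι₀ β) r ≫ gT := by
  calc (pullback.fst (V.ι ≫ pullback.snd ι₀ β) r ≫ V.ι ≫ pullback.fst ι₀ β) ≫ ι₀
      = pullback.fst (V.ι ≫ pullback.snd ι₀ β) r ≫ V.ι ≫ (pullback.fst ι₀ β ≫ ι₀) := by
        simp only [Category.assoc]
    _ = pullback.fst (V.ι ≫ pullback.snd ι₀ β) r ≫ V.ι ≫ (pullback.snd ι₀ β ≫ β) := by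
        rw [pullback.condition]
    _ = (pullback.fst (V.ι ≫ pullback.snd ι₀ β) r ≫ (V.ι ≫ pullback.snd ι₀ β)) ≫ β := by
        simp only [Category.assoc]
    _ = (pullback.snd (V.ι ≫ pullback.snd ι₀ β) r ≫ r) ≫ β := by rw [pullback.condition]
    _ = pullback.snd (V.ι ≫ pullback.snd ι₀ β) r ≫ gT := by rw [Category.assoc, hg]

/-- The open immersion `V ×_{B₁} T ⟶ Z₀ ×_B T`. -/
noncomputable def mMap : pullback (V.ι ≫ pullback.snd ι₀ β) r ⟶ pullback ι₀ gT :=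
  pullback.lift (pullback.fst (V.ι ≫ pullback.snd ι₀ β) r ≫ V.ι ≫ pullback.fst ι₀ β)
    (pullback.snd (V.ι ≫ pullback.snd ι₀ β) r) (mMap_cond ι₀ β V r gT hg)

theorem mMap_fst : mMap ι₀ β V r gT hg ≫ pullback.fst ι₀ gT =
    pullback.fst (V.ι ≫ pullback.snd ι₀ β) r ≫ V.ι ≫ pullback.fst ι₀ β :=
  pullback.lift_fst _ _ _

theorem mMap_snd : mMap ι₀ β V r gT hg ≫ pullback.snd ι₀ gT =
    pullback.snd (V.ι ≫ pullback.snd ι₀ β) r :=
  pullback.lift_snd _ _ _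

theorem mMap_tMap : mMap ι₀ β V r gT hg ≫ tMap ι₀ β r gT hg =
    pullback.fst (V.ι ≫ pullback.snd ι₀ β) r ≫ V.ι := by
  apply pullback.hom_ext
  · rw [Category.assoc, tMap_fst, mMap_fst, Category.assoc]
  · rw [Category.assoc, tMap_snd, ← Category.assoc, mMap_snd, Category.assoc,
      ← pullback.condition]

theorem isPullback_mMap :
    IsPullback (mMap ι₀ β V r gT hg) (pullback.fst (V.ι ≫ pullback.snd ι₀ β) r)
      (tMap ι₀ β r gT hg) V.ι := by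
  have big : IsPullback (mMap ι₀ β V r gT hg ≫ pullback.snd ι₀ gT)
      (pullback.fst (V.ι ≫ pullback.snd ι₀ β) r) r (V.ι ≫ pullback.snd ι₀ β) := by
    rw [mMap_snd]
    exact (IsPullback.of_hasPullback _ _).flip
  exact IsPullback.of_right big (mMap_tMap ι₀ β V r gT hg) (isPullback_tMap ι₀ β r gT hg).flip

instance : IsOpenImmersion (mMap ι₀ β V r gT hg) :=
  MorphismProperty.of_isPullback (P := @IsOpenImmersion) (isPullback_mMap ι₀ β V r gT hg).flip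
    inferInstance

theorem exists_mMap_eq (p : ↥(pullback ι₀ gT)) (hp : tMap ι₀ β r gT hg p ∈ V) :
    ∃ y : ↥(pullback (V.ι ≫ pullback.snd ι₀ β) r), mMap ι₀ β V r gT hg y = p := by
  have hL := isPullback_mMap ι₀ β V r gT hg
  obtain ⟨z, hz1, -⟩ := Scheme.Pullback.exists_preimage_pullback (f := tMap ι₀ β r gT hg)
    (g := V.ι) p (⟨tMap ι₀ β r gT hg p, hp⟩ : V) rfl
  refine ⟨hL.isoPullback.inv z, ?_⟩
  rw [← Scheme.Hom.comp_apply, hL.isoPullback_inv_fst]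
  exact hz1

variable (G₀ : Z₀.Modules) [G₀.IsQuasicoherent]

/-- Flatness at a point of the open chart. -/
theorem isFlatOverAt_mMap_iff (y : ↥(pullback (V.ι ≫ pullback.snd ι₀ β) r)) :
    FlatMod.IsFlatOverAt (pullback.snd ι₀ gT)
        ((Scheme.Modules.pullback (pullback.fst ι₀ gT)).obj G₀) (mMap ι₀ β V r gT hg y) ↔
      FlatMod.IsFlatOverAt (pullback.snd (V.ι ≫ pullback.snd ι₀ β) r)
        ((Scheme.Modules.pullback (pullback.fst (V.ι ≫ pullback.snd ι₀ β) r)).obj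
          ((Scheme.Modules.pullback (V.ι ≫ pullback.fst ι₀ β)).obj G₀)) y := by
  haveI q1 := Groth.Agent.H8.isQuasicoherent_pullback (pullback.fst ι₀ gT) G₀
  haveI q2 := Groth.Agent.H8.isQuasicoherent_pullback (V.ι ≫ pullback.fst ι₀ β) G₀
  haveI q3 := Groth.Agent.H8.isQuasicoherent_pullback (pullback.fst (V.ι ≫ pullback.snd ι₀ β) r)
    ((Scheme.Modules.pullback (V.ι ≫ pullback.fst ι₀ β)).obj G₀)
  haveI q4 := Groth.Agent.H8.isQuasicoherent_pullback (mMap ι₀ β V r gT hg)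
    ((Scheme.Modules.pullback (pullback.fst ι₀ gT)).obj G₀)
  have hfl : ((mMap ι₀ β V r gT hg).stalkMap y).hom.Flat :=
    RingHom.Flat.of_bijective
      (ConcreteCategory.bijective_of_isIso ((mMap ι₀ β V r gT hg).stalkMap y))
  have key := Groth.Agent.S9350.result (mMap ι₀ β V r gT hg) (pullback.snd ι₀ gT)
    ((Scheme.Modules.pullback (pullback.fst ι₀ gT)).obj G₀) q1 y hfl
  rw [key, mMap_snd]
  have e : (Scheme.Modules.pullback (mMap ι₀ β V r gT hg)).obj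
      ((Scheme.Modules.pullback (pullback.fst ι₀ gT)).obj G₀) ≅
      (Scheme.Modules.pullback (pullback.fst (V.ι ≫ pullback.snd ι₀ β) r)).obj
        ((Scheme.Modules.pullback (V.ι ≫ pullback.fst ι₀ β)).obj G₀) :=
    Groth.Agent.H57.pullbackPullbackIso₂ _ _ _ _ (mMap_fst ι₀ β V r gT hg) G₀
  exact ⟨fun h => Groth.Agent.H57.isFlatOverAt_of_iso _ e y h,
    fun h => Groth.Agent.H57.isFlatOverAt_of_iso _ e.symm y h⟩

end OpenChart

section

variable {I : Type u} [SmallCategory I] [IsCofiltered I]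
    (D : I ⥤ Scheme.{u}) (c : Cone D) (hc : IsLimit c)
    [∀ {i j : I} (f : i ⟶ j), IsAffineHom (D.map f)]

set_option maxHeartbeats 1600000 in
include hc in
/-- **Flatness at a point of a finitely presented module over the base descends to a finite
stage.** -/
theorem exists_isFlatOverAt_stage (i₀ : I) {Z₀ : Scheme.{u}} (ι₀ : Z₀ ⟶ D.obj i₀)
    [LocallyOfFinitePresentation ι₀] (G₀ : Z₀.Modules) [G₀.IsQuasicoherent]
    [SheafOfModules.IsFinitePresentation (R := Z₀.ringCatSheaf) G₀]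
    (x' : ↥(pullback ι₀ (c.π.app i₀)))
    (h : FlatMod.IsFlatOverAt (pullback.snd ι₀ (c.π.app i₀))
      ((Scheme.Modules.pullback (pullback.fst ι₀ (c.π.app i₀))).obj G₀) x') :
    ∃ k : Over i₀, FlatMod.IsFlatOverAt (pullback.snd ι₀ (D.map k.hom))
      ((Scheme.Modules.pullback (pullback.fst ι₀ (D.map k.hom))).obj G₀)
      (tMap ι₀ (D.map k.hom) (c.π.app k.left) (c.π.app i₀) (c.w k.hom) x') := by
  classical
  haveI q1 := Groth.Agent.H8.isQuasicoherent_pullback (pullback.fst ι₀ (c.π.app i₀)) G₀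
  haveI p1 := Groth.Agent.H24.ModLimIso.isFinitePresentation_pullback
    (pullback.fst ι₀ (c.π.app i₀)) G₀
  have hopen : IsOpen {x : ↥(pullback ι₀ (c.π.app i₀)) |
      FlatMod.IsFlatOverAt (pullback.snd ι₀ (c.π.app i₀))
        ((Scheme.Modules.pullback (pullback.fst ι₀ (c.π.app i₀))).obj G₀) x} :=
    @Groth.Agent.S4863.result _ _ (pullback.snd ι₀ (c.π.app i₀)) inferInstance _ q1 p1
  let U : (pullback ι₀ (c.π.app i₀)).Opens := ⟨_, hopen⟩
  have hbasis := isBasis_preimage_isAffineOpen (Groth.Agent.H24.pbDiagram D (𝟙 i₀) ι₀)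
    (Groth.Agent.H24.pbCone D (𝟙 i₀) ι₀ c (pullback.fst ι₀ (c.π.app i₀))
      (pullback.snd ι₀ (c.π.app i₀)) pullback.condition)
    (Groth.Agent.H24.isLimitPbCone D (𝟙 i₀) ι₀ c hc _ _
      (IsPullback.of_hasPullback ι₀ (c.π.app i₀)))
  obtain ⟨_, ⟨l, V, hV, rfl⟩, hxV, hVU⟩ :=
    Opens.isBasis_iff_nbhd.mp hbasis (show x' ∈ U from h)
  have hg : c.π.app l.left ≫ D.map (l.hom ≫ 𝟙 i₀) = c.π.app i₀ := c.w _
  let V' : (pullback ι₀ (D.map (l.hom ≫ 𝟙 i₀))).Opens := V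
  have hxV' : tMap ι₀ (D.map (l.hom ≫ 𝟙 i₀)) (c.π.app l.left) (c.π.app i₀) hg x' ∈ V' := hxV
  have hVU' : ∀ z : ↥(pullback ι₀ (c.π.app i₀)),
      tMap ι₀ (D.map (l.hom ≫ 𝟙 i₀)) (c.π.app l.left) (c.π.app i₀) hg z ∈ V' →
      FlatMod.IsFlatOverAt (pullback.snd ι₀ (c.π.app i₀))
        ((Scheme.Modules.pullback (pullback.fst ι₀ (c.π.app i₀))).obj G₀) z := fun z hz => hVU hz
  haveI hVaff : IsAffine V'.toScheme := hV
  haveI hVc : CompactSpace V'.toScheme := inferInstance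
  haveI hι₁ : LocallyOfFinitePresentation
      (V'.ι ≫ pullback.snd ι₀ (D.map (l.hom ≫ 𝟙 i₀))) := inferInstance
  haveI q2 := Groth.Agent.H8.isQuasicoherent_pullback
    (V'.ι ≫ pullback.fst ι₀ (D.map (l.hom ≫ 𝟙 i₀))) G₀
  haveI p2 := Groth.Agent.H24.ModLimIso.isFinitePresentation_pullback
    (V'.ι ≫ pullback.fst ι₀ (D.map (l.hom ≫ 𝟙 i₀))) G₀
  have hflat₁ : FlatMod.IsFlatOver
      (pullback.snd (V'.ι ≫ pullback.snd ι₀ (D.map (l.hom ≫ 𝟙 i₀))) (c.π.app l.left))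
      ((Scheme.Modules.pullback
        (pullback.fst (V'.ι ≫ pullback.snd ι₀ (D.map (l.hom ≫ 𝟙 i₀))) (c.π.app l.left))).obj
        ((Scheme.Modules.pullback (V'.ι ≫ pullback.fst ι₀ (D.map (l.hom ≫ 𝟙 i₀)))).obj G₀)) := by
    intro y
    refine (isFlatOverAt_mMap_iff ι₀ (D.map (l.hom ≫ 𝟙 i₀)) V' (c.π.app l.left) (c.π.app i₀) hg
      G₀ y).mp (hVU' _ ?_)
    rw [← Scheme.Hom.comp_apply, mMap_tMap, Scheme.Hom.comp_apply]
    exact (pullback.fst (V'.ι ≫ pullback.snd ι₀ (D.map (l.hom ≫ 𝟙 i₀))) (c.π.app l.left) y).2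
  obtain ⟨l₂, hl₂⟩ := Groth.Agent.H57.LimFlatMod.exists_isFlatOver_stage D c hc l.left
    (V'.ι ≫ pullback.snd ι₀ (D.map (l.hom ≫ 𝟙 i₀)))
    ((Scheme.Modules.pullback (V'.ι ≫ pullback.fst ι₀ (D.map (l.hom ≫ 𝟙 i₀)))).obj G₀) hflat₁
  refine ⟨Over.mk (l₂.hom ≫ l.hom ≫ 𝟙 i₀), ?_⟩
  have hg' : D.map l₂.hom ≫ D.map (l.hom ≫ 𝟙 i₀) =
      D.map (Over.mk (l₂.hom ≫ l.hom ≫ 𝟙 i₀)).hom := (D.map_comp _ _).symm
  have htrans : tMap ι₀ (D.map (Over.mk (l₂.hom ≫ l.hom ≫ 𝟙 i₀)).hom)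
      (c.π.app (Over.mk (l₂.hom ≫ l.hom ≫ 𝟙 i₀)).left) (c.π.app i₀) (c.w _) ≫
      tMap ι₀ (D.map (l.hom ≫ 𝟙 i₀)) (D.map l₂.hom)
        (D.map (Over.mk (l₂.hom ≫ l.hom ≫ 𝟙 i₀)).hom) hg' =
      tMap ι₀ (D.map (l.hom ≫ 𝟙 i₀)) (c.π.app l.left) (c.π.app i₀) hg := by
    apply pullback.hom_ext
    · rw [Category.assoc, tMap_fst, tMap_fst, tMap_fst]
    · simp only [Category.assoc, tMap_snd, tMap_snd_assoc]
      congr 1
      exact c.w l₂.hom
  have hp : tMap ι₀ (D.map (l.hom ≫ 𝟙 i₀)) (D.map l₂.hom)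
      (D.map (Over.mk (l₂.hom ≫ l.hom ≫ 𝟙 i₀)).hom) hg'
      (tMap ι₀ (D.map (Over.mk (l₂.hom ≫ l.hom ≫ 𝟙 i₀)).hom)
        (c.π.app (Over.mk (l₂.hom ≫ l.hom ≫ 𝟙 i₀)).left) (c.π.app i₀) (c.w _) x') ∈ V' := by
    rw [← Scheme.Hom.comp_apply, htrans]
    exact hxV'
  obtain ⟨y, hy⟩ := exists_mMap_eq ι₀ (D.map (l.hom ≫ 𝟙 i₀)) V' (D.map l₂.hom)
    (D.map (Over.mk (l₂.hom ≫ l.hom ≫ 𝟙 i₀)).hom) hg' _ hp
  have hfin := (isFlatOverAt_mMap_iff ι₀ (D.map (l.hom ≫ 𝟙 i₀)) V' (D.map l₂.hom)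
    (D.map (Over.mk (l₂.hom ≫ l.hom ≫ 𝟙 i₀)).hom) hg' G₀ y).mpr (hl₂ y)
  rw [hy] at hfin
  exact hfin

end

end Groth.Agent.H57.LimFlatModPt
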