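import Mathlib
import Groth.Agent.H57.InjCokerChart
import Groth.Agent.H57.LimFlatModPt
import Groth.Agent.H57.FlatModIso
import Groth.Agent.H24.ModStage2
import Groth.Agent.H24.LimFlat2
import Groth.Agent.H24.ModLimIso

/-!
# Descent of "injective with flat cokernel at a point" to a finite stage of a cofiltered limit
(helper57)
-/

set_option autoImplicit false
set_option linter.style.haveILetI false

universe u

open TensorProduct CategoryTheory CategoryTheory.Limits AlgebraicGeometry TopologicalSpace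

namespace Groth.Agent.H57.LimInjCoker

open Groth.Agent.H39.PullTrack Groth.Agent.H24 Groth.Agent.H24.TensorStage

section Transfer

variable {Z : Scheme.{u}}

theorem stalkMap_injective_of_comm {A B A' B' : Z.Modules} (α : A ⟶ B) (β : A' ⟶ B')
    (eA : A ≅ A') (eB : B ≅ B') (h : α ≫ eB.hom = eA.hom ≫ β) (z : Z)
    (hα : Function.Injective ((TopCat.Presheaf.stalkFunctor Ab z).map
      (Scheme.Modules.Hom.mapPresheaf α))) :
    Function.Injective ((TopCat.Presheaf.stalkFunctor Ab z).map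
      (Scheme.Modules.Hom.mapPresheaf β)) := by
  let Φ : Z.Modules ⥤ Ab.{u} :=
    Scheme.Modules.toPresheaf Z ⋙ TopCat.Presheaf.stalkFunctor Ab.{u} z
  change Function.Injective (Φ.map α) at hα
  change Function.Injective (Φ.map β)
  have h' : Φ.map α ≫ Φ.map eB.hom = Φ.map eA.hom ≫ Φ.map β := by
    rw [← Φ.map_comp, ← Φ.map_comp, h]
  have hsurj : Function.Surjective (Φ.map eA.hom) :=
    (ConcreteCategory.bijective_of_isIso (Φ.map eA.hom)).2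
  intro x y hxy
  obtain ⟨x', rfl⟩ := hsurj x
  obtain ⟨y', rfl⟩ := hsurj y
  have h1 : (Φ.map α ≫ Φ.map eB.hom) x' = (Φ.map α ≫ Φ.map eB.hom) y' := by
    rw [h', ConcreteCategory.comp_apply, ConcreteCategory.comp_apply, hxy]
  rw [ConcreteCategory.comp_apply, ConcreteCategory.comp_apply] at h1
  have h2 := (ConcreteCategory.bijective_of_isIso (Φ.map eB.hom)).1 h1
  rw [hα h2]

theorem stalkMap_injective_iff_of_comm {A B A' B' : Z.Modules} (α : A ⟶ B) (β : A' ⟶ B')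
    (eA : A ≅ A') (eB : B ≅ B') (h : α ≫ eB.hom = eA.hom ≫ β) (z : Z) :
    Function.Injective ((TopCat.Presheaf.stalkFunctor Ab z).map
      (Scheme.Modules.Hom.mapPresheaf α)) ↔
    Function.Injective ((TopCat.Presheaf.stalkFunctor Ab z).map
      (Scheme.Modules.Hom.mapPresheaf β)) := by
  refine ⟨stalkMap_injective_of_comm α β eA eB h z,
    stalkMap_injective_of_comm β α eA.symm eB.symm ?_ z⟩
  rw [Iso.symm_hom, Iso.symm_hom, ← cancel_mono eB.hom, Category.assoc, Iso.inv_hom_id,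
    Category.comp_id, Category.assoc, h, Iso.inv_hom_id_assoc]

variable {X Y : Scheme.{u}}

/-- Stalk-injectivity of `a^* b^* γ` and of `(a ≫ b)^* γ` are equivalent. -/
theorem stalkMap_injective_pullback_comp_iff (a : Z ⟶ Y) (b : Y ⟶ X) (k : Z ⟶ X)
    (hk : a ≫ b = k) {F G : X.Modules} (γ : F ⟶ G) (z : Z) :
    Function.Injective ((TopCat.Presheaf.stalkFunctor Ab z).map
      (Scheme.Modules.Hom.mapPresheaf
        ((Scheme.Modules.pullback a).map ((Scheme.Modules.pullback b).map γ)))) ↔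
    Function.Injective ((TopCat.Presheaf.stalkFunctor Ab z).map
      (Scheme.Modules.Hom.mapPresheaf ((Scheme.Modules.pullback k).map γ))) := by
  subst hk
  exact stalkMap_injective_iff_of_comm _ _ ((Scheme.Modules.pullbackComp a b).app F)
    ((Scheme.Modules.pullbackComp a b).app G)
    ((Scheme.Modules.pullbackComp a b).hom.naturality γ) z

/-- The pullback functor commutes with cokernels. -/
noncomputable def cokerPullbackIso (p : Y ⟶ X) {F G : X.Modules} (γ : F ⟶ G) :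
    (Scheme.Modules.pullback p).obj (cokernel γ) ≅ cokernel ((Scheme.Modules.pullback p).map γ) :=
  haveI : PreservesColimits (Scheme.Modules.pullback p) :=
    (Scheme.Modules.pullbackPushforwardAdjunction p).leftAdjoint_preservesColimits
  PreservesCokernel.iso (Scheme.Modules.pullback p) γ

end Transfer

section Stage

variable {I : Type u} [SmallCategory I] [IsCofiltered I] (D : I ⥤ Scheme.{u}) (c : Cone D)
  (hc : IsLimit c) [∀ (i j : I) (f : i ⟶ j), IsAffineHom (D.map f)]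

open Groth.Agent.H24.ModStage in
include hc in
/-- A function on the preimage of an affine open in the limit killing finitely many pulled back
sections comes from a function at a finite stage killing the pulled back sections there. -/
theorem exists_stage_killer (i₁ : I) (F₁ : (D.obj i₁).Modules) (hF₁ : F₁.IsQuasicoherent)
    {W : (D.obj i₁).Opens} (hW : IsAffineOpen W) {r : ℕ} (κ : Fin r → Γ(F₁, W))
    (s : Γ(c.pt, c.π.app i₁ ⁻¹ᵁ W))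
    (hs : ∀ i, s • pullSectLE (c.π.app i₁) F₁ W (c.π.app i₁ ⁻¹ᵁ W) le_rfl (κ i) = 0) :
    ∃ (j : Over i₁) (sj : Γ(D.obj j.left, D.map j.hom ⁻¹ᵁ W)),
      (c.π.app j.left).appLE (D.map j.hom ⁻¹ᵁ W) (c.π.app i₁ ⁻¹ᵁ W)
        (preimage_le_L D c i₁ W j) sj = s ∧
      ∀ i, sj • pullSectLE (D.map j.hom) F₁ W (D.map j.hom ⁻¹ᵁ W) le_rfl (κ i) = 0 := by
  haveI := hF₁
  have hAff : ∀ {i j : I} (f : i ⟶ j), IsAffineHom (D.map f) := fun f => inferInstance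
  haveI := isAffineHom_π_app D c hc i₁
  have hWinf : IsAffineOpen (c.π.app i₁ ⁻¹ᵁ W) := hW.preimage _
  obtain ⟨j₀, s₀, hs₀⟩ := H1S D c i₁ W hc hW s
  have hs1 : ∀ i, SumZero (σL D c i₁ W) (fun _ : Fin 1 => s) (fun _ => κ i) := by
    intro i
    refine (Groth.Agent.H24.PullSections.sum_smul_pullSectLE_eq_zero_iff (c.π.app i₁) F₁ hW hWinf
      le_rfl (fun _ : Fin 1 => s) (fun _ => κ i)).mp ?_
    rw [Fin.sum_univ_one]
    exact hs i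
  have claim : ∀ (r : ℕ) (κ : Fin r → Γ(F₁, W)),
      (∀ i, SumZero (σL D c i₁ W) (fun _ : Fin 1 => s) (fun _ => κ i)) →
      ∃ (j : Over i₁) (a : j ⟶ j₀), ∀ i,
        SumZero (σS D i₁ W j) (fun _ : Fin 1 => τS D i₁ W a s₀) (fun _ => κ i) := by
    intro r
    induction r with
    | zero => exact fun κ _ => ⟨j₀, 𝟙 j₀, fun i => i.elim0⟩
    | succ r ih =>
      intro κ hκ
      obtain ⟨j, a, h⟩ := ih (fun i => κ i.castSucc) (fun i => hκ i.castSucc)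
      have hlast : SumZero (σL D c i₁ W) (fun _ : Fin 1 => gS D c i₁ W j (τS D i₁ W a s₀))
          (fun _ => κ (Fin.last r)) := by
        rw [gS_τS, hs₀]
        exact hκ (Fin.last r)
      obtain ⟨j', b, hb⟩ := exists_hom_sumZero D c i₁ W hc hW j
        (fun _ : Fin 1 => τS D i₁ W a s₀) (fun _ => κ (Fin.last r)) hlast
      refine ⟨j', b ≫ a, fun i => ?_⟩
      have hcomp : τS D i₁ W (b ≫ a) s₀ = τS D i₁ W b (τS D i₁ W a s₀) := τS_comp D i₁ W a b s₀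
      rw [hcomp]
      refine Fin.lastCases ?_ (fun i => ?_) i
      · exact hb
      · exact (h i).transport (τS D i₁ W b) (τS_σS D i₁ W b)
  obtain ⟨j, a, h⟩ := claim r κ hs1
  refine ⟨j, τS D i₁ W a s₀, ?_, fun i => ?_⟩
  · rw [← gS_eq_appLE, gS_τS, hs₀]
  · have h1 := (Groth.Agent.H24.PullSections.sum_smul_pullSectLE_eq_zero_iff (D.map j.hom) F₁ hW
      (hW.preimage (D.map j.hom)) le_rfl (fun _ : Fin 1 => τS D i₁ W a s₀) (fun _ => κ i)).mpr (h i)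
    rw [Fin.sum_univ_one] at h1
    exact h1

end Stage

section BaseChange

variable {Xi Yi X Y : Scheme.{u}}

set_option maxHeartbeats 1600000 in
/-- Base change of "injective with flat cokernel at a point": the injectivity part. -/
theorem stalkMap_injective_pullback_of_isPullback (fi : Xi ⟶ Yi) [LocallyOfFinitePresentation fi]
    (f : X ⟶ Y) (vX : X ⟶ Xi) (vY : Y ⟶ Yi) (hsq : IsPullback vX f fi vY)
    {Fi Gi : Xi.Modules} [Fi.IsQuasicoherent] [Gi.IsQuasicoherent] (hFi : CohB1.IsFP Fi)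
    (hGi : CohB1.IsFP Gi) (ui : Fi ⟶ Gi) (x : X)
    (hinj : Function.Injective ((TopCat.Presheaf.stalkFunctor Ab (vX x)).map
      (Scheme.Modules.Hom.mapPresheaf ui)))
    (hfl : FlatMod.IsFlatOverAt fi (cokernel ui) (vX x)) :
    Function.Injective ((TopCat.Presheaf.stalkFunctor Ab x).map
      (Scheme.Modules.Hom.mapPresheaf ((Scheme.Modules.pullback vX).map ui))) := by
  have hopen := Groth.Agent.H49.InjCoker.isOpen_setOf_injective_and_coker_flat ui fi hGi hFi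
  obtain ⟨V, hV, hxV, -⟩ :=
    exists_isAffineOpen_mem_and_subset (x := fi (vX x)) (U := (⊤ : Yi.Opens)) trivial
  obtain ⟨W, hW, hxW, hWle⟩ := exists_isAffineOpen_mem_and_subset (x := vX x)
    (U := fi ⁻¹ᵁ V ⊓ ⟨_, hopen⟩) ⟨hxV, ⟨hinj, hfl⟩⟩
  have hWV : W ≤ fi ⁻¹ᵁ V := hWle.trans inf_le_left
  have hflat := Groth.Agent.H8.flat_sections_of_isFlatOverAt fi (cokernel ui) hW hV hWV
    (fun y hy => (hWle hy).2.2)
  have hxV' : f x ∈ vY ⁻¹ᵁ V := by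
    show vY (f x) ∈ V
    rw [← Scheme.Hom.comp_apply, ← hsq.w, Scheme.Hom.comp_apply]
    exact hxV
  obtain ⟨V', hV', hxV'', hV'V⟩ :=
    exists_isAffineOpen_mem_and_subset (x := f x) (U := vY ⁻¹ᵁ V) hxV'
  have hW'aff : IsAffineOpen (vX ⁻¹ᵁ W ⊓ f ⁻¹ᵁ V') :=
    Groth.Agent.H57.InjCokerChart.isAffineOpen_chart hsq hV hV' hW hV'V hWV rfl
  have hxW' : x ∈ vX ⁻¹ᵁ W ⊓ f ⁻¹ᵁ V' := ⟨hxW, hxV''⟩
  haveI := Groth.Agent.H8.isQuasicoherent_pullback vX Fi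
  haveI := Groth.Agent.H8.isQuasicoherent_pullback vX Gi
  rw [Groth.Agent.H57.InjCokerChart.stalkMap_injective_iff_chart _ hW'aff x hxW']
  intro z hz
  refine ⟨1, ?_, ?_⟩
  · rw [Scheme.mem_basicOpen _ _ _ hxW', map_one]
    exact isUnit_one
  · refine Groth.Agent.H57.InjCokerChart.smul_eq_zero_of_app_pullback_eq_zero hsq hV hV' hW hV'V
      hWV rfl ui hflat (Fin.elim0 : Fin 0 → Γ(Fi, W)) ?_ 1 (fun i => i.elim0) z hz
    intro m hm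
    have hm0 : m = 0 :=
      Groth.Agent.H57.InjCokerChart.app_eq_zero_of_forall_stalkMap_injective ui W
        (fun y hy => (hWle hy).2.1) m hm
    rw [hm0]
    exact Submodule.zero_mem _

end BaseChange

section Main

variable {I : Type u} [SmallCategory I] [IsCofiltered I]
    (D : I ⥤ Scheme.{u}) (c : Limits.Cone D) (hc : Limits.IsLimit c)
    [∀ (i j : I) (φ : i ⟶ j), IsAffineHom (D.map φ)] (i₀ : I)
    {X₀ Y₀ : Scheme.{u}} (f₀ : X₀ ⟶ Y₀) (g₀ : Y₀ ⟶ D.obj i₀) [LocallyOfFinitePresentation f₀]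
    {X Y : Scheme.{u}} (f : X ⟶ Y) (g : Y ⟶ c.pt) (qY : Y ⟶ Y₀) (qX : X ⟶ X₀)
    (hY : IsPullback qY g g₀ (c.π.app i₀)) (hX : IsPullback qX f f₀ qY)

set_option maxHeartbeats 3200000 in
include hc in
/-- Pointwise flatness of a pulled back finitely presented module descends to a finite stage
(the proof of S4900, without the finiteness hypotheses on the base). -/
theorem exists_flat_stage (F₀ : X₀.Modules) [F₀.IsQuasicoherent]
    (hF₀fp : SheafOfModules.IsFinitePresentation (R := X₀.ringCatSheaf) F₀) (x : X)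
    (hfl : FlatMod.IsFlatOverAt f ((Scheme.Modules.pullback qX).obj F₀) x) :
    ∃ k : Over i₀, FlatMod.IsFlatOverAt (pbRel D (𝟙 i₀) f₀ g₀ k)
      ((Scheme.Modules.pullback (pullback.fst (f₀ ≫ g₀) (D.map (k.hom ≫ 𝟙 i₀)))).obj F₀)
      (pbLift D (𝟙 i₀) (f₀ ≫ g₀) c qX (f ≫ g) (hX.paste_vert hY).w k x) := by
  classical
  haveI := hF₀fp
  have hAff : ∀ {i j : I} (f : i ⟶ j), IsAffineHom (D.map f) := fun f => inferInstance
  have hlfp : LocallyOfFinitePresentation (pbRel D (𝟙 i₀) f₀ g₀ (Over.mk (𝟙 i₀))) :=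
    MorphismProperty.of_isPullback (P := @LocallyOfFinitePresentation)
      (isPullback_pbRel D (𝟙 i₀) f₀ g₀ (Over.mk (𝟙 i₀))) inferInstance
  haveI hG₀qc : ((Scheme.Modules.pullback (pullback.fst (f₀ ≫ g₀)
      (D.map ((Over.mk (𝟙 i₀)).hom ≫ 𝟙 i₀)))).obj F₀).IsQuasicoherent :=
    Groth.Agent.H8.isQuasicoherent_pullback _ F₀
  haveI hG₀fp : SheafOfModules.IsFinitePresentation
      (R := (pullback (f₀ ≫ g₀) (D.map ((Over.mk (𝟙 i₀)).hom ≫ 𝟙 i₀))).ringCatSheaf)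
      ((Scheme.Modules.pullback (pullback.fst (f₀ ≫ g₀)
        (D.map ((Over.mk (𝟙 i₀)).hom ≫ 𝟙 i₀)))).obj F₀) :=
    ModLimIso.isFinitePresentation_pullback _ F₀
  have sq := isPullback_pbLift_pbRel D (𝟙 i₀) f₀ g₀ c f g qY qX hY hX (Over.mk (𝟙 i₀))
  have hsqiso : IsPullback sq.isoPullback.inv
      (pullback.snd (pbRel D (𝟙 i₀) f₀ g₀ (Over.mk (𝟙 i₀)))
        (pbLift D (𝟙 i₀) g₀ c qY g hY.w (Over.mk (𝟙 i₀)))) f (𝟙 Y) :=
    IsPullback.of_horiz_isIso ⟨sq.isoPullback_inv_snd.trans (Category.comp_id _).symm⟩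
  have hcompat : sq.isoPullback.inv ≫ qX =
      pullback.fst (pbRel D (𝟙 i₀) f₀ g₀ (Over.mk (𝟙 i₀)))
        (pbLift D (𝟙 i₀) g₀ c qY g hY.w (Over.mk (𝟙 i₀))) ≫
      pullback.fst (f₀ ≫ g₀) (D.map ((Over.mk (𝟙 i₀)).hom ≫ 𝟙 i₀)) := by
    rw [← sq.isoPullback_inv_fst, Category.assoc, pbLift_fst]
  haveI := Groth.Agent.H8.isQuasicoherent_pullback qX F₀
  haveI := Groth.Agent.H8.isQuasicoherent_pullback
    (pullback.fst (pbRel D (𝟙 i₀) f₀ g₀ (Over.mk (𝟙 i₀)))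
      (pbLift D (𝟙 i₀) g₀ c qY g hY.w (Over.mk (𝟙 i₀))))
    ((Scheme.Modules.pullback (pullback.fst (f₀ ≫ g₀)
      (D.map ((Over.mk (𝟙 i₀)).hom ≫ 𝟙 i₀)))).obj F₀)
  have hxx : sq.isoPullback.inv (sq.isoPullback.hom x) = x := by
    rw [← Scheme.Hom.comp_apply, sq.isoPullback.hom_inv_id]
    rfl
  have hlim : FlatMod.IsFlatOverAt
      (pullback.snd (pbRel D (𝟙 i₀) f₀ g₀ (Over.mk (𝟙 i₀)))
        (pbLift D (𝟙 i₀) g₀ c qY g hY.w (Over.mk (𝟙 i₀))))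
      ((Scheme.Modules.pullback
        (pullback.fst (pbRel D (𝟙 i₀) f₀ g₀ (Over.mk (𝟙 i₀)))
          (pbLift D (𝟙 i₀) g₀ c qY g hY.w (Over.mk (𝟙 i₀))))).obj
        ((Scheme.Modules.pullback (pullback.fst (f₀ ≫ g₀)
          (D.map ((Over.mk (𝟙 i₀)).hom ≫ 𝟙 i₀)))).obj F₀)) (sq.isoPullback.hom x) :=
    Groth.Agent.H57.isFlatOverAt_of_isPullback_of_iso f _ sq.isoPullback.inv (𝟙 Y) hsqiso _ _
      (Groth.Agent.H57.pullbackPullbackIso₂ sq.isoPullback.inv qX _ _ hcompat F₀)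
      (sq.isoPullback.hom x) (by rw [hxx]; exact hfl)
  obtain ⟨k, hk⟩ := @Groth.Agent.H57.LimFlatModPt.exists_isFlatOverAt_stage (Over i₀) _ _
    (pbDiagram D (𝟙 i₀) g₀) (pbCone D (𝟙 i₀) g₀ c qY g hY.w)
    (isLimitPbCone D (𝟙 i₀) g₀ c hc qY g hY) _ (Over.mk (𝟙 i₀)) _
    (pbRel D (𝟙 i₀) f₀ g₀ (Over.mk (𝟙 i₀))) hlfp
    ((Scheme.Modules.pullback (pullback.fst (f₀ ≫ g₀)
      (D.map ((Over.mk (𝟙 i₀)).hom ≫ 𝟙 i₀)))).obj F₀) hG₀qc hG₀fp (sq.isoPullback.hom x) hlim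
  have sq' := isPullback_pbMap_pbRel D (𝟙 i₀) f₀ g₀ k.hom
  have hw : pbLift D (𝟙 i₀) g₀ c qY g hY.w k.left ≫ pbMap D (𝟙 i₀) g₀ k.hom =
      pbLift D (𝟙 i₀) g₀ c qY g hY.w (Over.mk (𝟙 i₀)) :=
    pbLift_pbMap D (𝟙 i₀) g₀ c qY g hY.w k.hom
  have hmor : pbLift D (𝟙 i₀) (f₀ ≫ g₀) c qX (f ≫ g) (hX.paste_vert hY).w k.left ≫
      sq'.isoPullback.hom = sq.isoPullback.hom ≫
      Groth.Agent.H57.LimFlatModPt.tMap
        (pbRel D (𝟙 i₀) f₀ g₀ (Over.mk (𝟙 i₀)))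
        (pbMap D (𝟙 i₀) g₀ k.hom)
        (pbLift D (𝟙 i₀) g₀ c qY g hY.w k.left)
        (pbLift D (𝟙 i₀) g₀ c qY g hY.w (Over.mk (𝟙 i₀))) hw := by
    apply pullback.hom_ext
    · rw [Category.assoc, sq'.isoPullback_hom_fst, pbLift_pbMap, Category.assoc,
        Groth.Agent.H57.LimFlatModPt.tMap_fst, sq.isoPullback_hom_fst]
    · rw [Category.assoc, sq'.isoPullback_hom_snd,
        pbLift_pbRel D (𝟙 i₀) f₀ g₀ c f g qY qX hY hX k.left, Category.assoc,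
        Groth.Agent.H57.LimFlatModPt.tMap_snd, ← Category.assoc, sq.isoPullback_hom_snd]
  have hpt : sq'.isoPullback.hom
      (pbLift D (𝟙 i₀) (f₀ ≫ g₀) c qX (f ≫ g) (hX.paste_vert hY).w k.left x) =
      Groth.Agent.H57.LimFlatModPt.tMap
        (pbRel D (𝟙 i₀) f₀ g₀ (Over.mk (𝟙 i₀)))
        (pbMap D (𝟙 i₀) g₀ k.hom)
        (pbLift D (𝟙 i₀) g₀ c qY g hY.w k.left)
        (pbLift D (𝟙 i₀) g₀ c qY g hY.w (Over.mk (𝟙 i₀))) hw
        (sq.isoPullback.hom x) := by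
    rw [← Scheme.Hom.comp_apply, ← Scheme.Hom.comp_apply, hmor]
  have hk' : FlatMod.IsFlatOverAt
      (pullback.snd (pbRel D (𝟙 i₀) f₀ g₀ (Over.mk (𝟙 i₀)))
        (pbMap D (𝟙 i₀) g₀ k.hom))
      ((Scheme.Modules.pullback
        (pullback.fst (pbRel D (𝟙 i₀) f₀ g₀ (Over.mk (𝟙 i₀)))
          (pbMap D (𝟙 i₀) g₀ k.hom))).obj
        ((Scheme.Modules.pullback (pullback.fst (f₀ ≫ g₀)
          (D.map ((Over.mk (𝟙 i₀)).hom ≫ 𝟙 i₀)))).obj F₀))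
      (sq'.isoPullback.hom
        (pbLift D (𝟙 i₀) (f₀ ≫ g₀) c qX (f ≫ g) (hX.paste_vert hY).w k.left x)) := by
    rw [hpt]
    exact hk
  have hsqiso' : IsPullback sq'.isoPullback.hom (pbRel D (𝟙 i₀) f₀ g₀ k.left)
      (pullback.snd (pbRel D (𝟙 i₀) f₀ g₀ (Over.mk (𝟙 i₀)))
        (pbMap D (𝟙 i₀) g₀ k.hom)) (𝟙 _) :=
    IsPullback.of_horiz_isIso ⟨sq'.isoPullback_hom_snd.trans (Category.comp_id _).symm⟩
  haveI := Groth.Agent.H8.isQuasicoherent_pullback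
    (pullback.fst (pbRel D (𝟙 i₀) f₀ g₀ (Over.mk (𝟙 i₀)))
      (pbMap D (𝟙 i₀) g₀ k.hom))
    ((Scheme.Modules.pullback (pullback.fst (f₀ ≫ g₀)
      (D.map ((Over.mk (𝟙 i₀)).hom ≫ 𝟙 i₀)))).obj F₀)
  haveI := Groth.Agent.H8.isQuasicoherent_pullback
    (pullback.fst (f₀ ≫ g₀) (D.map (k.left.hom ≫ 𝟙 i₀))) F₀
  exact ⟨k.left, Groth.Agent.H57.isFlatOverAt_of_isPullback_of_iso _ _ sq'.isoPullback.hom (𝟙 _)
    hsqiso' _ _
    (Groth.Agent.H57.pullbackPullbackIso sq'.isoPullback.hom _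
        (pbMap D (𝟙 i₀) (f₀ ≫ g₀) k.hom) sq'.isoPullback_hom_fst _ ≪≫
      Groth.Agent.H57.pullbackPullbackIso (pbMap D (𝟙 i₀) (f₀ ≫ g₀) k.hom) _ _
        (pbMap_fst D (𝟙 i₀) (f₀ ≫ g₀) k.hom) F₀) _ hk'⟩

set_option maxHeartbeats 6400000 in
include hc in
/-- **Injectivity with flat cokernel at a point descends to a finite stage.** -/
theorem exists_inj_cokerFlat_stage {F₀ G₀ : X₀.Modules} [F₀.IsQuasicoherent]
    [G₀.IsQuasicoherent] (hF₀ : CohB1.IsFP F₀) (hG₀ : CohB1.IsFP G₀) (h₀ : F₀ ⟶ G₀) (x : X)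
    (hinj : Function.Injective ((TopCat.Presheaf.stalkFunctor Ab x).map
      (Scheme.Modules.Hom.mapPresheaf ((Scheme.Modules.pullback qX).map h₀))))
    (hfl : FlatMod.IsFlatOverAt f (cokernel ((Scheme.Modules.pullback qX).map h₀)) x) :
    ∃ k : Over i₀,
      Function.Injective ((TopCat.Presheaf.stalkFunctor Ab
          (pbLift D (𝟙 i₀) (f₀ ≫ g₀) c qX (f ≫ g) (hX.paste_vert hY).w k x)).map
        (Scheme.Modules.Hom.mapPresheaf ((Scheme.Modules.pullback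
          (pullback.fst (f₀ ≫ g₀) (D.map (k.hom ≫ 𝟙 i₀)))).map h₀))) ∧
      FlatMod.IsFlatOverAt (pbRel D (𝟙 i₀) f₀ g₀ k)
        (cokernel ((Scheme.Modules.pullback
          (pullback.fst (f₀ ≫ g₀) (D.map (k.hom ≫ 𝟙 i₀)))).map h₀))
        (pbLift D (𝟙 i₀) (f₀ ≫ g₀) c qX (f ≫ g) (hX.paste_vert hY).w k x) := by
  classical
  have hAff : ∀ {i j : I} (f : i ⟶ j), IsAffineHom (D.map f) := fun f => inferInstance
  haveI : SheafOfModules.IsFinitePresentation (R := X₀.ringCatSheaf) F₀ := hF₀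
  haveI : SheafOfModules.IsFinitePresentation (R := X₀.ringCatSheaf) G₀ := hG₀
  haveI hCfp : SheafOfModules.IsFinitePresentation (R := X₀.ringCatSheaf) (cokernel h₀) :=
    Groth.Agent.H49.InjCoker.isFP_cokernel h₀ hG₀ hF₀
  haveI := Groth.Agent.H8.isQuasicoherent_pullback qX F₀
  haveI := Groth.Agent.H8.isQuasicoherent_pullback qX G₀
  haveI := Groth.Agent.H8.isQuasicoherent_pullback qX (cokernel h₀)
  have hflC : FlatMod.IsFlatOverAt f ((Scheme.Modules.pullback qX).obj (cokernel h₀)) x :=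
    Groth.Agent.H57.isFlatOverAt_of_iso f (cokerPullbackIso qX h₀).symm x hfl
  obtain ⟨k₁, hk₁⟩ := exists_flat_stage D c hc i₀ f₀ g₀ f g qY qX hY hX (cokernel h₀) hCfp x hflC
  -- the base stage `k₁`
  haveI qF₁ := Groth.Agent.H8.isQuasicoherent_pullback
    (pullback.fst (f₀ ≫ g₀) (D.map (k₁.hom ≫ 𝟙 i₀))) F₀
  haveI qG₁ := Groth.Agent.H8.isQuasicoherent_pullback
    (pullback.fst (f₀ ≫ g₀) (D.map (k₁.hom ≫ 𝟙 i₀))) G₀
  haveI qC₁ := Groth.Agent.H8.isQuasicoherent_pullback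
    (pullback.fst (f₀ ≫ g₀) (D.map (k₁.hom ≫ 𝟙 i₀))) (cokernel h₀)
  haveI pF₁ := ModLimIso.isFinitePresentation_pullback
    (pullback.fst (f₀ ≫ g₀) (D.map (k₁.hom ≫ 𝟙 i₀))) F₀
  haveI pG₁ := ModLimIso.isFinitePresentation_pullback
    (pullback.fst (f₀ ≫ g₀) (D.map (k₁.hom ≫ 𝟙 i₀))) G₀
  haveI hlfp₁ : LocallyOfFinitePresentation (pbRel D (𝟙 i₀) f₀ g₀ k₁) :=
    MorphismProperty.of_isPullback (P := @LocallyOfFinitePresentation)
      (isPullback_pbRel D (𝟙 i₀) f₀ g₀ k₁) inferInstance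
  have hfl₁ : FlatMod.IsFlatOverAt (pbRel D (𝟙 i₀) f₀ g₀ k₁)
      (cokernel ((Scheme.Modules.pullback
        (pullback.fst (f₀ ≫ g₀) (D.map (k₁.hom ≫ 𝟙 i₀)))).map h₀))
      (pbLift D (𝟙 i₀) (f₀ ≫ g₀) c qX (f ≫ g) (hX.paste_vert hY).w k₁ x) :=
    Groth.Agent.H57.isFlatOverAt_of_iso _ (cokerPullbackIso _ h₀) _ hk₁
  have hCfp₁ : CohB1.IsFP (cokernel ((Scheme.Modules.pullback
      (pullback.fst (f₀ ≫ g₀) (D.map (k₁.hom ≫ 𝟙 i₀)))).map h₀)) :=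
    Groth.Agent.H49.InjCoker.isFP_cokernel _ pG₁ pF₁
  haveI : Coh.IsQCoh (cokernel ((Scheme.Modules.pullback
      (pullback.fst (f₀ ≫ g₀) (D.map (k₁.hom ≫ 𝟙 i₀)))).map h₀)) :=
    inferInstanceAs (cokernel ((Scheme.Modules.pullback
      (pullback.fst (f₀ ≫ g₀) (D.map (k₁.hom ≫ 𝟙 i₀)))).map h₀)).IsQuasicoherent
  have hopen := Groth.Agent.S4863.result (pbRel D (𝟙 i₀) f₀ g₀ k₁) _ hCfp₁
  obtain ⟨V, hV, hx₁V, -⟩ := exists_isAffineOpen_mem_and_subset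
    (x := pbRel D (𝟙 i₀) f₀ g₀ k₁
      (pbLift D (𝟙 i₀) (f₀ ≫ g₀) c qX (f ≫ g) (hX.paste_vert hY).w k₁ x))
    (U := (⊤ : (pullback g₀ (D.map (k₁.hom ≫ 𝟙 i₀))).Opens)) trivial
  obtain ⟨W, hW, hx₁W, hWle⟩ := exists_isAffineOpen_mem_and_subset
    (x := pbLift D (𝟙 i₀) (f₀ ≫ g₀) c qX (f ≫ g) (hX.paste_vert hY).w k₁ x)
    (U := pbRel D (𝟙 i₀) f₀ g₀ k₁ ⁻¹ᵁ V ⊓ ⟨_, hopen⟩) ⟨hx₁V, hfl₁⟩
  have hWV : W ≤ pbRel D (𝟙 i₀) f₀ g₀ k₁ ⁻¹ᵁ V := hWle.trans inf_le_left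
  have hflat := Groth.Agent.H8.flat_sections_of_isFlatOverAt (pbRel D (𝟙 i₀) f₀ g₀ k₁)
    (cokernel ((Scheme.Modules.pullback
      (pullback.fst (f₀ ≫ g₀) (D.map (k₁.hom ≫ 𝟙 i₀)))).map h₀)) hW hV hWV
    (fun y hy => (hWle hy).2)
  -- finite generation of the kernel on the chart
  have hfg : (LinearMap.ker (Groth.Agent.H8.appₗ ((Scheme.Modules.pullback
      (pullback.fst (f₀ ≫ g₀) (D.map (k₁.hom ≫ 𝟙 i₀)))).map h₀) W)).FG := by
    letI : Algebra Γ(pullback g₀ (D.map (k₁.hom ≫ 𝟙 i₀)), V)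
        Γ(pullback (f₀ ≫ g₀) (D.map (k₁.hom ≫ 𝟙 i₀)), W) :=
      ((pbRel D (𝟙 i₀) f₀ g₀ k₁).appLE V W hWV).hom.toAlgebra
    haveI : Algebra.FinitePresentation Γ(pullback g₀ (D.map (k₁.hom ≫ 𝟙 i₀)), V)
        Γ(pullback (f₀ ≫ g₀) (D.map (k₁.hom ≫ 𝟙 i₀)), W) :=
      (pbRel D (𝟙 i₀) f₀ g₀ k₁).finitePresentation_appLE hV hW hWV
    letI : Module Γ(pullback g₀ (D.map (k₁.hom ≫ 𝟙 i₀)), V)
        Γ(cokernel ((Scheme.Modules.pullback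
          (pullback.fst (f₀ ≫ g₀) (D.map (k₁.hom ≫ 𝟙 i₀)))).map h₀), W) :=
      Module.compHom _ ((pbRel D (𝟙 i₀) f₀ g₀ k₁).appLE V W hWV).hom
    haveI : IsScalarTower Γ(pullback g₀ (D.map (k₁.hom ≫ 𝟙 i₀)), V)
        Γ(pullback (f₀ ≫ g₀) (D.map (k₁.hom ≫ 𝟙 i₀)), W)
        Γ(cokernel ((Scheme.Modules.pullback
          (pullback.fst (f₀ ≫ g₀) (D.map (k₁.hom ≫ 𝟙 i₀)))).map h₀), W) :=
      IsScalarTower.of_algebraMap_smul fun r m => rfl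
    haveI : Module.Flat Γ(pullback g₀ (D.map (k₁.hom ≫ 𝟙 i₀)), V)
        Γ(cokernel ((Scheme.Modules.pullback
          (pullback.fst (f₀ ≫ g₀) (D.map (k₁.hom ≫ 𝟙 i₀)))).map h₀), W) := hflat
    haveI : Module.FinitePresentation Γ(pullback (f₀ ≫ g₀) (D.map (k₁.hom ≫ 𝟙 i₀)), W)
        Γ((Scheme.Modules.pullback
          (pullback.fst (f₀ ≫ g₀) (D.map (k₁.hom ≫ 𝟙 i₀)))).obj G₀, W) :=
      Groth.Agent.H8.finitePresentation_sections_of_isAffineOpen _ hW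
    haveI : Module.FinitePresentation Γ(pullback (f₀ ≫ g₀) (D.map (k₁.hom ≫ 𝟙 i₀)), W)
        Γ((Scheme.Modules.pullback
          (pullback.fst (f₀ ≫ g₀) (D.map (k₁.hom ≫ 𝟙 i₀)))).obj F₀, W) :=
      Groth.Agent.H8.finitePresentation_sections_of_isAffineOpen _ hW
    exact Groth.Agent.H49.KerFG.ker_fg_of_flat_coker
      (A := Γ(pullback g₀ (D.map (k₁.hom ≫ 𝟙 i₀)), V))
      (Groth.Agent.H8.appₗ ((Scheme.Modules.pullback
        (pullback.fst (f₀ ≫ g₀) (D.map (k₁.hom ≫ 𝟙 i₀)))).map h₀) W)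
      (Groth.Agent.H8.appₗ (cokernel.π ((Scheme.Modules.pullback
        (pullback.fst (f₀ ≫ g₀) (D.map (k₁.hom ≫ 𝟙 i₀)))).map h₀)) W)
      (Groth.Agent.H49.InjCoker.app_π_surjective _ hW)
      (Groth.Agent.H49.InjCoker.exact_appₗ _ hW)
  obtain ⟨r, κ, hκ⟩ := Submodule.fg_iff_exists_fin_generating_family.mp hfg
  have hκker : ∀ i, ((Scheme.Modules.pullback
      (pullback.fst (f₀ ≫ g₀) (D.map (k₁.hom ≫ 𝟙 i₀)))).map h₀).app W (κ i) = 0 := fun i => by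
    have h1 : κ i ∈ LinearMap.ker (Groth.Agent.H8.appₗ ((Scheme.Modules.pullback
        (pullback.fst (f₀ ≫ g₀) (D.map (k₁.hom ≫ 𝟙 i₀)))).map h₀) W) :=
      hκ ▸ Submodule.subset_span ⟨i, rfl⟩
    have h2 : Groth.Agent.H8.appₗ ((Scheme.Modules.pullback
        (pullback.fst (f₀ ≫ g₀) (D.map (k₁.hom ≫ 𝟙 i₀)))).map h₀) W (κ i) = 0 :=
      LinearMap.mem_ker.mp h1
    exact h2
  have hκgen : ∀ m : Γ((Scheme.Modules.pullback
      (pullback.fst (f₀ ≫ g₀) (D.map (k₁.hom ≫ 𝟙 i₀)))).obj F₀, W),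
      ((Scheme.Modules.pullback
        (pullback.fst (f₀ ≫ g₀) (D.map (k₁.hom ≫ 𝟙 i₀)))).map h₀).app W m = 0 →
      m ∈ Submodule.span Γ(pullback (f₀ ≫ g₀) (D.map (k₁.hom ≫ 𝟙 i₀)), W) (Set.range κ) := by
    intro m hm
    rw [hκ]
    exact LinearMap.mem_ker.mpr hm
  -- the limit
  have hlim := isLimitPbCone D (𝟙 i₀) (f₀ ≫ g₀) c hc qX (f ≫ g) (hX.paste_vert hY)
  haveI : IsAffineHom (pbLift D (𝟙 i₀) (f₀ ≫ g₀) c qX (f ≫ g) (hX.paste_vert hY).w k₁) :=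
    isAffineHom_π_app (pbDiagram D (𝟙 i₀) (f₀ ≫ g₀))
      (pbCone D (𝟙 i₀) (f₀ ≫ g₀) c qX (f ≫ g) (hX.paste_vert hY).w) hlim k₁
  have hWinf : IsAffineOpen
      (pbLift D (𝟙 i₀) (f₀ ≫ g₀) c qX (f ≫ g) (hX.paste_vert hY).w k₁ ⁻¹ᵁ W) := hW.preimage _
  have hxWinf : x ∈ pbLift D (𝟙 i₀) (f₀ ≫ g₀) c qX (f ≫ g) (hX.paste_vert hY).w k₁ ⁻¹ᵁ W := hx₁W
  have hinj₁ := (stalkMap_injective_pullback_comp_iff
    (pbLift D (𝟙 i₀) (f₀ ≫ g₀) c qX (f ≫ g) (hX.paste_vert hY).w k₁)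
    (pullback.fst (f₀ ≫ g₀) (D.map (k₁.hom ≫ 𝟙 i₀))) qX
    (pbLift_fst D (𝟙 i₀) (f₀ ≫ g₀) c qX (f ≫ g) (hX.paste_vert hY).w k₁) h₀ x).mpr hinj
  haveI := Groth.Agent.H8.isQuasicoherent_pullback
    (pbLift D (𝟙 i₀) (f₀ ≫ g₀) c qX (f ≫ g) (hX.paste_vert hY).w k₁)
    ((Scheme.Modules.pullback (pullback.fst (f₀ ≫ g₀) (D.map (k₁.hom ≫ 𝟙 i₀)))).obj F₀)
  haveI := Groth.Agent.H8.isQuasicoherent_pullback
    (pbLift D (𝟙 i₀) (f₀ ≫ g₀) c qX (f ≫ g) (hX.paste_vert hY).w k₁)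
    ((Scheme.Modules.pullback (pullback.fst (f₀ ≫ g₀) (D.map (k₁.hom ≫ 𝟙 i₀)))).obj G₀)
  have hcrit := (Groth.Agent.H57.InjCokerChart.stalkMap_injective_iff_chart _ hWinf x hxWinf).mp hinj₁
  have hkill : ∀ i, ∃ a : Γ(X,
      pbLift D (𝟙 i₀) (f₀ ≫ g₀) c qX (f ≫ g) (hX.paste_vert hY).w k₁ ⁻¹ᵁ W),
      x ∈ X.basicOpen a ∧ a • pullSectLE
        (pbLift D (𝟙 i₀) (f₀ ≫ g₀) c qX (f ≫ g) (hX.paste_vert hY).w k₁)
        ((Scheme.Modules.pullback (pullback.fst (f₀ ≫ g₀) (D.map (k₁.hom ≫ 𝟙 i₀)))).obj F₀) W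
        (pbLift D (𝟙 i₀) (f₀ ≫ g₀) c qX (f ≫ g) (hX.paste_vert hY).w k₁ ⁻¹ᵁ W) le_rfl (κ i) =
        0 := by
    intro i
    refine hcrit _ ?_
    rw [map_pullSectLE, hκker i, map_zero]
  obtain ⟨s, hxs, hs⟩ := Groth.Agent.H57.InjCokerChart.exists_common_killer _ x hxWinf _ hkill
  -- descent to a finite stage
  obtain ⟨j, sj, hsj, hkj⟩ := exists_stage_killer (pbDiagram D (𝟙 i₀) (f₀ ≫ g₀))
    (pbCone D (𝟙 i₀) (f₀ ≫ g₀) c qX (f ≫ g) (hX.paste_vert hY).w) hlim k₁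
    ((Scheme.Modules.pullback (pullback.fst (f₀ ≫ g₀) (D.map (k₁.hom ≫ 𝟙 i₀)))).obj F₀) qF₁ hW κ s
    hs
  have sqj := isPullback_pbMap_pbRel D (𝟙 i₀) f₀ g₀ j.hom
  have hxj : pbMap D (𝟙 i₀) (f₀ ≫ g₀) j.hom
      (pbLift D (𝟙 i₀) (f₀ ≫ g₀) c qX (f ≫ g) (hX.paste_vert hY).w j.left x) =
      pbLift D (𝟙 i₀) (f₀ ≫ g₀) c qX (f ≫ g) (hX.paste_vert hY).w k₁ x := by
    rw [← Scheme.Hom.comp_apply, pbLift_pbMap]
  refine ⟨j.left, ?_, ?_⟩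
  · haveI : IsAffineHom (pbMap D (𝟙 i₀) g₀ j.hom) :=
      inferInstanceAs (IsAffineHom ((pbDiagram D (𝟙 i₀) g₀).map j.hom))
    haveI : IsAffineHom (pbMap D (𝟙 i₀) (f₀ ≫ g₀) j.hom) :=
      inferInstanceAs (IsAffineHom ((pbDiagram D (𝟙 i₀) (f₀ ≫ g₀)).map j.hom))
    have hV' : IsAffineOpen (pbMap D (𝟙 i₀) g₀ j.hom ⁻¹ᵁ V) := hV.preimage _
    have hW'eq : pbMap D (𝟙 i₀) (f₀ ≫ g₀) j.hom ⁻¹ᵁ W =
        pbMap D (𝟙 i₀) (f₀ ≫ g₀) j.hom ⁻¹ᵁ W ⊓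
          pbRel D (𝟙 i₀) f₀ g₀ j.left ⁻¹ᵁ (pbMap D (𝟙 i₀) g₀ j.hom ⁻¹ᵁ V) := by
      refine le_antisymm (le_inf le_rfl ?_) inf_le_left
      intro y hy
      show pbMap D (𝟙 i₀) g₀ j.hom (pbRel D (𝟙 i₀) f₀ g₀ j.left y) ∈ V
      rw [← Scheme.Hom.comp_apply, ← sqj.w, Scheme.Hom.comp_apply]
      exact hWV hy
    have hW'aff : IsAffineOpen (pbMap D (𝟙 i₀) (f₀ ≫ g₀) j.hom ⁻¹ᵁ W) := hW.preimage _
    have hxjW' : pbLift D (𝟙 i₀) (f₀ ≫ g₀) c qX (f ≫ g) (hX.paste_vert hY).w j.left x ∈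
        pbMap D (𝟙 i₀) (f₀ ≫ g₀) j.hom ⁻¹ᵁ W := by
      show pbMap D (𝟙 i₀) (f₀ ≫ g₀) j.hom _ ∈ W
      rw [hxj]
      exact hx₁W
    have hxjs : pbLift D (𝟙 i₀) (f₀ ≫ g₀) c qX (f ≫ g) (hX.paste_vert hY).w j.left x ∈
        (pullback (f₀ ≫ g₀) (D.map (j.left.hom ≫ 𝟙 i₀))).basicOpen sj := by
      have hle : pbLift D (𝟙 i₀) (f₀ ≫ g₀) c qX (f ≫ g) (hX.paste_vert hY).w k₁ ⁻¹ᵁ W ≤
          pbLift D (𝟙 i₀) (f₀ ≫ g₀) c qX (f ≫ g) (hX.paste_vert hY).w j.left ⁻¹ᵁ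
            (pbMap D (𝟙 i₀) (f₀ ≫ g₀) j.hom ⁻¹ᵁ W) := by
        rw [← Scheme.Hom.comp_preimage, pbLift_pbMap]
      have hxs2 : x ∈ X.basicOpen
          ((pbLift D (𝟙 i₀) (f₀ ≫ g₀) c qX (f ≫ g) (hX.paste_vert hY).w j.left).appLE
            (pbMap D (𝟙 i₀) (f₀ ≫ g₀) j.hom ⁻¹ᵁ W)
            (pbLift D (𝟙 i₀) (f₀ ≫ g₀) c qX (f ≫ g) (hX.paste_vert hY).w k₁ ⁻¹ᵁ W) hle sj) := by
        have h3 := hxs
        rw [← hsj] at h3
        exact h3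
      exact ((Scheme.basicOpen_appLE
        (pbLift D (𝟙 i₀) (f₀ ≫ g₀) c qX (f ≫ g) (hX.paste_vert hY).w j.left) _ _ hle sj).le hxs2).2
    haveI := Groth.Agent.H8.isQuasicoherent_pullback (pbMap D (𝟙 i₀) (f₀ ≫ g₀) j.hom)
      ((Scheme.Modules.pullback (pullback.fst (f₀ ≫ g₀) (D.map (k₁.hom ≫ 𝟙 i₀)))).obj F₀)
    haveI := Groth.Agent.H8.isQuasicoherent_pullback (pbMap D (𝟙 i₀) (f₀ ≫ g₀) j.hom)
      ((Scheme.Modules.pullback (pullback.fst (f₀ ≫ g₀) (D.map (k₁.hom ≫ 𝟙 i₀)))).obj G₀)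
    have hinjj : Function.Injective ((TopCat.Presheaf.stalkFunctor Ab
          (pbLift D (𝟙 i₀) (f₀ ≫ g₀) c qX (f ≫ g) (hX.paste_vert hY).w j.left x)).map
        (Scheme.Modules.Hom.mapPresheaf ((Scheme.Modules.pullback
          (pbMap D (𝟙 i₀) (f₀ ≫ g₀) j.hom)).map ((Scheme.Modules.pullback
            (pullback.fst (f₀ ≫ g₀) (D.map (k₁.hom ≫ 𝟙 i₀)))).map h₀)))) := by
      rw [Groth.Agent.H57.InjCokerChart.stalkMap_injective_iff_chart _ hW'aff _ hxjW']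
      intro z hz
      exact ⟨sj, hxjs, Groth.Agent.H57.InjCokerChart.smul_eq_zero_of_app_pullback_eq_zero sqj hV hV'
        hW le_rfl hWV hW'eq _ hflat κ hκgen sj hkj z hz⟩
    exact (stalkMap_injective_pullback_comp_iff (pbMap D (𝟙 i₀) (f₀ ≫ g₀) j.hom)
      (pullback.fst (f₀ ≫ g₀) (D.map (k₁.hom ≫ 𝟙 i₀)))
      (pullback.fst (f₀ ≫ g₀) (D.map (j.left.hom ≫ 𝟙 i₀)))
      (pbMap_fst D (𝟙 i₀) (f₀ ≫ g₀) j.hom) h₀ _).mp hinjj
  · haveI := Groth.Agent.H8.isQuasicoherent_pullback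
      (pullback.fst (f₀ ≫ g₀) (D.map (j.left.hom ≫ 𝟙 i₀))) F₀
    haveI := Groth.Agent.H8.isQuasicoherent_pullback
      (pullback.fst (f₀ ≫ g₀) (D.map (j.left.hom ≫ 𝟙 i₀))) G₀
    haveI := Groth.Agent.H8.isQuasicoherent_pullback
      (pullback.fst (f₀ ≫ g₀) (D.map (j.left.hom ≫ 𝟙 i₀))) (cokernel h₀)
    have h1 : FlatMod.IsFlatOverAt (pbRel D (𝟙 i₀) f₀ g₀ j.left)
        ((Scheme.Modules.pullback (pullback.fst (f₀ ≫ g₀) (D.map (j.left.hom ≫ 𝟙 i₀)))).obj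
          (cokernel h₀))
        (pbLift D (𝟙 i₀) (f₀ ≫ g₀) c qX (f ≫ g) (hX.paste_vert hY).w j.left x) :=
      Groth.Agent.H57.isFlatOverAt_pullback_of_isPullback (pbRel D (𝟙 i₀) f₀ g₀ k₁)
        (pbRel D (𝟙 i₀) f₀ g₀ j.left) (pbMap D (𝟙 i₀) (f₀ ≫ g₀) j.hom) (pbMap D (𝟙 i₀) g₀ j.hom)
        sqj (cokernel h₀) (pullback.fst (f₀ ≫ g₀) (D.map (k₁.hom ≫ 𝟙 i₀)))
        (pullback.fst (f₀ ≫ g₀) (D.map (j.left.hom ≫ 𝟙 i₀)))
        (pbMap_fst D (𝟙 i₀) (f₀ ≫ g₀) j.hom) _ (by rw [hxj]; exact hk₁)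
    exact Groth.Agent.H57.isFlatOverAt_of_iso _ (cokerPullbackIso _ h₀) _ h1

end Main

end Groth.Agent.H57.LimInjCoker
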