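import Groth.Agent.H57.NilDescent
import Mathlib.RingTheory.Artinian.Module
import Mathlib.RingTheory.Artinian.Ring
import Mathlib.LinearAlgebra.TensorProduct.Finiteness
import Mathlib.RingTheory.Finiteness.Basic
import Mathlib.RingTheory.SimpleModule.InjectiveProjective
import Mathlib.RingTheory.Ideal.Quotient.Nilpotent

/-! Descent of flatness modulo a nilpotent ideal `J` with `A ⧸ J` Artinian, along an arbitrary
jointly injective family of algebras (helper57). -/

set_option autoImplicit false

universe u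

open TensorProduct LinearMap

namespace Groth.Agent.H57

open Groth.Agent.H30.NilFlat

section

variable {A : Type u} [CommRing A] {M : Type u} [AddCommGroup M] [Module A M]

/-- In an Artinian module, a jointly injective family of maps has a finite jointly injective
subfamily. -/
theorem exists_finset_of_isArtinian {ι : Type*} {V₀ : Type*} [AddCommGroup V₀] [Module A V₀]
    [IsArtinian A V₀] (W : ι → Type*) [∀ i, AddCommGroup (W i)] [∀ i, Module A (W i)]
    (g : ∀ i, V₀ →ₗ[A] W i) (hg : ∀ v, (∀ i, g i v = 0) → v = 0) :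
    ∃ F : Finset ι, ∀ v, (∀ i ∈ F, g i v = 0) → v = 0 := by
  classical
  obtain ⟨K, ⟨F, rfl⟩, hmin⟩ := IsArtinian.set_has_minimal
    {K : Submodule A V₀ | ∃ F : Finset ι, K = ⨅ i ∈ F, LinearMap.ker (g i)} ⟨⊤, ∅, by simp⟩
  refine ⟨F, fun v hv => hg v fun i => ?_⟩
  by_contra hne
  apply hmin (⨅ j ∈ insert i F, LinearMap.ker (g j)) ⟨insert i F, rfl⟩
  have hvK : v ∈ ⨅ j ∈ F, LinearMap.ker (g j) := by
    simp only [Submodule.mem_iInf, LinearMap.mem_ker]
    exact hv
  refine lt_of_le_of_ne ?_ ?_
  · rw [Finset.iInf_insert]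
    exact inf_le_right
  · intro heq
    rw [← heq, Finset.iInf_insert] at hvK
    exact hne (LinearMap.mem_ker.mp (Submodule.mem_inf.mp hvK).1)

variable (J : Ideal A)

theorem isArtinian_of_torsion_of_finite [IsArtinianRing (A ⧸ J)] (V : Type u) [AddCommGroup V]
    [Module A V] [Module.Finite A V] (hV : Module.IsTorsionBySet A V (J : Set A)) :
    IsArtinian A V := by
  letI := hV.module
  haveI := hV.isScalarTower (S := A)
  haveI : Module.Finite (A ⧸ J) V := Module.Finite.of_restrictScalars_finite A (A ⧸ J) V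
  haveI : IsArtinian (A ⧸ J) V := inferInstance
  exact isArtinian_of_surjective_algebraMap (R := A ⧸ J) (S := A) Ideal.Quotient.mk_surjective

variable [Module.Flat (A ⧸ J) ((A ⧸ J) ⊗[A] M)]

/-- joint injectivity of an arbitrary family of maps between `J`-torsion modules persists after
`⊗ M`, when `A ⧸ J` is Artinian. -/
theorem eq_zero_of_rTensor_family_eq_zero_of_isArtinianRing {ι : Type u}
    [IsArtinianRing (A ⧸ J)] {V : Type u} [AddCommGroup V]
    [Module A V] (W : ι → Type u) [∀ i, AddCommGroup (W i)] [∀ i, Module A (W i)]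
    (hV : Module.IsTorsionBySet A V (J : Set A))
    (hW : ∀ i, Module.IsTorsionBySet A (W i) (J : Set A))
    (f : ∀ i, V →ₗ[A] W i) (hf : ∀ v, (∀ i, f i v = 0) → v = 0)
    (z : V ⊗[A] M) (hz : ∀ i, rTensor M (f i) z = 0) : z = 0 := by
  classical
  obtain ⟨V₀, hfin, hz0⟩ := TensorProduct.exists_finite_submodule_left_of_setFinite
    ({z} : Set (V ⊗[A] M)) (Set.finite_singleton z)
  obtain ⟨z₀, hz₀⟩ := hz0 (Set.mem_singleton z)
  haveI := hfin
  have hV₀ : Module.IsTorsionBySet A V₀ (J : Set A) := by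
    intro v j
    apply Subtype.ext
    exact @hV v.1 j
  haveI : IsArtinian A V₀ := isArtinian_of_torsion_of_finite J V₀ hV₀
  obtain ⟨F, hF⟩ := exists_finset_of_isArtinian W (fun i => f i ∘ₗ V₀.subtype)
    (fun v hv => Subtype.ext (hf v.1 hv))
  have h0 : z₀ = 0 := by
    apply eq_zero_of_rTensor_family_eq_zero (M := M) J (ι := {i // i ∈ F}) (fun i => W i.1) hV₀
      (fun i => hW i.1) (fun i => f i.1 ∘ₗ V₀.subtype) (fun v hv => hF v (fun i hi => hv ⟨i, hi⟩))
    intro i
    rw [rTensor_comp, LinearMap.comp_apply, hz₀]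
    exact hz i.1
  rw [← hz₀, h0, map_zero]

/-- the abstract induction step (Artinian quotient version). -/
theorem step_ideals' {ι : Type u} [IsArtinianRing (A ⧸ J)] (E' E : Ideal A) (hle : E' ≤ E)
    (W : ι → Type u) [∀ i, AddCommGroup (W i)] [∀ i, Module A (W i)]
    (hW : ∀ i, Module.IsTorsionBySet A (W i) (J : Set A))
    (γ : ∀ i, E →ₗ[A] W i)
    (h1 : ∀ i (a : E), a.1 ∈ E' → γ i a = 0)
    (h2 : ∀ a : E, (∀ i, γ i a = 0) → a.1 ∈ E')
    (h3 : ∀ j ∈ J, ∀ a ∈ E, j * a ∈ E')
    (h5 : ∀ x : E ⊗[A] M, rTensor M E.subtype x = 0 → ∀ i, rTensor M (γ i) x = 0)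
    (h6 : Function.Injective (rTensor M E'.subtype)) :
    Function.Injective (rTensor M E.subtype) := by
  rw [injective_iff_map_eq_zero]
  intro x hx
  obtain ⟨s, hs⟩ : ∃ s : E' →ₗ[A] E, s = Submodule.inclusion hle := ⟨_, rfl⟩
  have hsmem : ∀ a : E, a ∈ LinearMap.range s ↔ a.1 ∈ E' := by
    intro a
    rw [hs]
    constructor
    · rintro ⟨b, rfl⟩
      exact b.2
    · intro ha
      exact ⟨⟨a.1, ha⟩, rfl⟩
  have hV : Module.IsTorsionBySet A (E ⧸ LinearMap.range s) (J : Set A) := by
    intro v j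
    obtain ⟨a, rfl⟩ := Submodule.mkQ_surjective _ v
    rw [← map_smul, Submodule.mkQ_apply, Submodule.Quotient.mk_eq_zero, hsmem]
    exact h3 j.1 j.2 a.1 a.2
  have hle' : ∀ i, LinearMap.range s ≤ LinearMap.ker (γ i) := by
    intro i a ha
    rw [LinearMap.mem_ker]
    exact h1 i a ((hsmem a).mp ha)
  have hf : ∀ v : E ⧸ LinearMap.range s,
      (∀ i, (LinearMap.range s).liftQ (γ i) (hle' i) v = 0) → v = 0 := by
    intro v hv
    obtain ⟨a, rfl⟩ := Submodule.mkQ_surjective _ v
    rw [Submodule.mkQ_apply, Submodule.Quotient.mk_eq_zero, hsmem]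
    apply h2
    intro i
    have := hv i
    rwa [Submodule.mkQ_apply, Submodule.liftQ_apply] at this
  have hq : rTensor M (LinearMap.range s).mkQ x = 0 := by
    apply eq_zero_of_rTensor_family_eq_zero_of_isArtinianRing (M := M) J W hV hW
      (fun i => (LinearMap.range s).liftQ (γ i) (hle' i)) hf
    intro i
    rw [← LinearMap.comp_apply, ← rTensor_comp, Submodule.liftQ_mkQ]
    exact h5 x hx i
  have hex : Function.Exact (rTensor M s) (rTensor M (LinearMap.range s).mkQ) :=
    rTensor_exact M (LinearMap.exact_map_mkQ_range s) (Submodule.mkQ_surjective _)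
  obtain ⟨y, rfl⟩ := (hex x).mp hq
  have hy : y = 0 := by
    apply h6
    rw [map_zero]
    have e : E'.subtype = E.subtype ∘ₗ s := by rw [hs]; rfl
    rw [e, rTensor_comp, LinearMap.comp_apply]
    exact hx
  rw [hy, map_zero]

end

section family

variable {A : Type u} [CommRing A] {M : Type u} [AddCommGroup M] [Module A M]
variable {ι : Type u} (B : ι → Type u) [∀ i, CommRing (B i)] [∀ i, Algebra A (B i)] (J : Ideal A)
variable [IsArtinianRing (A ⧸ J)] [Module.Flat (A ⧸ J) ((A ⧸ J) ⊗[A] M)]
  [∀ i, Module.Flat (B i) (B i ⊗[A] M)]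

/-- one step of the descending induction (Artinian quotient version). -/
theorem filt_step' (k : ℕ)
    (hE : Function.Injective (rTensor M (filt B J (k + 1)).subtype)) :
    Function.Injective (rTensor M (filt B J k).subtype) := by
  have hmem : ∀ i, ∀ a ∈ filt B J k,
      algebraMap A (B i) a ∈ (J.map (algebraMap A (B i))) ^ k :=
    fun i a ha => ((mem_filt B J).mp ha).2 i
  refine step_ideals' (M := M) J (filt B J (k + 1)) (filt B J k) (filt_succ_le B J k)
    (fun i => Pk (B i) J k ⧸ Dk (B i) J k) (fun i => grB_torsion (B i) J k)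
    (fun i => (Dk (B i) J k).mkQ ∘ₗ gk (B i) J k (filt B J k) (hmem i)) ?_ ?_ ?_ ?_ hE
  · intro i a ha
    rw [LinearMap.comp_apply, Submodule.mkQ_apply, Submodule.Quotient.mk_eq_zero, mem_Dk]
    exact ((mem_filt B J).mp ha).2 i
  · intro a ha
    refine (mem_filt B J).mpr ⟨((mem_filt B J).mp a.2).1, fun i => ?_⟩
    have h := ha i
    rw [LinearMap.comp_apply, Submodule.mkQ_apply, Submodule.Quotient.mk_eq_zero, mem_Dk] at h
    exact h
  · intro j hj a ha
    exact mul_mem_filt_succ B J hj ha
  · intro x hx i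
    rw [rTensor_comp, LinearMap.comp_apply, rTensor_gk_eq_zero (B i) J k _ (hmem i) x hx,
      map_zero]

/-- Descent of flatness: `J` nilpotent with `A ⧸ J` Artinian, `M / J M` flat over `A / J`, and
`Bᵢ ⊗ M` flat over `Bᵢ` for an arbitrary family of `A`-algebras with `⋂ ker (A → Bᵢ) = 0`.
Then `M` is flat over `A`. -/
theorem flat_of_nilpotent_of_baseChange'
    (hker : ∀ a : A, (∀ i, algebraMap A (B i) a = 0) → a = 0) (hJ : IsNilpotent J) :
    Module.Flat A M := by
  obtain ⟨n, hn⟩ := hJ
  have hn1 : J ^ (n + 1) = ⊥ := by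
    rw [pow_succ, hn]
    exact Ideal.bot_mul _
  have hall : ∀ d k : ℕ, k + d = n + 1 →
      Function.Injective (rTensor M (filt B J k).subtype) := by
    intro d
    induction d with
    | zero =>
      intro k hk
      rw [add_zero] at hk
      subst hk
      haveI : Subsingleton (filt B J (n + 1)) :=
        ⟨fun a b => Subtype.ext (by
          rw [eq_zero_of_mem_filt B J hker hn1 a.2, eq_zero_of_mem_filt B J hker hn1 b.2])⟩
      exact rTensor_injective_of_subsingleton _
    | succ d ih =>
      intro k hk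
      exact filt_step' B J k (ih (k + 1) (by omega))
  have h1 : Function.Injective (rTensor M (filt B J 1).subtype) := hall n 1 (by omega)
  have key : ∀ (J' : Ideal A), J' = J → Function.Injective (rTensor M J'.subtype) →
      Function.Injective (rTensor M J.subtype) := by
    rintro _ rfl h
    exact h
  exact flat_of_nilpotent J ⟨n, hn⟩ inferInstance (key _ (filt_one B J) h1)

end family

section semilocal

variable (A : Type u) [CommRing A] [Finite (MaximalSpectrum A)]

omit [Finite (MaximalSpectrum A)] in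
theorem jacobson_eq_iInf_maximalSpectrum :
    Ring.jacobson A = ⨅ m : MaximalSpectrum A, m.asIdeal := by
  rw [Ring.jacobson_eq_sInf_isMaximal]
  apply le_antisymm
  · exact le_iInf fun m => sInf_le m.isMaximal
  · exact le_sInf fun I hI => iInf_le (fun m : MaximalSpectrum A => m.asIdeal) ⟨I, hI⟩

theorem isArtinianRing_quotient_jacobson : IsArtinianRing (A ⧸ Ring.jacobson A) := by
  haveI : ∀ m : MaximalSpectrum A, IsArtinianRing (A ⧸ m.asIdeal) := fun m => by
    haveI := m.isMaximal
    letI := Ideal.Quotient.field m.asIdeal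
    infer_instance
  have e1 : (A ⧸ Ring.jacobson A) ≃+* (A ⧸ ⨅ m : MaximalSpectrum A, m.asIdeal) :=
    Ideal.quotEquivOfEq (jacobson_eq_iInf_maximalSpectrum A)
  have e2 : (A ⧸ ⨅ m : MaximalSpectrum A, m.asIdeal) ≃+* ∀ m : MaximalSpectrum A, A ⧸ m.asIdeal :=
    Ideal.quotientInfRingEquivPiQuotient _ fun I _ h => MaximalSpectrum.isCoprime_of_ne h
  exact RingEquiv.isArtinianRing (e1.trans e2).symm

omit [Finite (MaximalSpectrum A)] in
theorem isReduced_quotient_jacobson : IsReduced (A ⧸ Ring.jacobson A) := by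
  rw [← Ideal.isRadical_iff_quotient_reduced]
  intro x hx
  obtain ⟨n, hn⟩ := hx
  rw [Ring.jacobson_eq_sInf_isMaximal, Ideal.mem_sInf] at hn ⊢
  intro I hI
  exact (Ideal.IsMaximal.isPrime hI).mem_of_pow_mem n (hn hI)

theorem flat_quotient_jacobson (M : Type u) [AddCommGroup M] [Module A M] :
    Module.Flat (A ⧸ Ring.jacobson A) ((A ⧸ Ring.jacobson A) ⊗[A] M) := by
  haveI := isArtinianRing_quotient_jacobson A
  haveI := isReduced_quotient_jacobson A
  haveI : IsSemisimpleRing (A ⧸ Ring.jacobson A) :=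
    IsArtinianRing.isSemisimpleRing_of_isReduced _
  haveI : Module.Projective (A ⧸ Ring.jacobson A) ((A ⧸ Ring.jacobson A) ⊗[A] M) :=
    Module.projective_of_isSemisimpleRing _ _
  infer_instance

end semilocal

end Groth.Agent.H57
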