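import Groth.Agent.H57.RegFlat
import Mathlib.RingTheory.Flat.EquationalCriterion

/-! Matsumura 22.5 over a local ring with nilpotent maximal ideal, without finiteness assumptions,
universe polymorphic (helper57). Consequences for regular sequences over Artinian local bases. -/

set_option autoImplicit false

universe u v w

open TensorProduct LinearMap
open scoped Pointwise

namespace Groth.Agent.H57

section residue'

variable {R : Type u} [CommRing R] [IsLocalRing R] {N M : Type v} [AddCommGroup N] [Module R N]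
  [AddCommGroup M] [Module R M]

/-- If `k ⊗ u` is injective (`k` the residue field), so is `V ⊗ u` for every `k`-module `V`. -/
theorem lTensor_injective_of_residue' (u : N →ₗ[R] M)
    (h : Function.Injective (lTensor (IsLocalRing.ResidueField R) u))
    (V : Type u) [AddCommGroup V] [Module R V] [Module (IsLocalRing.ResidueField R) V]
    [IsScalarTower R (IsLocalRing.ResidueField R) V] :
    Function.Injective (lTensor V u) := by
  have hbc : Function.Injective (u.baseChange (IsLocalRing.ResidueField R)) := by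
    intro a b hab
    exact h hab
  have hflat : Function.Injective (lTensor V (u.baseChange (IsLocalRing.ResidueField R))) :=
    Module.Flat.lTensor_preserves_injective_linearMap
      (u.baseChange (IsLocalRing.ResidueField R)) hbc
  have hnat : ∀ z : V ⊗[IsLocalRing.ResidueField R] (IsLocalRing.ResidueField R ⊗[R] N),
      AlgebraTensorModule.cancelBaseChange R (IsLocalRing.ResidueField R)
        (IsLocalRing.ResidueField R) V M
          (lTensor V (u.baseChange (IsLocalRing.ResidueField R)) z) =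
        lTensor V u (AlgebraTensorModule.cancelBaseChange R (IsLocalRing.ResidueField R)
          (IsLocalRing.ResidueField R) V N z) := by
    intro z
    induction z using TensorProduct.induction_on with
    | zero => simp
    | add x y hx hy => simp only [map_add, hx, hy]
    | tmul v y =>
      induction y using TensorProduct.induction_on with
      | zero => simp
      | add y z hy hz => simp only [TensorProduct.tmul_add, map_add, hy, hz]
      | tmul c n => simp
  intro a b hab
  obtain ⟨a', rfl⟩ := (AlgebraTensorModule.cancelBaseChange R (IsLocalRing.ResidueField R)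
    (IsLocalRing.ResidueField R) V N).surjective a
  obtain ⟨b', rfl⟩ := (AlgebraTensorModule.cancelBaseChange R (IsLocalRing.ResidueField R)
    (IsLocalRing.ResidueField R) V N).surjective b
  rw [← hnat, ← hnat] at hab
  rw [hflat ((AlgebraTensorModule.cancelBaseChange R (IsLocalRing.ResidueField R)
    (IsLocalRing.ResidueField R) V M).injective hab)]

/-- the inductive step. -/
theorem step_smul_top' [Module.Flat R M] (u : N →ₗ[R] M)
    (h : Function.Injective (lTensor (IsLocalRing.ResidueField R) u))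
    (𝔟 𝔠 : Ideal R) (h𝔠𝔟 : 𝔠 ≤ 𝔟) (hm : IsLocalRing.maximalIdeal R * 𝔟 ≤ 𝔠)
    (x : N) (hx : x ∈ 𝔟 • (⊤ : Submodule R N)) (hux : u x ∈ 𝔠 • (⊤ : Submodule R M)) :
    x ∈ 𝔠 • (⊤ : Submodule R N) := by
  obtain ⟨ξ, rfl⟩ := (mem_smul_top_iff 𝔟 _).mp hx
  obtain ⟨ζ', hζ'⟩ := (mem_smul_top_iff 𝔠 _).mp hux
  let j : 𝔠 →ₗ[R] 𝔟 := Submodule.inclusion h𝔠𝔟
  have hj : ∀ ζ' : 𝔠 ⊗[R] M, mulMap 𝔟 M (rTensor M j ζ') = mulMap 𝔠 M ζ' := by
    intro ζ'
    induction ζ' using TensorProduct.induction_on with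
    | zero => simp
    | tmul c m => rw [rTensor_tmul, mulMap_tmul, mulMap_tmul]; rfl
    | add a b ha hb => simp only [map_add, ha, hb]
  have hζ : lTensor 𝔟 u ξ = rTensor M j ζ' := by
    apply mulMap_injective_of_flat 𝔟 M
    rw [mulMap_lTensor, hj, hζ']
  let 𝔠' : Submodule R 𝔟 := Submodule.comap 𝔟.subtype 𝔠
  have hV : Module.IsTorsionBySet R (𝔟 ⧸ 𝔠') (IsLocalRing.maximalIdeal R : Set R) := by
    intro v a
    obtain ⟨b, rfl⟩ := Submodule.mkQ_surjective 𝔠' v
    rw [← map_smul, Submodule.mkQ_apply, Submodule.Quotient.mk_eq_zero]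
    change ((a : R) • b : 𝔟).1 ∈ 𝔠
    exact hm (Ideal.mul_mem_mul a.2 b.2)
  letI : Module (IsLocalRing.ResidueField R) (𝔟 ⧸ 𝔠') := hV.module
  haveI : IsScalarTower R (IsLocalRing.ResidueField R) (𝔟 ⧸ 𝔠') := hV.isScalarTower
  have hπj : 𝔠'.mkQ ∘ₗ j = 0 := by
    ext c
    rw [LinearMap.comp_apply, Submodule.mkQ_apply, LinearMap.zero_apply,
      Submodule.Quotient.mk_eq_zero]
    exact c.2
  have h0 : lTensor (𝔟 ⧸ 𝔠') u (rTensor N 𝔠'.mkQ ξ) = 0 := by
    have e : lTensor (𝔟 ⧸ 𝔠') u (rTensor N 𝔠'.mkQ ξ) = rTensor M 𝔠'.mkQ (lTensor 𝔟 u ξ) := by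
      rw [← LinearMap.comp_apply, ← LinearMap.comp_apply, LinearMap.lTensor_comp_rTensor,
        LinearMap.rTensor_comp_lTensor]
    rw [e, hζ, ← LinearMap.comp_apply, ← rTensor_comp, hπj, rTensor_zero, LinearMap.zero_apply]
  have h1 : rTensor N 𝔠'.mkQ ξ = 0 :=
    lTensor_injective_of_residue' u h (𝔟 ⧸ 𝔠') (by rw [h0, map_zero])
  have hex : Function.Exact (rTensor N 𝔠'.subtype) (rTensor N 𝔠'.mkQ) :=
    rTensor_exact N (LinearMap.exact_subtype_mkQ 𝔠') (Submodule.mkQ_surjective 𝔠')
  have hfin : ∀ ξ' : 𝔠' ⊗[R] N,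
      mulMap 𝔟 N (rTensor N 𝔠'.subtype ξ') ∈ 𝔠 • (⊤ : Submodule R N) := by
    intro ξ'
    induction ξ' using TensorProduct.induction_on with
    | zero => rw [map_zero, map_zero]; exact zero_mem _
    | tmul c n =>
      rw [rTensor_tmul, mulMap_tmul]
      exact Submodule.smul_mem_smul c.2 Submodule.mem_top
    | add a b ha hb => rw [map_add, map_add]; exact add_mem ha hb
  obtain ⟨ξ', rfl⟩ := (hex ξ).mp h1
  exact hfin ξ'


/-- the inductive claim: injectivity modulo `𝔞 + 𝔪ⁿ`. -/
theorem mem_sup_pow_smul_top_of_map_mem [Module.Flat R M] (u : N →ₗ[R] M)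
    (h : Function.Injective (lTensor (IsLocalRing.ResidueField R) u)) (𝔞 : Ideal R) :
    ∀ n : ℕ, ∀ x : N, u x ∈ (𝔞 ⊔ IsLocalRing.maximalIdeal R ^ n) • (⊤ : Submodule R M) →
      x ∈ (𝔞 ⊔ IsLocalRing.maximalIdeal R ^ n) • (⊤ : Submodule R N) := by
  intro n
  induction n with
  | zero =>
    intro x _
    rw [pow_zero, Ideal.one_eq_top, sup_top_eq, Submodule.top_smul]
    trivial
  | succ n ih =>
    intro x hx
    have hle : 𝔞 ⊔ IsLocalRing.maximalIdeal R ^ (n + 1) ≤ 𝔞 ⊔ IsLocalRing.maximalIdeal R ^ n :=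
      sup_le_sup_left (Ideal.pow_le_pow_right (Nat.le_succ n)) _
    have hx1 := ih x (Submodule.smul_mono hle le_rfl hx)
    refine step_smul_top' u h _ _ hle ?_ x hx1 hx
    rw [Ideal.mul_sup]
    exact sup_le_sup Ideal.mul_le_right (le_of_eq (pow_succ' _ _).symm)

end residue'

section key

variable {R : Type u} [CommRing R] {N M : Type v} [AddCommGroup N] [Module R N]
  [AddCommGroup M] [Module R M]

/-- If `u⁻¹(𝔞M) = 𝔞N` for all ideals `𝔞` and `M` is flat then `u` is injective with flat cokernel. -/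
theorem injective_and_flat_coker_of_key [Module.Flat R M] (u : N →ₗ[R] M)
    (hkey : ∀ (𝔞 : Ideal R) (x : N), u x ∈ 𝔞 • (⊤ : Submodule R M) →
      x ∈ 𝔞 • (⊤ : Submodule R N)) :
    Function.Injective u ∧ Module.Flat R (M ⧸ LinearMap.range u) := by
  have hinj : Function.Injective u := by
    rw [injective_iff_map_eq_zero]
    intro x hx
    have h1 := hkey ⊥ x (by rw [hx]; exact zero_mem _)
    rwa [Submodule.bot_smul, Submodule.mem_bot] at h1
  refine ⟨hinj, ?_⟩
  rw [Module.Flat.iff_rTensor_injective']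
  intro 𝔞
  rw [injective_iff_map_eq_zero]
  intro z hz
  obtain ⟨y, rfl⟩ := LinearMap.lTensor_surjective 𝔞 (Submodule.mkQ_surjective (range u)) z
  have h1 : (range u).mkQ (mulMap 𝔞 M y) = 0 := by
    have e : (range u).mkQ (mulMap 𝔞 M y) = mulMap 𝔞 (M ⧸ range u) (lTensor 𝔞 (range u).mkQ y) :=
      (mulMap_lTensor 𝔞 (range u).mkQ y).symm
    rw [e, mulMap, LinearMap.comp_apply, hz, map_zero]
  have h2 : mulMap 𝔞 M y ∈ range u := by
    rwa [Submodule.mkQ_apply, Submodule.Quotient.mk_eq_zero] at h1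
  obtain ⟨n, hn⟩ := h2
  have h3 : n ∈ 𝔞 • (⊤ : Submodule R N) :=
    hkey 𝔞 n (by rw [hn]; exact (mem_smul_top_iff 𝔞 _).mpr ⟨y, rfl⟩)
  obtain ⟨w, rfl⟩ := (mem_smul_top_iff 𝔞 _).mp h3
  have h4 : y = lTensor 𝔞 u w := by
    apply mulMap_injective_of_flat 𝔞 M
    rw [mulMap_lTensor, hn]
  rw [h4, ← LinearMap.comp_apply, ← lTensor_comp, LinearMap.range_mkQ_comp, lTensor_zero,
    LinearMap.zero_apply]

/-- Matsumura 22.5 over a local ring with nilpotent maximal ideal: no finiteness needed. -/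
theorem injective_and_flat_coker_of_nilpotent [IsLocalRing R] [Module.Flat R M]
    (hnil : IsNilpotent (IsLocalRing.maximalIdeal R)) (u : N →ₗ[R] M)
    (h : Function.Injective (lTensor (IsLocalRing.ResidueField R) u)) :
    Function.Injective u ∧ Module.Flat R (M ⧸ LinearMap.range u) := by
  obtain ⟨n, hn⟩ := hnil
  apply injective_and_flat_coker_of_key
  intro 𝔞 x hx
  have h1 := mem_sup_pow_smul_top_of_map_mem u h 𝔞 n x
    (by rw [hn, Ideal.zero_eq_bot, sup_bot_eq]; exact hx)
  rwa [hn, Ideal.zero_eq_bot, sup_bot_eq] at h1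

end key

end Groth.Agent.H57
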