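import Groth.Agent.H57.RegFlat
import Mathlib.RingTheory.Artinian.Ring
import Mathlib.RingTheory.HopkinsLevitzki

/-! Lifting regular sequences along deformations over Artinian local rings (helper57). -/

set_option autoImplicit false

universe u

open TensorProduct LinearMap RingTheory.Sequence
open scoped Pointwise

namespace Groth.Agent.H57

/-- If `X ⧸ N` is flat then `N ∩ 𝔞X = 𝔞N`. -/
theorem mem_smul_of_mem_of_mem_smul_top {A : Type u} [CommRing A] (𝔞 : Ideal A) {X : Type*}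
    [AddCommGroup X] [Module A X] (N : Submodule A X) [Module.Flat A (X ⧸ N)] (x : X)
    (hxN : x ∈ N) (hx : x ∈ 𝔞 • (⊤ : Submodule A X)) : x ∈ 𝔞 • N := by
  obtain ⟨ξ, rfl⟩ := (mem_smul_top_iff_mulMapR 𝔞 x).mp hx
  obtain ⟨ζ, rfl⟩ := mem_range_rTensor_of_mulMapR_mem 𝔞 N ξ hxN
  rw [mulMapR_rTensor]
  have h1 : mulMapR 𝔞 N ζ ∈ 𝔞 • (⊤ : Submodule A N) :=
    (mem_smul_top_iff_mulMapR 𝔞 _).mpr ⟨ζ, rfl⟩
  have h2 := Submodule.mem_map_of_mem (f := N.subtype) h1
  rwa [Submodule.map_smul'', Submodule.map_top, Submodule.range_subtype] at h2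

/-- A flat algebra over an Artinian local ring whose closed fibre is Noetherian local is Noetherian
local, and the structure map is local. -/
theorem local_noeth_of_artinian_base (C' A' : Type u) [CommRing C'] [IsLocalRing C']
    [IsArtinianRing C'] [CommRing A'] [Algebra C' A']
    [IsNoetherianRing (A' ⧸ (IsLocalRing.maximalIdeal C').map (algebraMap C' A'))]
    [IsLocalRing (A' ⧸ (IsLocalRing.maximalIdeal C').map (algebraMap C' A'))] :
    IsLocalRing A' ∧ IsNoetherianRing A' ∧ IsLocalHom (algebraMap C' A') := by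
  have hnil : IsNilpotent ((IsLocalRing.maximalIdeal C').map (algebraMap C' A')) := by
    have h := IsArtinianRing.isNilpotent_jacobson_bot (R := C')
    rw [IsLocalRing.jacobson_eq_maximalIdeal ⊥ bot_ne_top] at h
    obtain ⟨n, hn⟩ := h
    refine ⟨n, ?_⟩
    rw [← Ideal.map_pow, hn, Ideal.zero_eq_bot, Ideal.map_bot]
    rfl
  have hfg : ((IsLocalRing.maximalIdeal C').map (algebraMap C' A')).FG :=
    Ideal.FG.map (IsNoetherian.noetherian (IsLocalRing.maximalIdeal C')) _
  haveI hloc : IsLocalRing A' := isLocalRing_of_isNilpotent_of_quotient _ hnil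
  refine ⟨hloc, isNoetherianRing_of_isNilpotent_of_quotient _ hnil hfg, ⟨?_⟩⟩
  intro c hc
  by_contra hcu
  have h1 : c ∈ IsLocalRing.maximalIdeal C' := (IsLocalRing.mem_maximalIdeal c).mpr hcu
  have h2 : algebraMap C' A' c ∈ (IsLocalRing.maximalIdeal C').map (algebraMap C' A') :=
    Ideal.mem_map_of_mem _ h1
  have h3 : (IsLocalRing.maximalIdeal C').map (algebraMap C' A') ≠ ⊤ :=
    Ideal.Quotient.nontrivial_iff.mp inferInstance
  have h4 := IsLocalRing.le_maximalIdeal h3 h2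
  exact (IsLocalRing.mem_maximalIdeal _).mp h4 hc

/-- `(R/I)/K ≃ R/𝔫` for `I ≤ 𝔫` and `K` the image of `𝔫`. -/
noncomputable def doubleQuotEquiv {R : Type*} [CommRing R] (I 𝔫 : Ideal R) (K : Ideal (R ⧸ I))
    (hI : I ≤ 𝔫) (hK : K = 𝔫.map (Ideal.Quotient.mk I)) :
    ((R ⧸ I) ⧸ (K • ⊤ : Submodule (R ⧸ I) (R ⧸ I))) ≃ₗ[R] R ⧸ (𝔫 • ⊤ : Submodule R R) := by
  have hKtop : (K • ⊤ : Submodule (R ⧸ I) (R ⧸ I)) = K := by
    rw [smul_eq_mul, Ideal.mul_top]
  have h𝔫top : (𝔫 • ⊤ : Submodule R R) = 𝔫 := by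
    rw [smul_eq_mul, Ideal.mul_top]
  refine (LinearEquiv.ofBijective (Submodule.liftQ (𝔫 • ⊤ : Submodule R R)
    (((K • ⊤ : Submodule (R ⧸ I) (R ⧸ I)).mkQ.restrictScalars R) ∘ₗ (Submodule.mkQ I)) ?_)
    ⟨?_, ?_⟩).symm
  · intro x hx
    rw [h𝔫top] at hx
    rw [LinearMap.mem_ker, LinearMap.comp_apply, LinearMap.restrictScalars_apply,
      Submodule.mkQ_apply, Submodule.mkQ_apply, Submodule.Quotient.mk_eq_zero, hKtop, hK]
    exact Ideal.mem_map_of_mem _ hx
  · rw [injective_iff_map_eq_zero]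
    intro z hz
    obtain ⟨x, rfl⟩ := Submodule.Quotient.mk_surjective _ z
    rw [Submodule.liftQ_apply, LinearMap.comp_apply, LinearMap.restrictScalars_apply,
      Submodule.mkQ_apply, Submodule.mkQ_apply, Submodule.Quotient.mk_eq_zero, hKtop, hK] at hz
    obtain ⟨y, hy, hxy⟩ := (Ideal.mem_map_iff_of_surjective _ Ideal.Quotient.mk_surjective).mp hz
    rw [Submodule.Quotient.mk_eq_zero, h𝔫top]
    have h1 : y - x ∈ I := Ideal.Quotient.eq.mp hxy
    have h2 : x = y - (y - x) := by ring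
    rw [h2]
    exact 𝔫.sub_mem hy (hI h1)
  · intro z
    obtain ⟨y, rfl⟩ := Submodule.Quotient.mk_surjective _ z
    obtain ⟨x, rfl⟩ := Ideal.Quotient.mk_surjective y
    exact ⟨Submodule.Quotient.mk x, rfl⟩

section lift

variable {C' A' : Type u} [CommRing C'] [IsLocalRing C'] [IsArtinianRing C'] [CommRing A']
  [Algebra C' A'] [Module.Flat C' A']
  [IsNoetherianRing (A' ⧸ (IsLocalRing.maximalIdeal C').map (algebraMap C' A'))]
  [IsLocalRing (A' ⧸ (IsLocalRing.maximalIdeal C').map (algebraMap C' A'))]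

/-- If `fs` is regular on the fibre `A'/𝔪A'` then it is regular on `A'` with flat quotients. -/
theorem isRegular_and_flat_of_fibre (fs : List A')
    (hreg : IsRegular (A' ⧸ (IsLocalRing.maximalIdeal C').map (algebraMap C' A'))
      (fs.map (Ideal.Quotient.mk ((IsLocalRing.maximalIdeal C').map (algebraMap C' A'))))) :
    IsLocalRing A' ∧ IsNoetherianRing A' ∧ IsLocalHom (algebraMap C' A') ∧
    (∀ f ∈ fs, ¬ IsUnit f) ∧
    IsRegular A' fs ∧
      ∀ i ≤ fs.length, Module.Flat C' (A' ⧸ (Ideal.ofList (fs.take i) • (⊤ : Submodule A' A'))) := by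
  obtain ⟨hloc, hnoeth, hlochom⟩ := local_noeth_of_artinian_base C' A'
  haveI := hloc
  haveI := hnoeth
  haveI := hlochom
  have hmem0 : ∀ f ∈ fs.map (Ideal.Quotient.mk ((IsLocalRing.maximalIdeal C').map (algebraMap C' A'))),
      ¬ IsUnit f := by
    intro f hf hu
    apply hreg.top_ne_smul
    have h1 : Ideal.ofList (fs.map (Ideal.Quotient.mk
        ((IsLocalRing.maximalIdeal C').map (algebraMap C' A')))) = ⊤ :=
      Ideal.eq_top_of_isUnit_mem _ (Ideal.subset_span hf) hu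
    rw [h1, Submodule.top_smul]
  have hmem : ∀ f ∈ fs, ¬ IsUnit f := by
    intro f hf hu
    exact hmem0 _ (List.mem_map_of_mem hf) (hu.map _)
  have h1 : IsWeaklyRegular (A' ⧸ (IsLocalRing.maximalIdeal C').map (algebraMap C' A')) fs :=
    (isWeaklyRegular_map_algebraMap_iff
      (A' ⧸ (IsLocalRing.maximalIdeal C').map (algebraMap C' A')) _ fs).mp hreg.toIsWeaklyRegular
  have h2 : IsWeaklyRegular (A' ⧸ ((IsLocalRing.maximalIdeal C').map (algebraMap C' A') • ⊤ :
      Submodule A' A')) fs :=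
    (LinearEquiv.isWeaklyRegular_congr (Submodule.quotEquivOfEq _ _
      (by rw [smul_eq_mul, Ideal.mul_top])) fs).mp h1
  obtain ⟨h3, h4⟩ := isWeaklyRegular_and_flat_of_fibre (A := C') fs A' h2
  refine ⟨hloc, hnoeth, hlochom, hmem, ?_, h4⟩
  exact IsRegular.of_isWeaklyRegular_of_mem_maximalIdeal A'
    (fun f hf => (IsLocalRing.mem_maximalIdeal f).mpr (hmem f hf)) h3

end lift

end Groth.Agent.H57
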