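import Groth.Agent.H57.NilInj
import Groth.Agent.H57.RegFlat2
import Mathlib.RingTheory.TensorProduct.Quotient

/-! Regular sequences on flat modules over a local ring with nilpotent maximal ideal (helper57). -/

set_option autoImplicit false

universe u v w

open TensorProduct LinearMap RingTheory.Sequence
open scoped Pointwise

namespace Groth.Agent.H57

section nilreg

variable {A : Type u} {B : Type v} [CommRing A] [CommRing B] [Algebra A B] [IsLocalRing A]
variable (M : Type w) [AddCommGroup M] [Module B M] [Module A M] [IsScalarTower A B M]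

/-- Ascending step over a local ring with nilpotent maximal ideal (no finiteness). -/
theorem isSMulRegular_and_flat_quot_of_nilpotent
    (hnil : IsNilpotent (IsLocalRing.maximalIdeal A)) [Module.Flat A M] (r : B)
    (hreg : IsSMulRegular
      (M ⧸ ((IsLocalRing.maximalIdeal A).map (algebraMap A B) • ⊤ : Submodule B M)) r) :
    IsSMulRegular M r ∧ Module.Flat A (M ⧸ (r • ⊤ : Submodule B M)) := by
  let u : M →ₗ[A] M := (LinearMap.lsmul B M r).restrictScalars A
  have hu : ∀ m, u m = r • m := fun m => rfl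
  have hres : Function.Injective (lTensor (IsLocalRing.ResidueField A) u) := by
    show Function.Injective (lTensor (A ⧸ IsLocalRing.maximalIdeal A) u)
    rw [injective_iff_map_eq_zero]
    intro z hz
    obtain ⟨q, rfl⟩ :=
      (TensorProduct.quotTensorEquivQuotSMul M (IsLocalRing.maximalIdeal A)).symm.surjective z
    obtain ⟨m, rfl⟩ := Submodule.Quotient.mk_surjective _ q
    rw [TensorProduct.quotTensorEquivQuotSMul_symm_mk] at hz ⊢
    rw [lTensor_tmul] at hz
    have h1 := congrArg (TensorProduct.quotTensorEquivQuotSMul M (IsLocalRing.maximalIdeal A)) hz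
    rw [TensorProduct.quotTensorEquivQuotSMul_mk_one_tmul, map_zero,
      Submodule.Quotient.mk_eq_zero, hu, ← mem_map_smul_top_iff (B := B)] at h1
    have h3 : r • (Submodule.Quotient.mk m :
        M ⧸ ((IsLocalRing.maximalIdeal A).map (algebraMap A B) • ⊤ : Submodule B M)) = 0 := by
      rw [← Submodule.Quotient.mk_smul, Submodule.Quotient.mk_eq_zero]
      exact h1
    have h4 := (isSMulRegular_iff_right_eq_zero_of_smul.mp hreg) _ h3
    rw [Submodule.Quotient.mk_eq_zero, mem_map_smul_top_iff] at h4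
    have h5 : (Submodule.Quotient.mk m :
        M ⧸ (IsLocalRing.maximalIdeal A • ⊤ : Submodule A M)) = 0 :=
      (Submodule.Quotient.mk_eq_zero _).mpr h4
    rw [← TensorProduct.quotTensorEquivQuotSMul_symm_mk (I := IsLocalRing.maximalIdeal A), h5,
      map_zero]
  obtain ⟨hinj, hflat⟩ := injective_and_flat_coker_of_nilpotent hnil u hres
  refine ⟨fun x y h => hinj h, ?_⟩
  have hrange : LinearMap.range u = (r • ⊤ : Submodule B M).restrictScalars A := by
    ext x
    rw [LinearMap.mem_range, Submodule.restrictScalars_mem,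
      Submodule.mem_smul_pointwise_iff_exists]
    constructor
    · rintro ⟨m, rfl⟩
      exact ⟨m, Submodule.mem_top, rfl⟩
    · rintro ⟨m, -, rfl⟩
      exact ⟨m, rfl⟩
  haveI := hflat
  exact Module.Flat.of_linearEquiv
    ((Submodule.Quotient.restrictScalarsEquiv A (r • ⊤ : Submodule B M)).symm ≪≫ₗ
      (Submodule.quotEquivOfEq _ _ hrange.symm))

/-- A nonzero element killed by the maximal ideal. -/
theorem exists_socle_element (hnil : IsNilpotent (IsLocalRing.maximalIdeal A)) :
    ∃ s : A, s ≠ 0 ∧ ∀ a ∈ IsLocalRing.maximalIdeal A, a * s = 0 := by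
  classical
  have hex : ∃ n, IsLocalRing.maximalIdeal A ^ n = ⊥ := hnil
  have hn : IsLocalRing.maximalIdeal A ^ (Nat.find hex) = ⊥ := Nat.find_spec hex
  have hn0 : Nat.find hex ≠ 0 := by
    intro h0
    rw [h0, pow_zero, Ideal.one_eq_top] at hn
    exact top_ne_bot hn
  obtain ⟨k, hk⟩ := Nat.exists_eq_succ_of_ne_zero hn0
  have hk' : IsLocalRing.maximalIdeal A ^ k ≠ ⊥ := Nat.find_min hex (by omega)
  obtain ⟨s, hs, hs0⟩ := Submodule.exists_mem_ne_zero_of_ne_bot hk'
  refine ⟨s, hs0, fun a ha => ?_⟩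
  have h1 : a * s ∈ IsLocalRing.maximalIdeal A ^ (k + 1) := by
    rw [pow_succ']
    exact Ideal.mul_mem_mul ha hs
  rw [← Nat.succ_eq_add_one, ← hk, hn] at h1
  exact h1

/-- Descent to the fibre: a regular element on a flat module stays regular modulo `𝔪`. -/
theorem isSMulRegular_fibre_of_isSMulRegular (hnil : IsNilpotent (IsLocalRing.maximalIdeal A))
    [Module.Flat A M] (r : B) (hreg : IsSMulRegular M r) :
    IsSMulRegular
      (M ⧸ ((IsLocalRing.maximalIdeal A).map (algebraMap A B) • ⊤ : Submodule B M)) r := by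
  obtain ⟨s, hs0, hs⟩ := exists_socle_element hnil
  rw [isSMulRegular_iff_right_eq_zero_of_smul]
  intro x hx
  obtain ⟨g, rfl⟩ := Submodule.Quotient.mk_surjective _ x
  rw [← Submodule.Quotient.mk_smul, Submodule.Quotient.mk_eq_zero, mem_map_smul_top_iff] at hx
  have h1 : s • (r • g) = 0 := by
    refine Submodule.smul_induction_on hx ?_ ?_
    · intro a ha m _
      rw [← mul_smul, mul_comm, hs a ha, zero_smul]
    · intro x y hx hy
      rw [smul_add, hx, hy, add_zero]
  have h2 : s • g = 0 := by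
    apply hreg
    show r • (s • g) = r • (0 : M)
    rw [smul_zero, smul_comm, h1]
  have h3 : g ∈ (IsLocalRing.maximalIdeal A • ⊤ : Submodule A M) := by
    have hrel : ∑ i : Fin 1, (fun _ => s) i • (fun _ => g) i = 0 := by
      simp [h2]
    obtain ⟨k, a, y, hxy, hay⟩ := Module.Flat.isTrivialRelation_of_sum_smul_eq_zero hrel
    have hg : g = ∑ j, a 0 j • y j := hxy 0
    rw [hg]
    refine Submodule.sum_mem _ (fun j _ => Submodule.smul_mem_smul ?_ Submodule.mem_top)
    have h4 : s * a 0 j = 0 := by simpa using hay j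
    rw [IsLocalRing.mem_maximalIdeal, mem_nonunits_iff]
    intro hu
    exact hs0 ((hu.mul_left_eq_zero).mp h4)
  rw [Submodule.Quotient.mk_eq_zero, mem_map_smul_top_iff]
  exact h3

end nilreg

section nillists

variable {A : Type u} {B : Type v} [CommRing A] [CommRing B] [Algebra A B] [IsLocalRing A]

/-- Ascent of regular sequences from the closed fibre, over a base with nilpotent maximal ideal. -/
theorem isWeaklyRegular_and_flat_of_fibre_of_nilpotent
    (hnil : IsNilpotent (IsLocalRing.maximalIdeal A)) (fs : List B) :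
    ∀ (M : Type w) [AddCommGroup M] [Module B M] [Module A M] [IsScalarTower A B M]
      [Module.Flat A M],
      IsWeaklyRegular
        (M ⧸ ((IsLocalRing.maximalIdeal A).map (algebraMap A B) • (⊤ : Submodule B M))) fs →
      IsWeaklyRegular M fs ∧
        ∀ i ≤ fs.length, Module.Flat A (M ⧸ (Ideal.ofList (fs.take i) • (⊤ : Submodule B M))) := by
  induction fs with
  | nil =>
    intro M _ _ _ _ _ _
    refine ⟨IsWeaklyRegular.nil B M, ?_⟩
    intro i hi
    have e1 : Ideal.ofList (List.take i ([] : List B)) • (⊤ : Submodule B M) = ⊥ := by simp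
    exact Module.Flat.of_linearEquiv ((Submodule.quotEquivOfEqBot _ e1).restrictScalars A)
  | cons r rs ih =>
    intro M _ _ _ _ _ hreg
    rw [isWeaklyRegular_cons_iff] at hreg ⊢
    obtain ⟨h1, h2⟩ := hreg
    obtain ⟨hr, hflat⟩ := isSMulRegular_and_flat_quot_of_nilpotent M hnil r h1
    haveI : Module.Flat A (QuotSMulTop r M) := hflat
    have h2' : IsWeaklyRegular (QuotSMulTop r M ⧸
        ((IsLocalRing.maximalIdeal A).map (algebraMap A B) • ⊤ :
          Submodule B (QuotSMulTop r M))) rs :=
      (LinearEquiv.isWeaklyRegular_congr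
        (quotSwapEquiv M ((IsLocalRing.maximalIdeal A).map (algebraMap A B)) r) rs).mp h2
    obtain ⟨h3, h4⟩ := ih (QuotSMulTop r M) h2'
    refine ⟨⟨hr, h3⟩, ?_⟩
    intro i hi
    cases i with
    | zero =>
      have e1 : Ideal.ofList (List.take 0 (r :: rs)) • (⊤ : Submodule B M) = ⊥ := by simp
      exact Module.Flat.of_linearEquiv ((Submodule.quotEquivOfEqBot _ e1).restrictScalars A)
    | succ j =>
      have hj : j ≤ rs.length := by simpa using hi
      haveI := h4 j hj
      exact Module.Flat.of_linearEquiv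
        ((Submodule.quotOfListConsSMulTopEquivQuotSMulTopInner M r (rs.take j)).restrictScalars A)

/-- Descent of regular sequences to the closed fibre. -/
theorem isWeaklyRegular_fibre_of_nilpotent
    (hnil : IsNilpotent (IsLocalRing.maximalIdeal A)) (fs : List B) :
    ∀ (M : Type w) [AddCommGroup M] [Module B M] [Module A M] [IsScalarTower A B M]
      [Module.Flat A M],
      IsWeaklyRegular M fs →
      IsWeaklyRegular
        (M ⧸ ((IsLocalRing.maximalIdeal A).map (algebraMap A B) • (⊤ : Submodule B M))) fs := by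
  induction fs with
  | nil =>
    intro M _ _ _ _ _ _
    exact IsWeaklyRegular.nil B _
  | cons r rs ih =>
    intro M _ _ _ _ _ hreg
    rw [isWeaklyRegular_cons_iff] at hreg ⊢
    obtain ⟨h1, h2⟩ := hreg
    have h3 := isSMulRegular_fibre_of_isSMulRegular M hnil r h1
    obtain ⟨-, hflat⟩ := isSMulRegular_and_flat_quot_of_nilpotent M hnil r h3
    haveI : Module.Flat A (QuotSMulTop r M) := hflat
    have h4 := ih (QuotSMulTop r M) h2
    exact ⟨h3, (LinearEquiv.isWeaklyRegular_congr
      (quotSwapEquiv M ((IsLocalRing.maximalIdeal A).map (algebraMap A B)) r) rs).mpr h4⟩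

/-- Over an Artinian-like local base, a regular sequence on a flat module has flat quotients and
stays regular modulo every ideal of the base. -/
theorem flat_take_and_isWeaklyRegular_quot_of_nilpotent
    (hnil : IsNilpotent (IsLocalRing.maximalIdeal A)) (fs : List B)
    (M : Type w) [AddCommGroup M] [Module B M] [Module A M] [IsScalarTower A B M]
    [Module.Flat A M] (hreg : IsWeaklyRegular M fs) :
    (∀ i ≤ fs.length, Module.Flat A (M ⧸ (Ideal.ofList (fs.take i) • (⊤ : Submodule B M)))) ∧
      ∀ I : Ideal A, IsWeaklyRegular (M ⧸ (I.map (algebraMap A B) • ⊤ : Submodule B M)) fs := by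
  have h1 := isWeaklyRegular_fibre_of_nilpotent hnil fs M hreg
  obtain ⟨-, h2⟩ := isWeaklyRegular_and_flat_of_fibre_of_nilpotent hnil fs M h1
  exact ⟨h2, fun I => isWeaklyRegular_quot_of_flat_take I fs M hreg (fun i _ hi => h2 i hi)⟩

end nillists

section quotbase

variable {A : Type u} {S : Type v} [CommRing A] [IsLocalRing A] [CommRing S] [Algebra A S]

/-- the maximal ideal of a quotient of a local ring. -/
theorem maximalIdeal_quotient (I : Ideal A) [Nontrivial (A ⧸ I)] [IsLocalRing (A ⧸ I)] :
    IsLocalRing.maximalIdeal (A ⧸ I) =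
      (IsLocalRing.maximalIdeal A).map (Ideal.Quotient.mk I) := by
  haveI : IsLocalHom (Ideal.Quotient.mk I) :=
    IsLocalHom.of_surjective _ Ideal.Quotient.mk_surjective
  apply le_antisymm
  · intro x hx
    obtain ⟨y, rfl⟩ := Ideal.Quotient.mk_surjective x
    refine Ideal.mem_map_of_mem _ ?_
    rw [IsLocalRing.mem_maximalIdeal, mem_nonunits_iff] at hx ⊢
    exact fun hu => hx (hu.map _)
  · exact ((IsLocalRing.local_hom_TFAE (Ideal.Quotient.mk I)).out 0 2).mp
      ‹IsLocalHom (Ideal.Quotient.mk I)›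

/-- Lifting regular sequences from `S/IS` to the flat `A`-algebra `S`, `A` local with nilpotent
maximal ideal and `I` a proper ideal. -/
theorem isWeaklyRegular_and_flat_of_quotient_base
    (hnil : IsNilpotent (IsLocalRing.maximalIdeal A)) (I : Ideal A) (hI : I ≠ ⊤)
    [Module.Flat A S] (fs : List S)
    (h : IsWeaklyRegular (S ⧸ I.map (algebraMap A S))
      (fs.map (Ideal.Quotient.mk (I.map (algebraMap A S))))) :
    IsWeaklyRegular S fs ∧
      ∀ i ≤ fs.length, Module.Flat A (S ⧸ (Ideal.ofList (fs.take i) • (⊤ : Submodule S S))) := by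
  haveI : Nontrivial (A ⧸ I) := Ideal.Quotient.nontrivial_iff.mpr hI
  haveI : IsLocalRing (A ⧸ I) :=
    IsLocalRing.of_surjective' (Ideal.Quotient.mk I) Ideal.Quotient.mk_surjective
  have hI𝔪 : I ≤ IsLocalRing.maximalIdeal A := IsLocalRing.le_maximalIdeal hI
  have hmax := maximalIdeal_quotient I
  have hnil₁ : IsNilpotent (IsLocalRing.maximalIdeal (A ⧸ I)) := by
    rw [hmax]
    obtain ⟨n, hn⟩ := hnil
    refine ⟨n, ?_⟩
    rw [← Ideal.map_pow, hn, Ideal.zero_eq_bot, Ideal.map_bot]
    rfl
  haveI : Module.Flat (A ⧸ I) (S ⧸ I.map (algebraMap A S)) :=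
    Module.Flat.of_linearEquiv (Algebra.TensorProduct.quotIdealMapEquivQuotTensor S I).toLinearEquiv
  have h1 := isWeaklyRegular_fibre_of_nilpotent hnil₁
    (fs.map (Ideal.Quotient.mk (I.map (algebraMap A S)))) (S ⧸ I.map (algebraMap A S)) h
  have h1' := (isWeaklyRegular_map_algebraMap_iff (S ⧸ I.map (algebraMap A S)) _ fs).mp h1
  have hK : (IsLocalRing.maximalIdeal (A ⧸ I)).map
      (algebraMap (A ⧸ I) (S ⧸ I.map (algebraMap A S))) =
      ((IsLocalRing.maximalIdeal A).map (algebraMap A S)).map
        (Ideal.Quotient.mk (I.map (algebraMap A S))) := by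
    rw [hmax, Ideal.map_map, Ideal.map_map]
    congr 1
  have h2 : IsWeaklyRegular
      (S ⧸ ((IsLocalRing.maximalIdeal A).map (algebraMap A S) • ⊤ : Submodule S S)) fs :=
    (LinearEquiv.isWeaklyRegular_congr (doubleQuotEquiv (I.map (algebraMap A S))
      ((IsLocalRing.maximalIdeal A).map (algebraMap A S)) _ (Ideal.map_mono hI𝔪) hK) fs).mp h1'
  exact isWeaklyRegular_and_flat_of_fibre_of_nilpotent hnil fs S h2

/-- Regular sequences on a flat algebra stay regular modulo `IS` (ring form). -/
theorem isWeaklyRegular_quotient_base_of_isWeaklyRegular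
    (hnil : IsNilpotent (IsLocalRing.maximalIdeal A)) (I : Ideal A)
    [Module.Flat A S] (fs : List S) (h : IsWeaklyRegular S fs) :
    IsWeaklyRegular (S ⧸ I.map (algebraMap A S))
      (fs.map (Ideal.Quotient.mk (I.map (algebraMap A S)))) := by
  obtain ⟨-, h1⟩ := flat_take_and_isWeaklyRegular_quot_of_nilpotent hnil fs S h
  have h2 : IsWeaklyRegular (S ⧸ I.map (algebraMap A S)) fs :=
    (LinearEquiv.isWeaklyRegular_congr (Submodule.quotEquivOfEq _ _
      (by rw [smul_eq_mul, Ideal.mul_top])) fs).mp (h1 I)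
  exact (isWeaklyRegular_map_algebraMap_iff (S ⧸ I.map (algebraMap A S)) _ fs).mpr h2

/-- A proper ideal stays proper after adding `IS`, `I` a proper ideal of the base. -/
theorem sup_map_ne_top_of_nilpotent (hnil : IsNilpotent (IsLocalRing.maximalIdeal A)) (I : Ideal A)
    (hI : I ≠ ⊤) (𝔣 : Ideal S) (h𝔣 : 𝔣 ≠ ⊤) : 𝔣.map (Ideal.Quotient.mk (I.map (algebraMap A S))) ≠ ⊤ := by
  obtain ⟨𝔐, h𝔐, hle⟩ := Ideal.exists_le_maximal 𝔣 h𝔣
  have hI𝔪 : I ≤ IsLocalRing.maximalIdeal A := IsLocalRing.le_maximalIdeal hI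
  have hIS : I.map (algebraMap A S) ≤ 𝔐 := by
    obtain ⟨n, hn⟩ := hnil
    intro x hx
    have h1 : x ^ n ∈ (I.map (algebraMap A S)) ^ n := Ideal.pow_mem_pow hx n
    have h2 : (I.map (algebraMap A S)) ^ n ≤ ⊥ := by
      rw [← Ideal.map_pow]
      have h3 : I ^ n ≤ ⊥ := by
        rw [← Ideal.zero_eq_bot, ← hn]
        exact Ideal.pow_right_mono hI𝔪 n
      exact (Ideal.map_mono h3).trans (le_of_eq Ideal.map_bot)
    have h4 : x ^ n ∈ 𝔐 := by
      rw [(Ideal.mem_bot).mp (h2 h1)]
      exact zero_mem _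
    exact h𝔐.isPrime.mem_of_pow_mem n h4
  intro htop
  have h1 : (1 : S ⧸ I.map (algebraMap A S)) ∈
      𝔣.map (Ideal.Quotient.mk (I.map (algebraMap A S))) := by
    rw [htop]
    trivial
  obtain ⟨y, hy, hy1⟩ := (Ideal.mem_map_iff_of_surjective _ Ideal.Quotient.mk_surjective).mp h1
  have h2 : y - 1 ∈ I.map (algebraMap A S) := by
    rw [← Ideal.Quotient.eq_zero_iff_mem, map_sub, hy1, map_one, sub_self]
  have h3 : (1 : S) ∈ 𝔐 := by
    have e : (1 : S) = y - (y - 1) := by ring
    rw [e]
    exact 𝔐.sub_mem (hle hy) (hIS h2)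
  exact h𝔐.ne_top ((Ideal.eq_top_iff_one _).mpr h3)

end quotbase

end Groth.Agent.H57
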