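import Mathlib
import Groth.Agent.H48.PtFlat2

/-!
# Universal injectivity of endomorphisms of projective modules over a local ring

Over a local ring `(R, 𝔪)`, an endomorphism `σ` of a projective module `N` which is injective modulo
`𝔪` (in the form `σ x ∈ 𝔪 N → x ∈ 𝔪 N`) is universally injective.
-/

set_option autoImplicit false
set_option linter.style.haveILetI false
universe u
open TensorProduct

namespace Groth.Agent.H57.ProjUnivInj

variable {R : Type u} [CommRing R]

/-- linear maps preserve `I • ⊤`. -/
theorem map_mem_smul_top {M M' : Type*} [AddCommGroup M] [AddCommGroup M'] [Module R M]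
    [Module R M'] (I : Ideal R) (g : M →ₗ[R] M') {x : M} (hx : x ∈ I • (⊤ : Submodule R M)) :
    g x ∈ I • (⊤ : Submodule R M') := by
  refine Submodule.smul_induction_on hx (fun r hr n _ => ?_) (fun a b ha hb => ?_)
  · rw [map_smul]
    exact Submodule.smul_mem_smul hr Submodule.mem_top
  · rw [map_add]
    exact add_mem ha hb

section Free

variable {ι : Type u}

/-- inclusion of the coordinates in a finite set -/
noncomputable def incl (J : Finset ι) : (↥J →₀ R) →ₗ[R] (ι →₀ R) :=
  Finsupp.lmapDomain R R (Subtype.val : ↥J → ι)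

/-- projection to the coordinates in a finite set -/
noncomputable def proj (J : Finset ι) : (ι →₀ R) →ₗ[R] (↥J →₀ R) :=
  Finsupp.lsubtypeDomain (J : Set ι)

theorem proj_incl (J : Finset ι) (g : ↥J →₀ R) : proj J (incl J g) = g := by
  ext j
  simp only [proj, incl, Finsupp.lsubtypeDomain_apply, Finsupp.lmapDomain_apply,
    Finsupp.subtypeDomain_apply]
  exact Finsupp.mapDomain_apply Subtype.val_injective g j

theorem incl_proj (J : Finset ι) (f : ι →₀ R) (hf : f.support ⊆ J) :
    incl J (proj J f) = f := by
  classical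
  ext a
  simp only [proj, incl, Finsupp.lsubtypeDomain_apply, Finsupp.lmapDomain_apply]
  by_cases ha : a ∈ J
  · have : a = ((⟨a, ha⟩ : ↥J) : ι) := rfl
    rw [this, Finsupp.mapDomain_apply Subtype.val_injective]
    rfl
  · rw [Finsupp.mapDomain_of_notMem_range]
    · symm
      by_contra hne
      exact ha (hf (Finsupp.mem_support_iff.mpr hne))
    · rintro ⟨⟨b, hb⟩, rfl⟩
      exact ha hb

variable [IsLocalRing R]

/-- **Free case.** -/
theorem lTensor_injective_of_free (φ : (ι →₀ R) →ₗ[R] (ι →₀ R))
    (hφ : ∀ x, φ x ∈ IsLocalRing.maximalIdeal R • (⊤ : Submodule R (ι →₀ R)) →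
      x ∈ IsLocalRing.maximalIdeal R • (⊤ : Submodule R (ι →₀ R)))
    (Q : Type u) [AddCommGroup Q] [Module R Q] : Function.Injective (φ.lTensor Q) := by
  classical
  rw [injective_iff_map_eq_zero]
  intro z hz
  -- `z` lives over a finite set of coordinates
  obtain ⟨T, hT⟩ := TensorProduct.exists_finset z
  let J : Finset ι := T.biUnion (fun i => i.2.support)
  let zJ : Q ⊗[R] (↥J →₀ R) := ∑ i ∈ T, i.1 ⊗ₜ[R] proj J i.2
  have hzJ : (incl J).lTensor Q zJ = z := by
    rw [hT, map_sum]
    refine Finset.sum_congr rfl (fun i hi => ?_)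
    rw [LinearMap.lTensor_tmul, incl_proj J i.2
      (Finset.subset_biUnion_of_mem (fun i : Q × (ι →₀ R) => i.2.support) hi)]
  -- the finite set of target coordinates
  let J' : Finset ι := J.biUnion (fun j => (φ (Finsupp.single j 1)).support)
  let φJ : (↥J →₀ R) →ₗ[R] (↥J' →₀ R) := (proj J').comp (φ.comp (incl J))
  have hcomm : (incl J').comp φJ = φ.comp (incl J) := by
    apply Finsupp.lhom_ext'
    intro j
    apply LinearMap.ext_ring
    simp only [LinearMap.comp_apply, Finsupp.lsingle_apply, φJ]
    have h1 : incl J (Finsupp.single j (1 : R)) = Finsupp.single (j : ι) 1 := by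
      simp [incl]
    rw [h1]
    exact incl_proj J' _ (Finset.subset_biUnion_of_mem
      (fun j : ι => (φ (Finsupp.single j 1)).support) j.2)
  -- `φJ` is injective modulo the maximal ideal, hence split injective
  have hφJ : ∀ g, φJ g ∈ IsLocalRing.maximalIdeal R • (⊤ : Submodule R (↥J' →₀ R)) →
      g ∈ IsLocalRing.maximalIdeal R • (⊤ : Submodule R (↥J →₀ R)) := by
    intro g hg
    have h1 : φ (incl J g) ∈ IsLocalRing.maximalIdeal R • (⊤ : Submodule R (ι →₀ R)) := by
      have := map_mem_smul_top (IsLocalRing.maximalIdeal R) (incl J') hg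
      rwa [← LinearMap.comp_apply, hcomm] at this
    have h2 := map_mem_smul_top (IsLocalRing.maximalIdeal R) (proj J) (hφ _ h1)
    rwa [proj_incl] at h2
  have hres : Function.Injective (φJ.lTensor (IsLocalRing.ResidueField R)) := by
    show Function.Injective (φJ.lTensor (R ⧸ IsLocalRing.maximalIdeal R))
    rw [LinearMap.lTensor_inj_iff_rTensor_inj,
      Groth.Agent.H48.PtFlat.rTensor_quot_injective_iff (IsLocalRing.maximalIdeal R) φJ]
    exact hφJ
  obtain ⟨l', hl'⟩ :=
    (IsLocalRing.split_injective_iff_lTensor_residueField_injective φJ).mpr hres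
  have hinjJ : Function.Injective (φJ.lTensor Q) := by
    have : (l'.lTensor Q).comp (φJ.lTensor Q) = LinearMap.id := by
      rw [← LinearMap.lTensor_comp, hl', LinearMap.lTensor_id]
    exact Function.HasLeftInverse.injective ⟨_, LinearMap.congr_fun this⟩
  have hinjJ' : Function.Injective ((incl (R := R) J').lTensor Q) := by
    have : ((proj (R := R) J').lTensor Q).comp ((incl (R := R) J').lTensor Q) =
        LinearMap.id := by
      rw [← LinearMap.lTensor_comp]
      have : (proj (R := R) J').comp (incl J') = LinearMap.id := LinearMap.ext (proj_incl J')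
      rw [this, LinearMap.lTensor_id]
    exact Function.HasLeftInverse.injective ⟨_, LinearMap.congr_fun this⟩
  -- conclusion
  have h3 : (incl (R := R) J').lTensor Q (φJ.lTensor Q zJ) = 0 := by
    rw [← LinearMap.comp_apply, ← LinearMap.lTensor_comp, hcomm, LinearMap.lTensor_comp,
      LinearMap.comp_apply, hzJ, hz]
  have h4 : zJ = 0 := hinjJ ((hinjJ' (h3.trans (map_zero _).symm)).trans (map_zero _).symm)
  rw [← hzJ, h4, map_zero]

end Free

variable [IsLocalRing R]

/-- **Projective case.** -/
theorem lTensor_injective_of_projective {N : Type u} [AddCommGroup N] [Module R N]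
    [Module.Projective R N] (σ : N →ₗ[R] N)
    (hσ : ∀ x, σ x ∈ IsLocalRing.maximalIdeal R • (⊤ : Submodule R N) →
      x ∈ IsLocalRing.maximalIdeal R • (⊤ : Submodule R N))
    (Q : Type u) [AddCommGroup Q] [Module R Q] : Function.Injective (σ.lTensor Q) := by
  obtain ⟨i, hi⟩ := Module.projective_def'.mp (inferInstance : Module.Projective R N)
  set π : (N →₀ R) →ₗ[R] N := Finsupp.linearCombination R id with hπ
  have hπi : ∀ n, π (i n) = n := fun n => LinearMap.congr_fun hi n
  let φ : (N →₀ R) →ₗ[R] (N →₀ R) := i.comp (σ.comp π) + (LinearMap.id - i.comp π)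
  have hφi : ∀ n, φ (i n) = i (σ n) := by
    intro n
    simp only [φ, LinearMap.add_apply, LinearMap.comp_apply, LinearMap.sub_apply,
      LinearMap.id_apply, hπi]
    rw [sub_self, add_zero]
  have hπφ : ∀ x, π (φ x) = σ (π x) := by
    intro x
    simp only [φ, LinearMap.add_apply, LinearMap.comp_apply, LinearMap.sub_apply,
      LinearMap.id_apply, map_add, map_sub, hπi]
    rw [sub_self, add_zero]
  have hφ : ∀ x, φ x ∈ IsLocalRing.maximalIdeal R • (⊤ : Submodule R (N →₀ R)) →
      x ∈ IsLocalRing.maximalIdeal R • (⊤ : Submodule R (N →₀ R)) := by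
    intro x hx
    have h1 : π x ∈ IsLocalRing.maximalIdeal R • (⊤ : Submodule R N) := by
      apply hσ
      rw [← hπφ]
      exact map_mem_smul_top _ π hx
    have h2 : i (π x) ∈ IsLocalRing.maximalIdeal R • (⊤ : Submodule R (N →₀ R)) :=
      map_mem_smul_top _ i h1
    have h3 : x - i (π x) ∈ IsLocalRing.maximalIdeal R • (⊤ : Submodule R (N →₀ R)) := by
      have h4 : φ x - i (π (φ x)) = x - i (π x) := by
        rw [hπφ]
        simp only [φ, LinearMap.add_apply, LinearMap.comp_apply, LinearMap.sub_apply,
          LinearMap.id_apply]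
        abel
      rw [← h4]
      exact sub_mem hx (map_mem_smul_top _ (i.comp π) hx)
    have := add_mem h2 h3
    rwa [add_sub_cancel] at this
  have hF := lTensor_injective_of_free φ hφ Q
  rw [injective_iff_map_eq_zero]
  intro z hz
  have h1 : φ.lTensor Q (i.lTensor Q z) = 0 := by
    have hcomp : φ.comp i = i.comp σ := LinearMap.ext hφi
    rw [← LinearMap.comp_apply, ← LinearMap.lTensor_comp, hcomp, LinearMap.lTensor_comp,
      LinearMap.comp_apply, hz, map_zero]
  have h2 : i.lTensor Q z = 0 := hF (h1.trans (map_zero _).symm)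
  have h3 : (π.lTensor Q) (i.lTensor Q z) = z := by
    rw [← LinearMap.comp_apply, ← LinearMap.lTensor_comp, hi, LinearMap.lTensor_id,
      LinearMap.id_apply]
  rw [← h3, h2, map_zero]

end Groth.Agent.H57.ProjUnivInj
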