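import Groth.Agent.H57.RegFlat2

/-! More on regular sequences and flatness (helper57). -/

set_option autoImplicit false

universe u

open TensorProduct LinearMap RingTheory.Sequence
open scoped Pointwise

namespace Groth.Agent.H57

/-- If `M ⧸ R` is flat over `A`, `R₀ ≤ R ≤ R₀ + 𝔞M` and `𝔞B ⊆ rad B`, then `R = R₀` (`M` a finite
module over the Noetherian ring `B`). -/
theorem le_of_flat_quotient_of_le_sup {A B : Type u} [CommRing A] [CommRing B] [Algebra A B]
    [IsNoetherianRing B] (M : Type u) [AddCommGroup M] [Module B M] [Module A M]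
    [IsScalarTower A B M] [Module.Finite B M] (𝔞 : Ideal A)
    (h𝔞 : 𝔞.map (algebraMap A B) ≤ Ideal.jacobson ⊥) (R₀ R : Submodule B M) (hle : R₀ ≤ R)
    [Module.Flat A (M ⧸ R)]
    (h : R ≤ R₀ ⊔ (𝔞.map (algebraMap A B) • ⊤ : Submodule B M)) : R ≤ R₀ := by
  haveI : IsNoetherian B M := isNoetherian_of_isNoetherianRing_of_finite B M
  haveI : Module.Flat A (M ⧸ R.restrictScalars A) :=
    Module.Flat.of_linearEquiv (Submodule.Quotient.restrictScalarsEquiv A R)
  refine Submodule.le_of_le_smul_of_le_jacobson_bot (IsNoetherian.noetherian R) h𝔞 ?_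
  intro x hx
  obtain ⟨y, hy, z, hz, rfl⟩ := Submodule.mem_sup.mp (h hx)
  have hzR : z ∈ R := by
    have e : z = (y + z) - y := by abel
    rw [e]
    exact R.sub_mem hx (hle hy)
  have hz2 : z ∈ (𝔞 • ⊤ : Submodule A M) := (mem_map_smul_top_iff (B := B) M 𝔞 z).mp hz
  have hz3 := mem_smul_of_mem_of_mem_smul_top 𝔞 (R.restrictScalars A) z hzR hz2
  have hz4 : z ∈ (𝔞.map (algebraMap A B) • R : Submodule B M) := by
    refine Submodule.smul_induction_on hz3 ?_ ?_
    · intro c hc i hi
      rw [← algebraMap_smul B c i]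
      exact Submodule.smul_mem_smul (Ideal.mem_map_of_mem _ hc) hi
    · intro u v hu hv
      exact add_mem hu hv
  exact Submodule.mem_sup.mpr ⟨y, hy, z, hz4, rfl⟩

end Groth.Agent.H57
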