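import Mathlib.RingTheory.Regular.RegularSequence
import Groth.Agent.H57.FlatInj

/-!
# Regular sequences kill `Tor₁(A/J, M)` (element form)

If `fs` is a weakly regular sequence on `M` and `J` is the ideal generated by `fs`, then
`J ⊗ M → M` is injective.
-/

set_option autoImplicit false

universe u v

open TensorProduct LinearMap RingTheory.Sequence
open scoped Pointwise

namespace Groth.Agent.H57

variable {A : Type u} [CommRing A]

/-- `f ⊗ (multiplication of ζ) = ι (f • ζ)` in `J ⊗ M`, for `ζ ∈ J'' ⊗ M`, `J'' ≤ J`, `f ∈ J`. -/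
theorem tmul_mulMap_eq {J'' J : Ideal A} (hle : J'' ≤ J) {f : A} (hf : f ∈ J)
    (M : Type v) [AddCommGroup M] [Module A M] (ζ : J'' ⊗[A] M) :
    (⟨f, hf⟩ : J) ⊗ₜ[A] (mulMap J'' M ζ) = rTensor M (Submodule.inclusion hle) (f • ζ) := by
  induction ζ using TensorProduct.induction_on with
  | zero => simp
  | tmul j x =>
    rw [mulMap_tmul, TensorProduct.tmul_smul, TensorProduct.smul_tmul', TensorProduct.smul_tmul',
      rTensor_tmul]
    congr 1
    apply Subtype.ext
    simp [mul_comm]
  | add a b ha hb => rw [map_add, tmul_add, ha, hb, smul_add, map_add]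

/-- compatibility of the multiplication maps with inclusion of ideals. -/
theorem mulMap_rTensor_inclusion {J'' J : Ideal A} (hle : J'' ≤ J)
    (M : Type v) [AddCommGroup M] [Module A M] (ζ : J'' ⊗[A] M) :
    mulMap J M (rTensor M (Submodule.inclusion hle) ζ) = mulMap J'' M ζ := by
  induction ζ using TensorProduct.induction_on with
  | zero => simp
  | tmul j x => rw [rTensor_tmul, mulMap_tmul, mulMap_tmul]; rfl
  | add a b ha hb => rw [map_add, map_add, ha, hb, map_add]

/-- an element of `J'' ⊗ M` dying in `J'' ⊗ M/fM` is a multiple of `f`. -/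
theorem exists_smul_eq_of_lTensor_mkQ_eq_zero (J'' : Ideal A) (f : A)
    (M : Type v) [AddCommGroup M] [Module A M] (ξ : J'' ⊗[A] M)
    (h : lTensor J'' (f • (⊤ : Submodule A M)).mkQ ξ = 0) : ∃ ζ : J'' ⊗[A] M, ξ = f • ζ := by
  have hex := lTensor_exact J'' (LinearMap.exact_subtype_mkQ (f • (⊤ : Submodule A M)))
    (Submodule.mkQ_surjective _)
  obtain ⟨θ, rfl⟩ := (hex ξ).mp h
  clear h
  induction θ using TensorProduct.induction_on with
  | zero => exact ⟨0, by simp⟩
  | tmul j n =>
    obtain ⟨n, hn⟩ := n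
    obtain ⟨x, -, rfl⟩ := (Submodule.mem_smul_pointwise_iff_exists _ _ _).mp hn
    exact ⟨j ⊗ₜ x, by rw [lTensor_tmul, Submodule.subtype_apply, TensorProduct.tmul_smul]⟩
  | add a b ha hb =>
    obtain ⟨ζ₁, h₁⟩ := ha
    obtain ⟨ζ₂, h₂⟩ := hb
    exact ⟨ζ₁ + ζ₂, by rw [map_add, h₁, h₂, smul_add]⟩

/-- decomposition of elements of `(span {f} ⊔ J'') ⊗ M`. -/
theorem exists_decomp (f : A) (J'' : Ideal A) (M : Type v) [AddCommGroup M] [Module A M]
    (ξ : (Ideal.span {f} ⊔ J'' : Ideal A) ⊗[A] M) :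
    ∃ (m : M) (ξ'' : J'' ⊗[A] M),
      ξ = (⟨f, (le_sup_left : Ideal.span {f} ≤ Ideal.span {f} ⊔ J'')
          (Ideal.mem_span_singleton_self f)⟩ : (Ideal.span {f} ⊔ J'' : Ideal A)) ⊗ₜ[A] m +
        rTensor M (Submodule.inclusion (le_sup_right : J'' ≤ Ideal.span {f} ⊔ J'')) ξ'' := by
  induction ξ using TensorProduct.induction_on with
  | zero => exact ⟨0, 0, by simp⟩
  | tmul j x =>
    obtain ⟨j, hj⟩ := j
    obtain ⟨y, hy, z, hz, rfl⟩ := Submodule.mem_sup.mp hj
    obtain ⟨a, rfl⟩ := Ideal.mem_span_singleton'.mp hy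
    refine ⟨a • x, (⟨z, hz⟩ : J'') ⊗ₜ[A] x, ?_⟩
    rw [rTensor_tmul, TensorProduct.tmul_smul, TensorProduct.smul_tmul', ← TensorProduct.add_tmul]
    congr 1
  | add a b ha hb =>
    obtain ⟨m₁, ξ₁, h₁⟩ := ha
    obtain ⟨m₂, ξ₂, h₂⟩ := hb
    refine ⟨m₁ + m₂, ξ₁ + ξ₂, ?_⟩
    rw [h₁, h₂, tmul_add, map_add]
    abel

/-- the inductive step. -/
theorem mulMap_injective_sup (f : A) (J'' : Ideal A) (M : Type v) [AddCommGroup M] [Module A M]
    (hf : IsSMulRegular M f) (hinj : Function.Injective (mulMap J'' (QuotSMulTop f M))) :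
    Function.Injective (mulMap (Ideal.span {f} ⊔ J'') M) := by
  rw [injective_iff_map_eq_zero]
  intro ξ hξ
  obtain ⟨m, ξ'', rfl⟩ := exists_decomp f J'' M ξ
  rw [map_add, mulMap_tmul, mulMap_rTensor_inclusion] at hξ
  -- reduce modulo `f`
  have h1 : mulMap J'' (QuotSMulTop f M) (lTensor J'' (f • (⊤ : Submodule A M)).mkQ ξ'') = 0 := by
    rw [mulMap_lTensor]
    have h2 : mulMap J'' M ξ'' = -(f • m) := eq_neg_of_add_eq_zero_right hξ
    rw [h2, map_neg, neg_eq_zero, Submodule.mkQ_apply, Submodule.Quotient.mk_eq_zero]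
    exact Submodule.smul_mem_pointwise_smul m f ⊤ Submodule.mem_top
  have h3 : lTensor J'' (f • (⊤ : Submodule A M)).mkQ ξ'' = 0 := by
    apply hinj
    rw [h1, map_zero]
  obtain ⟨ζ, rfl⟩ := exists_smul_eq_of_lTensor_mkQ_eq_zero J'' f M ξ'' h3
  have h4 : f • (m + mulMap J'' M ζ) = 0 := by
    rw [smul_add, ← map_smul]
    exact hξ
  have h5 : m + mulMap J'' M ζ = 0 := hf (by
    show f • (m + mulMap J'' M ζ) = f • (0 : M)
    rw [h4, smul_zero])
  have h6 : m = -(mulMap J'' M ζ) := eq_neg_of_add_eq_zero_left h5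
  rw [h6, tmul_neg, tmul_mulMap_eq le_sup_right, neg_add_cancel]

/-- `J ⊗ M → M` is injective when `J` is generated by an `M`-regular sequence. -/
theorem mulMap_injective_of_isWeaklyRegular (fs : List A) :
    ∀ (M : Type v) [AddCommGroup M] [Module A M], IsWeaklyRegular M fs →
      Function.Injective (mulMap (Ideal.ofList fs) M) := by
  induction fs with
  | nil =>
    intro M _ _ _
    have h0 : ∀ ξ : (Ideal.ofList ([] : List A)) ⊗[A] M, ξ = 0 := by
      intro ξ
      induction ξ using TensorProduct.induction_on with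
      | zero => rfl
      | tmul b n =>
        have hb : b = 0 := by
          apply Subtype.ext
          have hb2 : (b : A) ∈ (⊥ : Ideal A) := by
            have := b.2
            simpa [Ideal.ofList_nil] using this
          exact (Submodule.mem_bot A).mp hb2
        rw [hb, zero_tmul]
      | add a b ha hb => rw [ha, hb, add_zero]
    intro x y _
    rw [h0 x, h0 y]
  | cons f fs ih =>
    intro M _ _ h
    rw [isWeaklyRegular_cons_iff] at h
    rw [Ideal.ofList_cons]
    exact mulMap_injective_sup f (Ideal.ofList fs) M h.1 (ih (QuotSMulTop f M) h.2)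

/-- `rTensor` form. -/
theorem rTensor_subtype_injective_of_isWeaklyRegular (fs : List A)
    (M : Type v) [AddCommGroup M] [Module A M] (h : IsWeaklyRegular M fs) :
    Function.Injective (rTensor M (Ideal.ofList fs).subtype) := by
  have h1 := mulMap_injective_of_isWeaklyRegular fs M h
  unfold mulMap at h1
  rw [LinearMap.coe_comp] at h1
  exact Function.Injective.of_comp h1

end Groth.Agent.H57
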