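import Groth.Agent.S0389
import Mathlib

set_option autoImplicit false
universe u
open TensorProduct

namespace Groth.Agent.H57.Strat

attribute [local instance] Algebra.TensorProduct.rightAlgebra in
/-- Generic freeness at a prime of an arbitrary ring, in universal form. -/
theorem genFree_prime (A B M : Type u) [CommRing A] [CommRing B] [Algebra A B]
    [Algebra.FiniteType A B] [AddCommGroup M] [Module B M] [Module A M] [IsScalarTower A B M]
    [Module.Finite B M] (p : Ideal A) [p.IsPrime] :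
    ∃ h : A, h ∉ p ∧ ∀ (R' : Type u) [CommRing R'] [Algebra A R'],
      (∀ a ∈ p, algebraMap A R' a = 0) → IsUnit (algebraMap A R' h) →
        Module.Free R' (R' ⊗[A] M) := by
  classical
  obtain ⟨hb, hne, hfree, -, -, -⟩ := Groth.Agent.S0389.result (R := A ⧸ p)
    (S := (A ⧸ p) ⊗[A] B) (M := ((A ⧸ p) ⊗[A] B) ⊗[B] M)
  obtain ⟨h, rfl⟩ := Ideal.Quotient.mk_surjective hb
  refine ⟨h, fun hh => hne (Ideal.Quotient.eq_zero_iff_mem.mpr hh), ?_⟩
  intro R' _ _ hp0 hunit
  let k := A ⧸ p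
  let L := Localization.Away (Ideal.Quotient.mk p h)
  let g₁ : k →+* R' := Ideal.Quotient.lift p (algebraMap A R') hp0
  have hu1 : IsUnit (g₁ (Ideal.Quotient.mk p h)) := hunit
  let g₂ : L →+* R' := IsLocalization.Away.lift (Ideal.Quotient.mk p h) hu1
  letI : Algebra k R' := g₁.toAlgebra
  letI : Algebra L R' := g₂.toAlgebra
  haveI : IsScalarTower A k R' := IsScalarTower.of_algebraMap_eq (fun a => rfl)
  haveI : IsScalarTower k L R' :=
    IsScalarTower.of_algebraMap_eq (fun x => (IsLocalization.Away.lift_eq _ hu1 x).symm)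
  let e₁ : ((A ⧸ p) ⊗[A] B) ⊗[B] M ≃ₗ[k] k ⊗[A] M :=
    Algebra.IsPushout.cancelBaseChange A k B (k ⊗[A] B) M
  let e₂ : R' ⊗[L] (L ⊗[k] (((A ⧸ p) ⊗[A] B) ⊗[B] M)) ≃ₗ[R']
      R' ⊗[k] (((A ⧸ p) ⊗[A] B) ⊗[B] M) :=
    TensorProduct.AlgebraTensorModule.cancelBaseChange k L R' R' _
  let e₃ : R' ⊗[k] (((A ⧸ p) ⊗[A] B) ⊗[B] M) ≃ₗ[R'] R' ⊗[k] (k ⊗[A] M) :=
    TensorProduct.AlgebraTensorModule.congr (LinearEquiv.refl R' R') e₁
  let e₄ : R' ⊗[k] (k ⊗[A] M) ≃ₗ[R'] R' ⊗[A] M :=
    TensorProduct.AlgebraTensorModule.cancelBaseChange A k R' R' M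
  haveI : Module.Free L (L ⊗[k] (((A ⧸ p) ⊗[A] B) ⊗[B] M)) := hfree
  haveI : Module.Free R' (R' ⊗[L] (L ⊗[k] (((A ⧸ p) ⊗[A] B) ⊗[B] M))) := inferInstance
  exact Module.Free.of_equiv (e₂ ≪≫ₗ e₃ ≪≫ₗ e₄)

/-- The universal form of the stratification claim, relative to an ideal `I`. -/
def Claim (A M : Type u) [CommRing A] [AddCommGroup M] [Module A M] (I : Ideal A) : Prop :=
  ∃ l : List A, I ⊔ Ideal.span {a | a ∈ l} = ⊤ ∧
    ∀ (i : ℕ) (hi : i < l.length) (R' : Type u) [CommRing R'] [Algebra A R'],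
      IsUnit (algebraMap A R' l[i]) → (∀ a ∈ I, algebraMap A R' a = 0) →
      (∀ a ∈ l.take i, algebraMap A R' a = 0) → Module.Free R' (R' ⊗[A] M)

theorem claim_noeth (A B M : Type u) [CommRing A] [IsNoetherianRing A] [CommRing B] [Algebra A B]
    [Algebra.FiniteType A B] [AddCommGroup M] [Module B M] [Module A M] [IsScalarTower A B M]
    [Module.Finite B M] (I : Ideal A) : Claim A M I := by
  classical
  refine IsNoetherian.induction (P := fun I => Claim A M I) ?_ I
  intro I IH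
  by_cases hI : I = ⊤
  · refine ⟨[], by rw [hI, top_sup_eq], ?_⟩
    intro i hi
    exact absurd hi (Nat.not_lt_zero _)
  haveI : Nontrivial (A ⧸ I) := Ideal.Quotient.nontrivial_iff.mpr hI
  obtain ⟨p, hp⟩ := associatedPrimes.nonempty A (A ⧸ I)
  obtain ⟨hpprime, xb, hpx⟩ := isAssociatedPrime_iff.mp hp
  obtain ⟨x, rfl⟩ := Ideal.Quotient.mk_surjective xb
  have hmem : ∀ a : A, a ∈ p ↔ a * x ∈ I := by
    intro a
    rw [hpx, Submodule.mem_colon_singleton, Submodule.mem_bot]
    rw [← Ideal.Quotient.eq_zero_iff_mem, map_mul]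
    rfl
  obtain ⟨h, hhp, hfree⟩ := genFree_prime A B M p
  have hfI : x * h ∉ I := by
    intro hc
    apply hhp
    rw [hmem, mul_comm]
    exact hc
  have hlt : I < I ⊔ Ideal.span {x * h} := by
    refine lt_of_le_of_ne le_sup_left ?_
    intro heq
    apply hfI
    rw [heq]
    exact Ideal.mem_sup_right (Ideal.subset_span rfl)
  obtain ⟨l, hl, hfr⟩ := IH _ hlt
  refine ⟨(x * h) :: l, ?_, ?_⟩
  · have : {a | a ∈ (x * h) :: l} = insert (x * h) {a | a ∈ l} := by
      ext a; simp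
    rw [this, Ideal.span_insert, ← sup_assoc]
    exact hl
  · intro i hi R' _ _ hunit hI0 htake
    cases i with
    | zero =>
      have hunit' : IsUnit (algebraMap A R' (x * h)) := hunit
      rw [map_mul] at hunit'
      have hxu : IsUnit (algebraMap A R' x) := isUnit_of_mul_isUnit_left hunit'
      have hhu : IsUnit (algebraMap A R' h) := isUnit_of_mul_isUnit_right hunit'
      refine hfree R' ?_ hhu
      intro a ha
      have h1 : algebraMap A R' (a * x) = 0 := hI0 _ ((hmem a).mp ha)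
      rw [map_mul] at h1
      exact (hxu.mul_left_eq_zero).mp h1
    | succ j =>
      have hj : j < l.length := by simpa using hi
      refine hfr j hj R' hunit ?_ ?_
      · intro a ha
        have hker : I ⊔ Ideal.span {x * h} ≤ RingHom.ker (algebraMap A R') := by
          refine sup_le (fun b hb => hI0 b hb) ?_
          rw [Ideal.span_le]
          intro b hb
          rw [Set.mem_singleton_iff] at hb
          subst hb
          exact htake _ (by simp)
        exact hker ha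
      · intro a ha
        exact htake a (by simp [ha])


theorem piece (A₀ A M₀ M : Type u) [CommRing A₀] [CommRing A] [Algebra A₀ A] [AddCommGroup M₀]
    [Module A₀ M₀] [AddCommGroup M] [Module A M] (eM : A ⊗[A₀] M₀ ≃ₗ[A] M) (l₀ : List A₀)
    (hfr : ∀ (i : ℕ) (hi : i < l₀.length) (R' : Type u) [CommRing R'] [Algebra A₀ R'],
      IsUnit (algebraMap A₀ R' l₀[i]) → (∀ a ∈ (⊥ : Ideal A₀), algebraMap A₀ R' a = 0) →
      (∀ a ∈ l₀.take i, algebraMap A₀ R' a = 0) → Module.Free R' (R' ⊗[A₀] M₀))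
    (i : ℕ) (hi₀ : i < l₀.length) (R' : Type u) [CommRing R'] [Algebra A R']
    (hunit : IsUnit (algebraMap A R' (algebraMap A₀ A l₀[i])))
    (hzero : ∀ a ∈ l₀.take i, algebraMap A R' (algebraMap A₀ A a) = 0) :
    Module.Free R' (R' ⊗[A] M) := by
  letI : Algebra A₀ R' := ((algebraMap A R').comp (algebraMap A₀ A)).toAlgebra
  haveI : IsScalarTower A₀ A R' := IsScalarTower.of_algebraMap_eq (fun _ => rfl)
  have hfree : Module.Free R' (R' ⊗[A₀] M₀) := by
    refine hfr i hi₀ R' hunit ?_ hzero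
    intro a ha
    rw [Ideal.mem_bot] at ha
    rw [ha, map_zero]
  let e : R' ⊗[A] M ≃ₗ[R'] R' ⊗[A₀] M₀ :=
    (TensorProduct.AlgebraTensorModule.congr (LinearEquiv.refl R' R') eM.symm) ≪≫ₗ
      TensorProduct.AlgebraTensorModule.cancelBaseChange A₀ A R' R' M₀
  exact Module.Free.of_equiv e.symm

end Groth.Agent.H57.Strat
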